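import Cfsg.Agent.Lib.K41.Der.Crit

/-!
The arithmetic behind the criteria: it is enough to look at the largest admissible number of pieces
and at those forced by the bound on totally singular pieces.
-/

set_option autoImplicit false

namespace Cfsg.Agent.Lib.K41.Der

variable {N m i T : ℕ} {pl dl : Prop}

theorem mul_lt_aux {a b c : ℕ} (h : a < b) : a * c + c ≤ b * c := by
  calc a * c + c = (a + 1) * c := (Nat.succ_mul a c).symm
    _ ≤ b * c := Nat.mul_le_mul_right c h

theorem lt_of_mul_le_add {a b c r : ℕ} (h : a * c ≤ b * c + r) (hr : r < c) : a ≤ b := by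
  by_contra hab
  have := mul_lt_aux (c := c) (not_le.mp hab)
  omega

theorem div_mod_eq (N c : ℕ) : N / c * c + N % c = N := by rw [mul_comm]; exact Nat.div_add_mod N c

theorem par_odd (hi : Odd i) (s : ℕ) : Par i s := fun h => absurd h (Nat.not_even_iff_odd.mpr hi)

theorem par_even (hi : Even i) (s : ℕ) : Par i s ↔ Even s := ⟨fun h => h hi, fun h _ => h⟩

theorem adm_of_lt {s : ℕ} (h : s * pdim i < N) : Adm N pl i s :=
  ⟨h.le, fun he => absurd he h.ne⟩

theorem le_div_of_adm (hi : 0 < i) {s : ℕ} (h : Adm N pl i s) : s ≤ N / pdim i :=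
  (Nat.le_div_iff_mul_le (pdim_pos hi)).mpr h.1

/-- The largest admissible number of pieces. -/
theorem top_of (hi : 0 < i) (hN : 0 < N) :
    (Adm N pl i (N / pdim i) ∧ Top N pl i (N / pdim i) ∧
      (N % pdim i ≠ 0 ∨ (N % pdim i = 0 ∧ (pl ↔ Par i (N / pdim i))))) ∨
    (N % pdim i = 0 ∧ ¬ (pl ↔ Par i (N / pdim i)) ∧ 1 ≤ N / pdim i ∧ Top N pl i (N / pdim i - 1) ∧
      ∀ s, Adm N pl i s → s < N / pdim i) := by
  classical
  have hc := pdim_pos hi
  have hd := div_mod_eq N (pdim i)
  by_cases hk : N % pdim i = 0 ∧ ¬ (pl ↔ Par i (N / pdim i))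
  · right
    have hlt : ∀ s, Adm N pl i s → s < N / pdim i := fun s hs => by
      rcases lt_or_eq_of_le (le_div_of_adm hi hs) with h | h
      · exact h
      · exact absurd (h ▸ hs.2 (by rw [h]; omega)) hk.2
    have h1 : 1 ≤ N / pdim i := by
      by_contra h0
      rw [Nat.lt_one_iff.mp (not_le.mp h0), zero_mul] at hd
      omega
    refine ⟨hk.1, hk.2, h1, ⟨adm_of_lt ?_, fun t ht hadm => ?_⟩, hlt⟩
    · have := mul_lt_aux (c := pdim i) (show N / pdim i - 1 < N / pdim i by omega)
      omega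
    · have := hlt t hadm
      omega
  · left
    have hadm : Adm N pl i (N / pdim i) := ⟨by omega, fun he => by
      by_contra hne
      exact hk ⟨by omega, hne⟩⟩
    refine ⟨hadm, ⟨hadm, fun t ht h => ?_⟩, ?_⟩
    · have := le_div_of_adm hi h
      omega
    · by_cases h0 : N % pdim i = 0
      · exact Or.inr ⟨h0, by by_contra hne; exact hk ⟨h0, hne⟩⟩
      · exact Or.inl h0

theorem top_pos (hi : 0 < i) (hN : 0 < N) {P : ℕ → ℕ → Prop} (h0 : P 0 0) (hj : ∀ j, P 0 j → j = 0)
    (H : ∀ s, Top N pl i s → (∃ j, 0 < j ∧ P s j) ∨ ¬ P s 0) {s : ℕ} (hs : Top N pl i s) : 1 ≤ s := by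
  by_contra h
  obtain rfl : s = 0 := by omega
  rcases H 0 hs with ⟨j, hj0, hP⟩ | h1
  · exact absurd (hj j hP) hj0.ne'
  · exact h1 h0

/-! ### Nondegenerate subspaces -/

theorem nd_arith (hi : 0 < i) (hm : 2 ≤ m) (hmN : m < N)
    (H : ∀ s, Top N pl i s → (∃ j, 0 < j ∧ NDFit N pl dl i m s j) ∨ ¬ NDFit N pl dl i m s 0) :
    (∀ s, 1 ≤ s → Adm N pl i s → ∃ j, NDFit N pl dl i m s j) ↔
      ((N % pdim i = 0 ∧ ¬ (pl ↔ Par i (N / pdim i))) ∨
       (m % pdim i = 0 ∧ (Par i (m / pdim i) ↔ dl)) ∨
       (0 < m % pdim i ∧ 0 < N % pdim i ∧ 1 ≤ m / pdim i ∧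
         (m % pdim i < N % pdim i ∨
          (m % pdim i = N % pdim i ∧ ((pl ↔ Par i (N / pdim i)) ↔ (dl ↔ Par i (m / pdim i))))))) := by
  have hc := pdim_pos hi
  have hdN := div_mod_eq N (pdim i)
  have hdm := div_mod_eq m (pdim i)
  have hlc := Nat.mod_lt m hc
  have hkc := Nat.mod_lt N hc
  obtain ⟨K, hK⟩ : ∃ K, N / pdim i = K := ⟨_, rfl⟩
  obtain ⟨k, hk⟩ : ∃ k, N % pdim i = k := ⟨_, rfl⟩
  obtain ⟨M, hM⟩ : ∃ M, m / pdim i = M := ⟨_, rfl⟩
  obtain ⟨l, hl⟩ : ∃ l, m % pdim i = l := ⟨_, rfl⟩
  have hMK : M ≤ K := hM ▸ hK ▸ Nat.div_le_div_right hmN.le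
  simp only [hK, hk, hM, hl] at hdN hdm hlc hkc ⊢
  constructor
  · intro hall
    have hto := top_of (N := N) (pl := pl) hi (by omega)
    rw [hK, hk] at hto
    rcases hto with ⟨hadm, htop, hcase⟩ | ⟨h0, hne, -, -, -⟩
    swap
    · exact Or.inl ⟨h0, hne⟩
    right
    by_cases hl0 : l = 0
    · left
      refine ⟨hl0, ?_⟩
      have hM1 : 1 ≤ M := by
        by_contra h
        rw [Nat.lt_one_iff.mp (not_le.mp h), zero_mul] at hdm
        omega
      obtain ⟨j, hj1, hj2, hj3, hj4, hj5⟩ := hall K (hMK.trans' hM1) hadm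
      have hjM : j ≤ M := lt_of_mul_le_add (r := l) (by omega) hlc
      rcases lt_or_eq_of_le hjM with h | h
      · exfalso
        have := mul_lt_aux (c := pdim i) h
        omega
      · subst j
        exact hj4 (by omega)
    · right
      have hl1 : 0 < l := Nat.pos_of_ne_zero hl0
      have hK1 : 1 ≤ K := top_pos (P := NDFit N pl dl i m) hi (by omega)
        ⟨le_rfl, by omega, by rw [zero_mul]; omega, fun h => absurd h (by rw [zero_mul]; omega),
          fun h => absurd h (by rw [zero_mul]; omega)⟩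
        (fun j h => Nat.le_zero.mp h.1) H htop
      obtain ⟨j, hj1, hj2, hj3, hj4, hj5⟩ := hall K hK1 hadm
      have hjM : j ≤ M := lt_of_mul_le_add (r := l) (by omega) hlc
      have hjM' : j = M := by
        rcases lt_or_eq_of_le hjM with h | h
        · exfalso
          have := mul_lt_aux (c := pdim i) h
          omega
        · exact h
      subst j
      have hM1 : 1 ≤ M := by
        by_contra h
        rcases H K htop with ⟨j, hj0, hj⟩ | h1
        · have : j ≤ M := lt_of_mul_le_add (r := l) (by have := hj.2.1; omega) hlc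
          omega
        · have hM0 : M = 0 := by omega
          subst hM0
          exact h1 ⟨hj1, hj2, hj3, hj4, hj5⟩
      refine ⟨hl1, by omega, hM1, ?_⟩
      rcases lt_or_eq_of_le (show l ≤ k by omega) with h | h
      · exact Or.inl h
      · refine Or.inr ⟨h, ?_⟩
        have := hj5 (by omega)
        by_cases h1 : pl <;> by_cases h2 : dl <;> by_cases h3 : Par i K <;>
          by_cases h4 : Par i M <;> simp_all
  · intro hC s hs1 hs
    have hsK : s ≤ K := hK ▸ le_div_of_adm hi hs
    rcases lt_or_ge s M with hsM | hsM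
    · have := mul_lt_aux (c := pdim i) hsM
      refine ⟨s, le_rfl, by omega, by omega, fun he => ?_, fun he => ?_⟩
      · omega
      · omega
    rcases eq_or_ne l 0 with hl0 | hl0
    · by_cases hB : (Par i M ↔ dl)
      · refine ⟨M, hsM, by omega, ?_, fun _ => hB, fun he => ?_⟩
        · have := hs.1
          omega
        · have h1 := hs.2 (by omega)
          by_cases g1 : pl <;> by_cases g2 : dl <;> by_cases g3 : Par i s <;>
            by_cases g4 : Par i M <;> simp_all
      · rcases hC with ⟨h0, hne⟩ | ⟨-, hB'⟩ | ⟨h, -⟩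
        swap
        · exact absurd hB' hB
        swap
        · omega
        have hlt : s < K := by
          rcases lt_or_eq_of_le hsK with h | h
          · exact h
          · exact absurd (h ▸ hs.2 (by rw [h]; omega)) hne
        have hM1 : 1 ≤ M := by
          by_contra h
          rw [Nat.lt_one_iff.mp (not_le.mp h), zero_mul] at hdm
          omega
        have h1 := mul_lt_aux (c := pdim i) (show M - 1 < M by omega)
        have h2 := mul_lt_aux (c := pdim i) hlt
        have h3 : (M - 1) * pdim i + pdim i = M * pdim i := by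
          rw [← Nat.succ_mul]; congr 1; omega
        refine ⟨M - 1, by omega, by omega, by omega, fun he => absurd he (by omega), fun he => ?_⟩
        have hsK' : s + 1 = K := by
          have : K * pdim i = (s + 1) * pdim i := by rw [Nat.succ_mul]; omega
          exact (Nat.eq_of_mul_eq_mul_right hc this).symm
        have hp1 := par_add i (M - 1) 1
        have hp2 := par_add i s 1
        rw [show M - 1 + 1 = M by omega] at hp1
        rw [hsK'] at hp2
        by_cases g1 : pl <;> by_cases g2 : dl <;> by_cases g3 : Par i s <;>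
          by_cases g4 : Par i (M - 1) <;> by_cases g5 : Par i 1 <;> simp_all
    · refine ⟨M, hsM, by omega, ?_, fun he => absurd he (by omega), fun he => ?_⟩
      · rcases lt_or_eq_of_le hsK with h | h
        · have := mul_lt_aux (c := pdim i) h
          omega
        · subst s
          rcases hC with ⟨h0, hne⟩ | ⟨h0, -⟩ | ⟨-, -, -, h1⟩
          · exact absurd (hs.2 (by omega)) hne
          · omega
          · rcases h1 with h1 | ⟨h1, -⟩ <;> omega
      · rcases lt_or_eq_of_le hsK with h | h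
        · have := mul_lt_aux (c := pdim i) h
          omega
        · subst s
          rcases hC with ⟨h0, hne⟩ | ⟨h0, -⟩ | ⟨-, -, -, h1⟩
          · exact absurd (hs.2 (by omega)) hne
          · omega
          · rcases h1 with h1 | ⟨h1, h2⟩
            · omega
            · by_cases g1 : pl <;> by_cases g2 : dl <;> by_cases g3 : Par i K <;>
                by_cases g4 : Par i M <;> simp_all

theorem odd_arith (hi : 0 < i) (hm : Odd m) (hmN : m < N)
    (H : ∀ s, Top N pl i s → (∃ j, 0 < j ∧ OFit N i m s j) ∨ ¬ OFit N i m s 0) :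
    (∀ s, 1 ≤ s → Adm N pl i s → ∃ j, OFit N i m s j) ↔
      ((N % pdim i = 0 ∧ ¬ (pl ↔ Par i (N / pdim i))) ∨
       (0 < N % pdim i ∧ 1 ≤ m / pdim i ∧ m % pdim i ≤ N % pdim i)) := by
  have hc := pdim_pos hi
  have hce := even_pdim i
  have hdN := div_mod_eq N (pdim i)
  have hdm := div_mod_eq m (pdim i)
  have hlc := Nat.mod_lt m hc
  have hkc := Nat.mod_lt N hc
  obtain ⟨K, hK⟩ : ∃ K, N / pdim i = K := ⟨_, rfl⟩
  obtain ⟨k, hk⟩ : ∃ k, N % pdim i = k := ⟨_, rfl⟩
  obtain ⟨M, hM⟩ : ∃ M, m / pdim i = M := ⟨_, rfl⟩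
  obtain ⟨l, hl⟩ : ∃ l, m % pdim i = l := ⟨_, rfl⟩
  have hMK : M ≤ K := hM ▸ hK ▸ Nat.div_le_div_right hmN.le
  simp only [hK, hk, hM, hl] at hdN hdm hlc hkc ⊢
  have hl1 : 0 < l := Nat.pos_of_ne_zero fun h => by
    rw [h, add_zero] at hdm
    exact Nat.not_even_iff_odd.mpr hm (hdm ▸ hce.mul_left M)
  constructor
  · intro hall
    have hto := top_of (N := N) (pl := pl) hi (by omega)
    rw [hK, hk] at hto
    rcases hto with ⟨hadm, htop, hcase⟩ | ⟨h0, hne, -, -, -⟩
    swap
    · exact Or.inl ⟨h0, hne⟩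
    right
    have hK1 : 1 ≤ K := top_pos (P := OFit N i m) hi (by omega)
      ⟨le_rfl, by rw [zero_mul]; omega, by rw [zero_mul]; omega⟩
      (fun j h => Nat.le_zero.mp h.1) H htop
    obtain ⟨j, hj1, hj2, hj3⟩ := hall K hK1 hadm
    have hjM : j ≤ M := lt_of_mul_le_add (r := l) (by omega) hlc
    have hjM' : j = M := by
      rcases lt_or_eq_of_le hjM with h | h
      · exfalso
        have := mul_lt_aux (c := pdim i) h
        omega
      · exact h
    subst j
    have hM1 : 1 ≤ M := by
      by_contra h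
      rcases H K htop with ⟨j, hj0, hj⟩ | h1
      · have : j ≤ M := lt_of_mul_le_add (r := l) (by have := hj.2.1; omega) hlc
        omega
      · have hM0 : M = 0 := by omega
        subst hM0
        exact h1 ⟨hj1, hj2, hj3⟩
    exact ⟨by omega, hM1, by omega⟩
  · intro hC s hs1 hs
    have hsK : s ≤ K := hK ▸ le_div_of_adm hi hs
    rcases lt_or_ge s M with hsM | hsM
    · have := mul_lt_aux (c := pdim i) hsM
      exact ⟨s, le_rfl, by omega, by omega⟩
    refine ⟨M, hsM, by omega, ?_⟩
    rcases lt_or_eq_of_le hsK with h | h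
    · have := mul_lt_aux (c := pdim i) h
      omega
    · subst s
      rcases hC with ⟨h0, hne⟩ | ⟨-, -, h1⟩
      · exact absurd (hs.2 (by omega)) hne
      · omega

/-! ### Totally singular subspaces -/

theorem ts_arith_odd (hodd : Odd i) (hm : 1 ≤ m) (hmN : 2 * m < N)
    (H : ∀ s, Top N pl i s → (∃ a, 0 < a ∧ TSSol N pl i T m s a) ∨ ¬ TSSol N pl i T m s 0) :
    (∀ s, 1 ≤ s → Adm N pl i s → ∃ a, TSSol N pl i T m s a) ↔
      (i ≤ m ∧ (2 * (m % i) < N % (2 * i) ∨ (2 * (m % i) = N % (2 * i) ∧ pl) ∨ (N % (2 * i) = 0 ∧ ¬ pl))) := by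
  have hi : 0 < i := hodd.pos
  have hne : ¬ Even i := Nat.not_even_iff_odd.mpr hodd
  have hpd : pdim i = 2 * i := if_neg hne
  have hP := par_odd hodd
  have hdm := div_mod_eq m i
  have hlc := Nat.mod_lt m hi
  have hdN := div_mod_eq N (2 * i)
  have hkc := Nat.mod_lt N (show 2 * i > 0 by omega)
  obtain ⟨K, hK⟩ : ∃ K, N / (2 * i) = K := ⟨_, rfl⟩
  obtain ⟨k, hk⟩ : ∃ k, N % (2 * i) = k := ⟨_, rfl⟩
  obtain ⟨M, hM⟩ : ∃ M, m / i = M := ⟨_, rfl⟩
  obtain ⟨l, hl⟩ : ∃ l, m % i = l := ⟨_, rfl⟩
  simp only [hK, hk, hM, hl] at hdN hdm hlc hkc ⊢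
  have e2 : ∀ x : ℕ, x * (2 * i) = 2 * (x * i) := fun x => by ring
  rw [e2] at hdN
  have hMK : M ≤ K := lt_of_mul_le_add (a := M) (b := K) (c := 2 * i) (r := k) (by rw [e2, e2]; omega) hkc
  constructor
  · intro hall
    rcases top_of (N := N) (pl := pl) hi (by omega) with ⟨hadm, htop, hcase⟩ | ⟨h0, hne', h1, htop, hlt⟩
    · rw [hpd, hK, hk] at hcase
      rw [hpd, hK] at hadm htop
      have hK1 : 1 ≤ K := top_pos (P := TSSol N pl i T m) hi (by omega)
        ⟨le_rfl, fun h => absurd h hne, by omega, by rw [zero_mul]; omega, fun h => by rw [zero_mul] at h; omega⟩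
        (fun j h => Nat.le_zero.mp h.1) H htop
      obtain ⟨a, ha1, -, ha3, ha4, ha5⟩ := hall K hK1 hadm
      rw [hpd, e2] at ha4 ha5
      have haM : a ≤ M := lt_of_mul_le_add (r := l) (by omega) hlc
      have haM' : a = M := by
        rcases lt_or_eq_of_le haM with h | h
        · exfalso
          have := mul_lt_aux (c := i) h
          omega
        · exact h
      subst a
      have hM1 : 1 ≤ M := by
        by_contra h
        rcases H K htop with ⟨b, hb0, hb⟩ | h1
        · have : b ≤ M := lt_of_mul_le_add (r := l) (by have := hb.2.2.1; omega) hlc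
          omega
        · have hM0 : M = 0 := by omega
          refine h1 ⟨Nat.zero_le _, fun h => absurd h hne, by omega, ?_, ?_⟩
          · rw [hpd, e2]; rw [hM0] at ha4; exact ha4
          · rw [hpd, e2]; rw [hM0] at ha5; exact ha5
      refine ⟨?_, ?_⟩
      · have := Nat.le_mul_of_pos_left i hM1
        omega
      rcases lt_or_eq_of_le (show 2 * l ≤ k by omega) with h | h
      · exact Or.inl h
      · exact Or.inr (Or.inl ⟨h, (ha5 (by omega)).mpr (hP _)⟩)
    · rw [hpd, hK] at h1 htop hlt hne'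
      rw [hpd, hk] at h0
      refine ⟨?_, Or.inr (Or.inr ⟨h0, fun h => hne' (iff_of_true h (hP _))⟩)⟩
      by_contra hlt'
      have hM0 : M = 0 := hM ▸ Nat.div_eq_of_lt (by omega)
      have h2 := mul_lt_aux (c := i) (show K - 1 < K by omega)
      have hzero : TSSol N pl i T m (K - 1) 0 := by
        refine ⟨Nat.zero_le _, fun h => absurd h hne, by omega, ?_, ?_⟩
        · rw [hpd, e2]; omega
        · intro h; rw [hpd, e2] at h; omega
      rcases H (K - 1) htop with ⟨b, hb0, hb⟩ | h3
      · have : b ≤ M := lt_of_mul_le_add (r := l) (by have := hb.2.2.1; omega) hlc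
        omega
      · exact h3 hzero
  · rintro ⟨him, hC⟩ s hs1 hs
    have hsK : s ≤ K := by have := le_div_of_adm hi hs; rwa [hpd, hK] at this
    rcases lt_or_ge s M with hsM | hsM
    · have := mul_lt_aux (c := i) hsM
      refine ⟨s, le_rfl, fun h => absurd h hne, by omega, by rw [hpd, e2]; omega, fun h => ?_⟩
      rw [hpd, e2] at h; omega
    refine ⟨M, hsM, fun h => absurd h hne, by omega, ?_, fun h => ?_⟩
    · rw [hpd, e2]
      rcases lt_or_eq_of_le hsK with h | h
      · have := mul_lt_aux (c := i) h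
        omega
      · subst s
        rcases hC with h1 | ⟨h1, -⟩ | ⟨h1, h2⟩
        · omega
        · omega
        · exact absurd ((hs.2 (by rw [hpd, e2]; omega)).mpr (hP _)) h2
    · rw [hpd, e2] at h
      rcases lt_or_eq_of_le hsK with h' | h'
      · have := mul_lt_aux (c := i) h'
        omega
      · subst s
        rcases hC with h1 | ⟨h1, h2⟩ | ⟨h1, h2⟩
        · omega
        · exact iff_of_true h2 (hP _)
        · exact absurd ((hs.2 (by rw [hpd, e2]; omega)).mpr (hP _)) h2

theorem ts_arith_even (hev : Even i) (hi : 0 < i) (hT : 0 < T) (hm : 1 ≤ m) (hmN : 2 * m < N)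
    (H : ∀ s, Top N pl i s → (∃ a, 0 < a ∧ TSSol N pl i T m s a) ∨ ¬ TSSol N pl i T m s 0) :
    (∀ s, 1 ≤ s → Adm N pl i s → ∃ a, TSSol N pl i T m s a) ↔
      (i ≤ m ∧ T + 2 * (m / i) ≤ N / i ∧
        (2 * (m % i) < N % i ∨ (2 * (m % i) = N % i ∧ (pl ↔ Even (N / i))) ∨
         (N % i = 0 ∧ ¬ (pl ↔ Even (N / i)) ∧ T + 2 * (m / i) < N / i ∧ 2 * (m % i) ≤ i))) := by
  have hpd : pdim i = i := if_pos hev
  have hP := par_even hev
  have hdm := div_mod_eq m i
  have hlc := Nat.mod_lt m hi
  have hdN := div_mod_eq N i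
  have hkc := Nat.mod_lt N hi
  obtain ⟨K, hK⟩ : ∃ K, N / i = K := ⟨_, rfl⟩
  obtain ⟨k, hk⟩ : ∃ k, N % i = k := ⟨_, rfl⟩
  obtain ⟨M, hM⟩ : ∃ M, m / i = M := ⟨_, rfl⟩
  obtain ⟨l, hl⟩ : ∃ l, m % i = l := ⟨_, rfl⟩
  simp only [hK, hk, hM, hl] at hdN hdm hlc hkc ⊢
  have e2 : ∀ x : ℕ, 2 * (x * i) = 2 * x * i := fun x => by ring
  have hMK : 2 * M ≤ K := lt_of_mul_le_add (a := 2 * M) (b := K) (c := i) (r := k) (by rw [← e2]; omega) hkc
  -- a solution in terms of `u = 2 (M - a) + s`
  have hsol : ∀ s a u, a ≤ M → a ≤ s → 2 * a ≤ s - T + 1 → u = 2 * (M - a) + s → u * i + 2 * l ≤ N →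
      (u * i + 2 * l = N → (pl ↔ Even u)) → TSSol N pl i T m s a := by
    intro s a u haM has haT hu h1 h2
    have h3 : u * i = 2 * ((M - a) * i) + s * i := by rw [hu, Nat.add_mul, e2]
    have h4 : M * i = (M - a) * i + a * i := by rw [← Nat.add_mul, Nat.sub_add_cancel haM]
    refine ⟨has, fun _ => haT, by omega, by rw [hpd]; omega, fun h => ?_⟩
    rw [hpd] at h
    rw [h2 (by omega), hP, hu, Nat.even_add]
    simp
  have hneed : ∀ s a, TSSol N pl i T m s a → a ≤ M ∧ ∃ u, u = 2 * (M - a) + s ∧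
      u * i + 2 * l ≤ N ∧ (u * i + 2 * l = N → (pl ↔ Even u)) := by
    rintro s a ⟨-, -, h1, h2, h3⟩
    have haM : a ≤ M := lt_of_mul_le_add (r := l) (by omega) hlc
    refine ⟨haM, _, rfl, ?_, fun h => ?_⟩
    · have h3 : (2 * (M - a) + s) * i = 2 * ((M - a) * i) + s * i := by rw [Nat.add_mul, e2]
      have h4 : M * i = (M - a) * i + a * i := by rw [← Nat.add_mul, Nat.sub_add_cancel haM]
      rw [hpd] at h2
      omega
    · have h5 : (2 * (M - a) + s) * i = 2 * ((M - a) * i) + s * i := by rw [Nat.add_mul, e2]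
      have h4 : M * i = (M - a) * i + a * i := by rw [← Nat.add_mul, Nat.sub_add_cancel haM]
      rw [hpd] at h3
      rw [h3 (by omega), hP, Nat.even_add]
      simp
  have hiff : ∀ {u v : ℕ}, u % 2 = v % 2 → (Even u ↔ Even v) := fun h => by
    rw [Nat.even_iff, Nat.even_iff, h]
  constructor
  · intro hall
    -- totally singular pieces are needed
    have hM1 : 1 ≤ M := by
      by_contra h
      obtain ⟨s, htop⟩ : ∃ s, Top N pl i s := by
        rcases top_of (N := N) (pl := pl) hi (by omega) with ⟨-, h, -⟩ | ⟨-, -, -, h, -⟩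
        · exact ⟨_, h⟩
        · exact ⟨_, h⟩
      have hs1 : 1 ≤ s := top_pos (P := TSSol N pl i T m) hi (by omega)
        ⟨le_rfl, fun _ => by omega, by omega, by rw [zero_mul]; omega, fun h => by rw [zero_mul] at h; omega⟩
        (fun j h => Nat.le_zero.mp h.1) H htop
      obtain ⟨a, ha⟩ := hall s hs1 htop.1
      obtain rfl : a = 0 := by have := (hneed s a ha).1; omega
      rcases H s htop with ⟨b, hb0, hb⟩ | h1
      · have := (hneed s b hb).1; omega
      · exact h1 ha
    have him : i ≤ m := by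
      have := Nat.le_mul_of_pos_left i hM1
      omega
    -- `T` pieces of pairwise different types
    have hTK : T + 2 * M ≤ K := by
      by_contra h
      obtain ⟨a, ha⟩ := hall (K + 1 - 2 * M) (by omega) (adm_of_lt (by
        rw [hpd]
        have := mul_lt_aux (c := i) (show K + 1 - 2 * M - 1 < K by omega)
        have h2 : K + 1 - 2 * M < K := by omega
        have := mul_lt_aux (c := i) h2
        omega))
      obtain ⟨haM, u, hu, hu1, -⟩ := hneed _ a ha
      have ha2 := ha.2.1 hev
      obtain rfl : a = 0 := by omega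
      have hu' : u = K + 1 := by omega
      rw [hu', Nat.succ_mul] at hu1
      omega
    refine ⟨him, hTK, ?_⟩
    rcases top_of (N := N) (pl := pl) hi (by omega) with ⟨hadm, -, hcase⟩ | ⟨h0, hne', h1, -, hlt⟩
    · rw [hpd, hK] at hadm
      obtain ⟨a, ha⟩ := hall K (by omega) hadm
      obtain ⟨haM, u, hu, hu1, hu2⟩ := hneed _ a ha
      have huK : u = K := by
        by_contra hne
        have := mul_lt_aux (c := i) (show K < u by omega)
        omega
      rw [huK] at hu1 hu2
      rcases lt_or_eq_of_le (show 2 * l ≤ k by omega) with h | h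
      · exact Or.inl h
      · exact Or.inr (Or.inl ⟨h, hu2 (by omega)⟩)
    · rw [hpd, hk] at h0
      rw [hpd, hK, hP] at hne'
      rw [hpd, hK] at hlt
      have hTK' : T + 2 * M < K := by
        rcases lt_or_eq_of_le hTK with h | h
        · exact h
        · exfalso
          obtain ⟨a, ha⟩ := hall T hT (adm_of_lt (by
            rw [hpd]
            have := mul_lt_aux (c := i) (show T < K by omega)
            omega))
          obtain ⟨haM, u, hu, hu1, hu2⟩ := hneed _ a ha
          have ha2 := ha.2.1 hev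
          obtain rfl : a = 0 := by omega
          rw [show u = K by omega] at hu1 hu2
          exact hne' (hu2 (by omega))
      refine Or.inr (Or.inr ⟨h0, hne', hTK', ?_⟩)
      obtain ⟨a, ha⟩ := hall (K - 1) (by omega) (adm_of_lt (by
        rw [hpd]
        have := mul_lt_aux (c := i) (show K - 1 < K by omega)
        omega))
      obtain ⟨haM, u, hu, hu1, -⟩ := hneed _ a ha
      have h3 : (K - 1) * i + i = K * i := by rw [← Nat.succ_mul]; congr 1; omega
      have := Nat.mul_le_mul_right i (show K - 1 ≤ u by omega)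
      omega
  · rintro ⟨-, hTK, hC⟩ s hs1 hs
    have hsK : s ≤ K := by have := le_div_of_adm hi hs; rwa [hpd, hK] at this
    -- as many pieces as possible
    obtain ⟨a, haM, has, haT, hu⟩ : ∃ a, a ≤ M ∧ a ≤ s ∧ 2 * a ≤ s - T + 1 ∧
        (2 * (M - a) + s = s ∨ 2 * (M - a) + s ≤ T + 2 * M) :=
      ⟨min ((s - T + 1) / 2) M, min_le_right _ _, by omega, by omega, by omega⟩
    set u := 2 * (M - a) + s with hudef
    refine ⟨a, hsol s a u haM has haT hudef ?_ fun h => ?_⟩
    · rcases lt_or_eq_of_le (show u ≤ K by omega) with h | h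
      · have := mul_lt_aux (c := i) h
        rcases hC with h1 | ⟨h1, -⟩ | ⟨-, -, -, h1⟩ <;> omega
      · rw [h]
        rcases hC with h1 | ⟨h1, -⟩ | ⟨h1, h2, h3, -⟩
        · omega
        · omega
        · exfalso
          have hsK' : s = K := by omega
          exact h2 ((hs.2 (by rw [hpd, hsK']; omega)).trans ((hP s).trans (by rw [hsK'])))
    · rcases lt_or_eq_of_le (show u ≤ K by omega) with h' | h'
      · have h4 := mul_lt_aux (c := i) h'
        rcases hC with h1 | ⟨h1, -⟩ | ⟨h1, h2, -, h3⟩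
        · omega
        · omega
        · have h5 : (u + 1) * i = K * i := by rw [Nat.succ_mul]; omega
          have h6 := Nat.eq_of_mul_eq_mul_right hi h5
          rw [← h6, Nat.even_add_one] at h2
          tauto
      · rw [h'] at h ⊢
        rcases hC with h1 | ⟨-, h1⟩ | ⟨h1, h2, h3, -⟩
        · omega
        · exact h1
        · exfalso
          have hsK' : s = K := by omega
          exact h2 ((hs.2 (by rw [hpd, hsK']; omega)).trans ((hP s).trans (by rw [hsK'])))

end Cfsg.Agent.Lib.K41.Der
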