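import Cfsg.Agent.Lib.K41.Der.Crit2
import Cfsg.Agent.Lib.Char2Inv.Symplectic

/-!
Involutions of quadratic spaces in characteristic two: invariant nondegenerate subspaces of a given
type.
-/

set_option autoImplicit false

namespace Cfsg.Agent.Lib.K41.Der

open Module QuadraticMap Cfsg.Agent.Lib.Forms Cfsg.Agent.Lib.Elusive

variable {F : Type*} [Field F] {V : Type*} [AddCommGroup V] [Module F V]
variable {Q : QuadraticForm F V} {N : Module.End F V}

/-- `1 + N` is an involutory isometry in characteristic two. -/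
structure Inv2 (Q : QuadraticForm F V) (N : Module.End F V) : Prop where
  nondeg : Nondeg Q
  two : (2 : F) = 0
  iso : ∀ x, Q (x + N x) = Q x
  sq : ∀ x, N (N x) = 0

theorem neg_eq_of_two (h2 : (2 : F) = 0) (a : F) : -a = a := by linear_combination (-a) * h2

theorem self_polar_zero (h2 : (2 : F) = 0) (x : V) : polar Q x x = 0 := by rw [polar_self', h2, zero_mul]

theorem Inv2.pN (h : Inv2 Q N) (x y : V) : polar Q (N x) (N y) = 0 := by
  have h1 : polar Q (N x + N (N x)) (y + N y) = polar Q (N x) y := polar_map (LinearMap.id + N) h.iso _ _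
  rwa [h.sq, add_zero, polar_add_right, add_eq_left] at h1

theorem Inv2.adj (h : Inv2 Q N) (x y : V) : polar Q (N x) y = polar Q x (N y) := by
  have h1 : polar Q (x + N x) (y + N y) = polar Q x y := polar_map (LinearMap.id + N) h.iso _ _
  rw [polar_add_left, polar_add_right, polar_add_right, h.pN, add_zero] at h1
  have h3 : polar Q (N x) y + polar Q x (N y) = 0 := by linear_combination h1
  rw [eq_neg_of_add_eq_zero_left h3, neg_eq_of_two h.two]

theorem Inv2.Q_N (h : Inv2 Q N) (x : V) : Q (N x) = polar Q x (N x) := by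
  have h1 := h.iso x
  rw [Q_add] at h1
  have h3 : Q (N x) + polar Q x (N x) = 0 := by linear_combination h1
  rw [eq_neg_of_add_eq_zero_left h3, neg_eq_of_two h.two]

theorem Inv2.inv_perp (h : Inv2 Q N) {X : Submodule F V} (hX : ∀ x ∈ X, N x ∈ X) :
    ∀ y ∈ perp Q X, N y ∈ perp Q X := fun y hy =>
  mem_perp.mpr fun w hw => by rw [← h.adj, mem_perp.mp hy _ (hX w hw)]

variable [FiniteDimensional F V]

/-- An invariant plane or an invariant block of dimension four and plus type. -/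
theorem Inv2.plane_or_block (h : Inv2 Q N) {Y : Submodule F V} (hY : ∀ x ∈ Y, N x ∈ Y) (hYn : NDeg Q Y)
    (hne : Y ≠ ⊥) :
    (∃ P, P ≤ Y ∧ (∀ x ∈ P, N x ∈ P) ∧ NDeg Q P ∧ finrank F P = 2) ∨
    (∃ B, B ≤ Y ∧ (∀ x ∈ B, N x ∈ B) ∧ NDeg Q B ∧ finrank F B = 4 ∧ Plus (res Q B)) := by
  have hplane : ∀ v ∈ Y, ∀ w ∈ Y, (∀ x ∈ Submodule.span F {v, w}, N x ∈ Submodule.span F {v, w}) →
      polar Q v w ≠ 0 → ∃ P, P ≤ Y ∧ (∀ x ∈ P, N x ∈ P) ∧ NDeg Q P ∧ finrank F P = 2 := fun v hv w hw hN hp => by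
    have hli : LinearIndependent F ![v, w] := by
      refine LinearIndependent.pair_iff.2 fun s t hst => ?_
      have h1 := congrArg (fun z => polar Q v z) hst
      have h3 := congrArg (fun z => polar Q w z) hst
      simp only [polar_add_right, polar_smul_right, smul_eq_mul, self_polar_zero h.two, polar_comm Q w v,
        polar_zero_right, mul_zero, add_zero, zero_add] at h1 h3
      exact ⟨(mul_eq_zero.mp h3).resolve_right hp, (mul_eq_zero.mp h1).resolve_right hp⟩
    refine ⟨_, Submodule.span_le.mpr (by rintro x (rfl | rfl) <;> assumption), hN, nDeg_iff.mpr fun x hx hxy => ?_, ?_⟩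
    · obtain ⟨s, t, rfl⟩ := Submodule.mem_span_pair.mp hx
      have h1 := hxy v (Submodule.subset_span (by simp))
      have h3 := hxy w (Submodule.subset_span (by simp))
      simp only [polar_add_left, polar_smul_left, smul_eq_mul, self_polar_zero h.two, polar_comm Q w v,
        mul_zero, add_zero, zero_add] at h1 h3
      rw [(mul_eq_zero.mp h1).resolve_right hp, (mul_eq_zero.mp h3).resolve_right hp, zero_smul, zero_smul, add_zero]
    · have := finrank_span_eq_card hli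
      rwa [Matrix.range_cons, Matrix.range_cons, Matrix.range_empty, Set.union_empty,
        Set.singleton_union, Fintype.card_fin] at this
  by_cases halt : ∀ v ∈ Y, polar Q v (N v) = 0
  swap
  · push Not at halt
    obtain ⟨v, hv, hv0⟩ := halt
    refine Or.inl (hplane v hv (N v) (hY v hv) (fun x hx => ?_) hv0)
    obtain ⟨s, t, rfl⟩ := Submodule.mem_span_pair.mp hx
    rw [map_add, map_smul, map_smul, h.sq, smul_zero, add_zero]
    exact Submodule.smul_mem _ _ (Submodule.subset_span (by simp))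
  by_cases hN0 : ∀ v ∈ Y, N v = 0
  · obtain ⟨v, hv, hv0⟩ := Submodule.exists_mem_ne_zero_of_ne_bot hne
    obtain ⟨w, hw, hvw⟩ : ∃ w ∈ Y, polar Q v w ≠ 0 := by
      by_contra hc
      push Not at hc
      exact hv0 (nDeg_iff.mp hYn v hv hc)
    refine Or.inl (hplane v hv w hw (fun x hx => ?_) hvw)
    obtain ⟨s, t, rfl⟩ := Submodule.mem_span_pair.mp hx
    rw [map_add, map_smul, map_smul, hN0 v hv, hN0 w hw, smul_zero, smul_zero, add_zero]
    exact Submodule.zero_mem _
  push Not at hN0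
  obtain ⟨v, hv, hv0⟩ := hN0
  obtain ⟨w₀, hw₀, hne0⟩ : ∃ w ∈ Y, polar Q (N v) w ≠ 0 := by
    by_contra hc
    push Not at hc
    exact hv0 (nDeg_iff.mp hYn _ (hY v hv) hc)
  obtain ⟨w, hw, hvw⟩ : ∃ w ∈ Y, polar Q (N v) w = 1 :=
    ⟨(polar Q (N v) w₀)⁻¹ • w₀, Y.smul_mem _ hw₀, by rw [polar_smul_right, smul_eq_mul, inv_mul_cancel₀ hne0]⟩
  refine Or.inr ?_
  have e1 : polar Q v (N w) = 1 := by rw [← h.adj, hvw]
  have e2 : polar Q w (N v) = 1 := by rw [polar_comm, hvw]
  have e3 : polar Q (N w) v = 1 := by rw [polar_comm, e1]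
  have e4 : polar Q (N v) v = 0 := by rw [polar_comm, halt v hv]
  have e5 : polar Q (N w) w = 0 := by rw [polar_comm, halt w hw]
  set B := Submodule.span F (Set.range ![v, N v, w, N w]) with hB
  have hmem : ∀ k, ![v, N v, w, N w] k ∈ Y := fun k => by
    fin_cases k <;> simp [hv, hw, hY v hv, hY w hw]
  have hdet : ∀ a b c e : F, (∀ y ∈ B, polar Q (a • v + b • N v + c • w + e • N w) y = 0) →
      a = 0 ∧ b = 0 ∧ c = 0 ∧ e = 0 := by
    intro a b c e hxy
    have h1 := hxy v (Submodule.subset_span ⟨0, rfl⟩)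
    have h3 := hxy (N v) (Submodule.subset_span ⟨1, rfl⟩)
    have h4 := hxy w (Submodule.subset_span ⟨2, rfl⟩)
    have h5 := hxy (N w) (Submodule.subset_span ⟨3, rfl⟩)
    simp only [polar_add_left, polar_smul_left, smul_eq_mul, self_polar_zero h.two, h.pN, e1, e2, e3, e4,
      e5, hvw, halt v hv, halt w hw, mul_zero, mul_one, add_zero, zero_add] at h1 h3 h4 h5
    rw [h3, zero_mul, zero_add] at h1
    rw [h5, zero_mul, zero_add] at h4
    exact ⟨h5, h4, h3, h1⟩
  have hexp : ∀ x ∈ B, ∃ a b c e : F, x = a • v + b • N v + c • w + e • N w := fun x hx => by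
    obtain ⟨co, rfl⟩ := (Submodule.mem_span_range_iff_exists_fun F).mp hx
    exact ⟨co 0, co 1, co 2, co 3, by simp [Fin.sum_univ_four]⟩
  have hli : LinearIndependent F ![v, N v, w, N w] := by
    rw [Fintype.linearIndependent_iff]
    intro co hco
    simp [Fin.sum_univ_four] at hco
    obtain ⟨a, b, c, e⟩ := hdet (co 0) (co 1) (co 2) (co 3) fun y _ => by rw [hco, polar_zero_left]
    intro k
    fin_cases k <;> assumption
  have hBN : ∀ x ∈ B, N x ∈ B := fun x hx => by
    obtain ⟨a, b, c, e, rfl⟩ := hexp x hx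
    simp only [map_add, map_smul, h.sq, smul_zero, add_zero]
    exact B.add_mem (B.smul_mem _ (Submodule.subset_span ⟨1, rfl⟩))
      (B.smul_mem _ (Submodule.subset_span ⟨3, rfl⟩))
  have hBd : finrank F B = 4 := by rw [hB, finrank_span_eq_card hli, Fintype.card_fin]
  refine ⟨B, Submodule.span_le.mpr (by rintro _ ⟨k, rfl⟩; exact hmem k), hBN,
    nDeg_iff.mpr fun x hx hxy => ?_, hBd, plus_res_iff.mpr ⟨Submodule.span F {N v, N w}, ?_, ?_, ?_⟩⟩
  · obtain ⟨a, b, c, e, rfl⟩ := hexp x hx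
    obtain ⟨ha, hb, hc, he⟩ := hdet a b c e hxy
    rw [ha, hb, hc, he]
    simp
  · rw [Submodule.span_le]
    rintro x (rfl | rfl)
    · exact Submodule.subset_span ⟨1, rfl⟩
    · exact Submodule.subset_span ⟨3, rfl⟩
  · intro x hx
    obtain ⟨s, t, rfl⟩ := Submodule.mem_span_pair.mp hx
    rw [Q_comb, h.Q_N, h.Q_N, halt v hv, halt w hw, h.pN]
    ring
  · have hli' : LinearIndependent F ![N v, N w] := by
      refine LinearIndependent.pair_iff.2 fun s t hst => ?_
      have h1 := congrArg (fun z => polar Q v z) hst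
      have h3 := congrArg (fun z => polar Q w z) hst
      simp only [polar_add_right, polar_smul_right, smul_eq_mul, e1, e2, halt v hv, halt w hw,
        polar_zero_right, mul_one, mul_zero, add_zero, zero_add] at h1 h3
      exact ⟨h3, h1⟩
    have := finrank_span_eq_card hli'
    rw [Matrix.range_cons, Matrix.range_cons, Matrix.range_empty, Set.union_empty,
      Set.singleton_union, Fintype.card_fin] at this
    rw [this, hBd]

variable [Finite F]

omit [Finite F] in
/-- The split by a plane. -/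
theorem Inv2.split_inv (h : Inv2 Q N) {X P : Submodule F V} (hX : ∀ x ∈ X, N x ∈ X) (hXn : NDeg Q X)
    (hPX : P ≤ X) (hP : ∀ x ∈ P, N x ∈ P) (hPn : NDeg Q P) :
    (∀ x ∈ X ⊓ perp Q P, N x ∈ X ⊓ perp Q P) ∧ NDeg Q (X ⊓ perp Q P) ∧
      finrank F X = finrank F P + finrank F ↥(X ⊓ perp Q P) := by
  obtain ⟨a, -, b⟩ := split hPn hXn hPX
  exact ⟨fun x hx => ⟨hX x hx.1, h.inv_perp hP x hx.2⟩, a, b⟩

theorem inv_sup {A B : Submodule F V} (hA : ∀ x ∈ A, N x ∈ A) (hB : ∀ x ∈ B, N x ∈ B) :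
    ∀ x ∈ A ⊔ B, N x ∈ A ⊔ B := fun x hx => by
  obtain ⟨a, ha, b, hb, rfl⟩ := Submodule.mem_sup.mp hx
  rw [map_add]
  exact Submodule.add_mem_sup (hA a ha) (hB b hb)

/-- An invariant four-space of plus type. -/
theorem Inv2.exists_four (h : Inv2 Q N) {X : Submodule F V} (hX : ∀ x ∈ X, N x ∈ X) (hXn : NDeg Q X)
    (hd : 6 ≤ finrank F X) :
    ∃ B, B ≤ X ∧ (∀ x ∈ B, N x ∈ B) ∧ NDeg Q B ∧ finrank F B = 4 ∧ Plus (res Q B) := by
  have hne : ∀ {Y : Submodule F V}, 1 ≤ finrank F Y → Y ≠ ⊥ := fun hY h0 => by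
    rw [h0, finrank_bot] at hY; omega
  rcases h.plane_or_block hX hXn (hne (by omega)) with ⟨P, hPX, hP, hPn, hPd⟩ | hB
  swap
  · exact hB
  obtain ⟨hY, hYn, hdY⟩ := h.split_inv hX hXn hPX hP hPn
  rcases h.plane_or_block hY hYn (hne (by omega)) with ⟨P', hP'Y, hP', hP'n, hP'd⟩ | ⟨B, hBY, hB⟩
  swap
  · exact ⟨B, hBY.trans inf_le_left, hB⟩
  obtain ⟨hY', hY'n, hdY'⟩ := h.split_inv hY hYn hP'Y hP' hP'n
  rcases h.plane_or_block hY' hY'n (hne (by omega)) with ⟨P'', hP''Y, hP'', hP''n, hP''d⟩ | ⟨B, hBY, hB⟩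
  swap
  · exact ⟨B, hBY.trans (inf_le_left.trans inf_le_left), hB⟩
  have hmk : ∀ A B : Submodule F V, (∀ x ∈ A, N x ∈ A) → (∀ x ∈ B, N x ∈ B) → NDeg Q A → NDeg Q B →
      finrank F A = 2 → finrank F B = 2 → A ≤ X → B ≤ X → B ≤ perp Q A → (Plus (res Q A) ↔ Plus (res Q B)) →
      ∃ B, B ≤ X ∧ (∀ x ∈ B, N x ∈ B) ∧ NDeg Q B ∧ finrank F B = 4 ∧ Plus (res Q B) :=
    fun A B hA hB hAn hBn hAd hBd hAX hBX hAB hP => ⟨A ⊔ B, sup_le hAX hBX, inv_sup hA hB, nDeg_sup hAn hBn hAB,
      by rw [finrank_sup_perp hAn hAB, hAd, hBd], (plus_sup hAn hBn hAB (hAd ▸ even_two) (hBd ▸ even_two)).mpr hP⟩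
  have h1 : P' ≤ perp Q P := hP'Y.trans inf_le_right
  have h3 : P'' ≤ perp Q P := hP''Y.trans (inf_le_left.trans inf_le_right)
  have h4 : P'' ≤ perp Q P' := hP''Y.trans inf_le_right
  have g1 : P' ≤ X := hP'Y.trans inf_le_left
  have g2 : P'' ≤ X := hP''Y.trans (inf_le_left.trans inf_le_left)
  by_cases c1 : Plus (res Q P) ↔ Plus (res Q P')
  · exact hmk P P' hP hP' hPn hP'n hPd hP'd hPX g1 h1 c1
  by_cases c2 : Plus (res Q P) ↔ Plus (res Q P'')
  · exact hmk P P'' hP hP'' hPn hP''n hPd hP''d hPX g2 h3 c2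
  · exact hmk P' P'' hP' hP'' hP'n hP''n hP'd hP''d g1 g2 h4 (by tauto)

/-- Invariant subspaces of plus type of every dimension divisible by four. -/
theorem Inv2.exists_plus (h : Inv2 Q N) : ∀ (a : ℕ) (X : Submodule F V), (∀ x ∈ X, N x ∈ X) → NDeg Q X →
    4 * a + 2 ≤ finrank F X →
    ∃ W, W ≤ X ∧ (∀ x ∈ W, N x ∈ W) ∧ NDeg Q W ∧ finrank F W = 4 * a ∧ Plus (res Q W) := by
  intro a
  induction a with
  | zero =>
    exact fun X _ _ _ => ⟨⊥, bot_le, fun x hx => by rw [(Submodule.mem_bot F).mp hx, map_zero]; exact zero_mem _,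
      nDeg_bot, by simp, ⟨⊥, fun u hu => by rw [(Submodule.mem_bot F).mp hu, QuadraticMap.map_zero], by simp⟩⟩
  | succ a ih =>
    intro X hX hXn hd
    obtain ⟨B, hBX, hB, hBn, hBd, hBP⟩ := h.exists_four hX hXn (by omega)
    obtain ⟨hY, hYn, hdY⟩ := h.split_inv hX hXn hBX hB hBn
    obtain ⟨W, hWY, hW, hWn, hWd, hWP⟩ := ih _ hY hYn (by omega)
    exact ⟨B ⊔ W, sup_le hBX (hWY.trans inf_le_left), inv_sup hB hW, nDeg_sup hBn hWn (hWY.trans inf_le_right),
      by rw [finrank_sup_perp hBn (hWY.trans inf_le_right), hBd, hWd]; omega,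
      (plus_sup hBn hWn (hWY.trans inf_le_right) (hBd ▸ by decide) (hWd ▸ ⟨2 * a, by ring⟩)).mpr (iff_of_true hBP hWP)⟩

/-- Members of the class of subspaces of dimension `m` and type `τ`, given by the complement or directly. -/
theorem Inv2.exists_class (h : Inv2 Q N) {d m : ℕ} (hV : finrank F V = 2 * d) (hm : Even m) (hm2 : 2 ≤ m)
    (hmn : m + 2 ≤ 2 * d)
    (hc : (Plus Q ∧ (Odd d ∨ 4 ∣ m)) ∨ ¬ Plus Q) (τ : Prop) (hτ : τ ↔ Plus Q)
    (hex : ¬ Plus Q → Even d ∨ m % 4 = 2) :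
    ∃ W, (∀ x ∈ W, N x ∈ W) ∧ NDeg Q W ∧ finrank F W = m ∧ (Plus (res Q W) ↔ τ) := by
  have htop : NDeg Q ⊤ := nDeg_top_iff.mpr h.nondeg
  have hm' := Nat.even_iff.mp hm
  by_cases h0 : (2 * d - m) % 4 = 0
  · -- the complement
    obtain ⟨W', -, hW', hW'n, hW'd, hW'P⟩ := h.exists_plus ((2 * d - m) / 4) ⊤ (fun _ _ => trivial) htop
      (by rw [finrank_top, hV]; omega)
    obtain ⟨hWn, -, hWd⟩ := split_top h.nondeg hW'n
    refine ⟨_, h.inv_perp hW', hWn, by omega, ?_⟩
    have h1 := plus_split h.nondeg hW'n (hW'd ▸ ⟨2 * ((2 * d - m) / 4), by ring⟩) (hV ▸ even_two_mul d)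
    rw [hτ, h1, iff_true_intro hW'P, true_iff]
  by_cases h4 : m % 4 = 0
  · rcases hc with ⟨hP, -⟩ | hP
    · obtain ⟨W, -, hW, hWn, hWd, hWP⟩ := h.exists_plus (m / 4) ⊤ (fun _ _ => trivial) htop
        (by rw [finrank_top, hV]; omega)
      exact ⟨W, hW, hWn, by omega, iff_of_true hWP (hτ.mpr hP)⟩
    · exfalso
      rcases hex hP with h5 | h5
      · rw [Nat.even_iff] at h5; omega
      · omega
  -- `d` even and `m` twice odd
  rcases hc with ⟨hP, h5 | h5⟩ | hP
  · rw [Nat.odd_iff] at h5; omega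
  · omega
  obtain ⟨X, -, hX, hXn, hXd, hXP⟩ := h.exists_plus (d / 2 - 1) ⊤ (fun _ _ => trivial) htop
    (by rw [finrank_top, hV]; omega)
  obtain ⟨hRn, -, hRd⟩ := split_top h.nondeg hXn
  have hR := h.inv_perp hX
  have hde : d % 2 = 0 := by omega
  have hRm : ¬ Plus (res Q (perp Q X)) := fun hR' =>
    hP ((plus_split h.nondeg hXn (hXd ▸ ⟨2 * (d / 2 - 1), by ring⟩) (hV ▸ even_two_mul d)).mpr (iff_of_true hXP hR'))
  rcases h.plane_or_block hR hRn (fun h0 => by rw [h0, finrank_bot] at hRd; omega) with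
    ⟨P, hPR, hP', hPn, hPd⟩ | ⟨B, hBR, -, -, hBd, hBP⟩
  swap
  · exact absurd ((Submodule.eq_of_le_of_finrank_le hBR (by omega)) ▸ hBP) hRm
  obtain ⟨hP2, hP2n, hP2d⟩ := h.split_inv hR hRn hPR hP' hPn
  obtain ⟨M, hMR, hM, hMn, hMd, hMP⟩ : ∃ M, M ≤ perp Q X ∧ (∀ x ∈ M, N x ∈ M) ∧ NDeg Q M ∧
      finrank F M = 2 ∧ ¬ Plus (res Q M) := by
    by_cases hPP : Plus (res Q P)
    · refine ⟨_, inf_le_left, hP2, hP2n, by omega, fun hq => hRm ?_⟩
      obtain ⟨-, hsup, -⟩ := split hPn hRn hPR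
      exact hsup ▸ (plus_sup hPn hP2n inf_le_right (hPd ▸ even_two) ⟨1, by omega⟩).mpr (iff_of_true hPP hq)
    · exact ⟨P, hPR, hP', hPn, hPd, hPP⟩
  obtain ⟨W', hW'X, hW', hW'n, hW'd, hW'P⟩ : ∃ W', W' ≤ X ∧ (∀ x ∈ W', N x ∈ W') ∧ NDeg Q W' ∧
      finrank F W' = 4 * (m / 4) ∧ Plus (res Q W') := by
    rcases lt_or_eq_of_le (show m / 4 ≤ d / 2 - 1 by omega) with hlt | heq
    · exact h.exists_plus (m / 4) X hX hXn (by omega)
    · exact ⟨X, le_rfl, hX, hXn, by omega, hXP⟩
  have hperp : M ≤ perp Q W' := fun x hx => mem_perp.mpr fun w hw => mem_perp.mp (hMR hx) w (hW'X hw)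
  refine ⟨W' ⊔ M, inv_sup hW' hM, nDeg_sup hW'n hMn hperp,
    by rw [finrank_sup_perp hW'n hperp]; omega, ?_⟩
  rw [plus_sup hW'n hMn hperp (hW'd ▸ ⟨2 * (m / 4), by ring⟩) (hMd ▸ even_two)]
  exact iff_of_false (fun hq => hMP (hq.mp hW'P)) fun hq => hP (hτ.mp hq)

/-- An alternating involution of large rank fixes only plus type subspaces in dimensions divisible by
four. -/
theorem Inv2.twos [CharP F 2] (h : Inv2 Q N) (halt : ∀ v, polar Q v (N v) = 0) {d : ℕ}
    (hV : finrank F V = 2 * d) (hR : d ≤ finrank F (LinearMap.range N) + 1) {W : Submodule F V}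
    (hW : ∀ x ∈ W, N x ∈ W) (hWn : NDeg Q W) :
    (finrank F W % 4 = 0 → Plus (res Q W)) ∧
      (finrank F (LinearMap.range N) = d → finrank F W % 4 = 0) := by
  obtain ⟨hPn, hsup, hdim⟩ := split_top h.nondeg hWn
  have hrk : ∀ {U : Submodule F V}, (∀ x ∈ U, N x ∈ U) → NDeg Q U →
      Even (finrank F (U.map N)) ∧ 2 * finrank F (U.map N) ≤ finrank F U ∧ Sing Q (U.map N) ∧ U.map N ≤ U := by
    intro U hU hUn
    have hle : U.map N ≤ U := Submodule.map_le_iff_le_comap.mpr fun x hx => hU x hx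
    have hs : Sing Q (U.map N) := by
      rintro _ ⟨x, -, rfl⟩
      rw [h.Q_N, halt]
    refine ⟨?_, sing_le_finrank hUn hle hs, hs, hle⟩
    have hev := Char2Inv.Symplectic.even_rank_of_alt (B := fun x y : U => polar Q (x : V) (y : V))
      (N := N.restrict hU) ⟨fun u v w => polar_add_left Q _ _ _,
        fun c u v => (polar_smul_left Q c (u : V) (v : V)).trans (smul_eq_mul _ _),
        fun u v => polar_comm Q _ _, fun _ => rfl⟩
      (fun v => self_polar_zero h.two _) ⟨fun x => Subtype.ext (h.sq _), fun u v => h.adj _ _⟩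
      (fun x _ hx => Subtype.ext (nDeg_iff.mp hUn x x.2 fun y hy => hx ⟨y, hy⟩ trivial))
      (fun v => halt _)
    have hr : (LinearMap.range (N.restrict hU)).map U.subtype = U.map N := by
      rw [← LinearMap.range_comp, show U.subtype ∘ₗ N.restrict hU = N ∘ₗ U.subtype from rfl,
        LinearMap.range_comp, Submodule.range_subtype]
    rwa [← hr, Submodule.finrank_map_subtype_eq]
  obtain ⟨he, hle, hs, hWW⟩ := hrk hW hWn
  obtain ⟨-, hle', -, -⟩ := hrk (h.inv_perp hW) hPn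
  have hrange : LinearMap.range N = W.map N ⊔ (perp Q W).map N := by
    rw [← Submodule.map_sup, hsup, Submodule.map_top]
  have hsum := Submodule.finrank_add_le_finrank_add_finrank (W.map N) ((perp Q W).map N)
  rw [← hrange] at hsum
  rw [Nat.even_iff] at he
  exact ⟨fun h4 => plus_res_iff.mpr ⟨_, hWW, hs, by omega⟩, fun hRd => by omega⟩

omit [FiniteDimensional F V] [Finite F] in
theorem Inv2.congr {V' : Type*} [AddCommGroup V'] [Module F V'] {Q' : QuadraticForm F V'}
    (h : Inv2 Q N) (e : Q.IsometryEquiv Q') : Inv2 Q' (e.toLinearEquiv.conj N) := by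
  refine ⟨h.nondeg.of_equiv e, h.two, fun y => ?_, fun y => ?_⟩
  · obtain ⟨x, rfl⟩ := e.toLinearEquiv.surjective y
    rw [show e.toLinearEquiv x + e.toLinearEquiv.conj N (e.toLinearEquiv x) = e.toLinearEquiv (x + N x) by
      simp [LinearEquiv.conj_apply]]
    exact (e.map_app _).trans ((h.iso x).trans (e.map_app x).symm)
  · simp [LinearEquiv.conj_apply, h.sq]

/-- An alternating involution of rank `2 j`. -/
theorem exists_twos [CharP F 2] (hQ : Nondeg Q) {d j : ℕ} (hV : finrank F V = 2 * d)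
    (hj : (2 * j = d ∧ Plus Q) ∨ 2 * j < d) :
    ∃ N : Module.End F V, Inv2 Q N ∧ (∀ v, polar Q v (N v) = 0) ∧ finrank F (LinearMap.range N) = 2 * j := by
  have h2 : (2 : F) = 0 := CharTwo.two_eq_zero
  obtain ⟨X, hXn, hXe⟩ : ∃ X : Submodule F V, NDeg Q X ∧ (qPlus (2 * j)).Equivalent (res Q X) := by
    rcases hj with ⟨rfl, hP⟩ | hlt
    · exact ⟨⊤, nDeg_top_iff.mpr hQ, (equiv_of_plus hQ (qPlus_nondeg _) hV (by simp; ring)
        (iff_of_true (plus_qPlus _) hP)).trans (top_equiv Q).symm⟩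
    · obtain ⟨W, -, hW, hWe, -⟩ := (embeds_of_lt (qPlus_nondeg (F := F) (2 * j)) (nDeg_top_iff.mpr hQ)
        (by rw [finrank_top]; simp; omega)).image (qPlus_nondeg _)
      exact ⟨W, hW, hWe⟩
  obtain ⟨hPn, hsup, -⟩ := split_top hQ hXn
  have he : ((qPlus (2 * j)).prod (res Q (perp Q X))).Equivalent Q := by
    have h1 := (hXe.prod (Equivalent.refl (res Q (perp Q X)))).trans (sup_equiv hXn le_rfl)
    rw [hsup] at h1
    exact h1.trans (top_equiv Q)
  obtain ⟨e⟩ := he
  let A : (Fin (2 * j) ⊕ Fin (2 * j) → F) →ₗ[F] (Fin (2 * j) ⊕ Fin (2 * j) → F) :=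
    LinearMap.pi (Sum.elim (fun i => LinearMap.proj (Sum.inr i.rev)) fun _ => 0)
  have hAl : ∀ v i, A v (.inl i) = v (.inr (Fin.rev i)) := fun v i => rfl
  have hAr : ∀ v i, A v (.inr i) = 0 := fun v i => rfl
  have hzero : ∀ v : Fin (2 * j) ⊕ Fin (2 * j) → F, ∑ i, v (.inr (Fin.rev i)) * v (.inr i) = 0 := fun v => by
    refine Finset.sum_involution (fun i _ => Fin.rev i) (fun i _ => ?_) (fun i _ _ hi => ?_)
      (fun i _ => Finset.mem_univ _) (fun i _ => Fin.rev_rev i)
    · rw [Fin.rev_rev]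
      linear_combination (v (.inr i) * v (.inr i.rev)) * h2
    · have := congrArg Fin.val hi
      rw [Fin.val_rev] at this
      omega
  have hA : ∀ v, qPlus (2 * j) (v + A v) = qPlus (2 * j) v := fun v => by
    simp only [qPlus_apply, Pi.add_apply, hAl, hAr, add_zero, add_mul, Finset.sum_add_distrib, hzero]
  have hAalt : ∀ v, polar (qPlus (F := F) (2 * j)) v (A v) = 0 := fun v => by
    simp only [polar, hA, sub_self, zero_sub, qPlus_apply, hAr, mul_zero, Finset.sum_const_zero, neg_zero]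
  let N₀ := A.prodMap (0 : perp Q X →ₗ[F] perp Q X)
  have hN₀ : Inv2 ((qPlus (2 * j)).prod (res Q (perp Q X))) N₀ :=
    ⟨prod_nondeg (qPlus_nondeg _) hPn, h2, fun x => by simp [N₀, hA], fun x => by
      refine Prod.ext (funext fun i => ?_) (by simp [N₀])
      rcases i with i | i <;> simp [N₀, hAl, hAr]⟩
  refine ⟨_, hN₀.congr e, fun y => ?_, ?_⟩
  · obtain ⟨x, rfl⟩ := e.toLinearEquiv.surjective y
    simp only [LinearEquiv.conj_apply, LinearMap.comp_apply, LinearEquiv.coe_coe, LinearEquiv.symm_apply_apply]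
    refine (polar_map e.toLinearEquiv.toLinearMap e.map_app x (N₀ x)).trans ?_
    have h1 := hAalt x.1
    rw [polar] at h1 ⊢
    simp only [N₀, LinearMap.prodMap_apply, QuadraticMap.prod_apply, Prod.fst_add, Prod.snd_add,
      LinearMap.zero_apply, add_zero, QuadraticMap.map_zero]
    linear_combination h1
  · have hr : LinearMap.range (e.toLinearEquiv.conj N₀) = (LinearMap.range N₀).map e.toLinearEquiv.toLinearMap := by
      rw [LinearEquiv.conj_apply, LinearMap.range_comp_of_range_eq_top _ (LinearEquiv.range _), LinearMap.range_comp]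
    rw [hr, LinearEquiv.finrank_map_eq]
    have hA' : LinearMap.range N₀ = LinearMap.range ((LinearMap.inl F _ (perp Q X)).comp A) := by
      ext z
      constructor
      · rintro ⟨x, rfl⟩
        exact ⟨x.1, by simp [N₀]⟩
      · rintro ⟨x, rfl⟩
        exact ⟨(x, 0), by simp [N₀]⟩
    rw [hA', LinearMap.range_comp, ← (Submodule.equivMapOfInjective _ LinearMap.inl_injective _).finrank_eq]
    let I : (Fin (2 * j) → F) →ₗ[F] (Fin (2 * j) ⊕ Fin (2 * j) → F) :=
      LinearMap.pi (Sum.elim (fun i => LinearMap.proj i) fun _ => 0)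
    have hI : LinearMap.range A = LinearMap.range I := by
      ext z
      constructor
      · rintro ⟨x, rfl⟩
        exact ⟨fun i => x (.inr i.rev), funext fun i => by rcases i with i | i <;> simp [I, hAl, hAr]⟩
      · rintro ⟨x, rfl⟩
        exact ⟨Sum.elim 0 fun i => x i.rev, funext fun i => by rcases i with i | i <;> simp [I, hAl, hAr]⟩
    rw [hI, LinearMap.finrank_range_of_inj fun a b h' => funext fun i => congrFun h' (.inl i),
      finrank_fintype_fun_eq_card, Fintype.card_fin]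

section Matrices

variable {ι : Type} [Fintype ι] [DecidableEq ι] {f : (ι → F) → F} {Qf : QuadraticForm F (ι → F)}

/-- An element of `Ω` with scalar square gives an involution. -/
theorem inv2_of_omega (hf : ∀ v, f v = Qf v) (hQ : Nondeg Qf) (h2 : (2 : F) = 0) (hn : 2 ≤ Fintype.card ι)
    {x : GL ι F} (hx : x ∈ Cfsg.Geo.omegaGL f)
    (hsc : ∃ z : F, ((x ^ 2 : GL ι F) : Matrix ι ι F) = z • (1 : Matrix ι ι F)) :
    ∃ N, Inv2 Qf N ∧ ∀ v, Matrix.toLin' (x : Matrix ι ι F) v = v + N v := by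
  obtain ⟨v₀, hv₀⟩ := exists_Q_eq hQ (by rw [Module.finrank_fintype_fun_eq_card]; omega) 1
  obtain ⟨z, hz⟩ := hsc
  set g := Matrix.toLin' (x : Matrix ι ι F) with hg
  have hiso := omega_isometry hf hx
  have hg2 : ∀ v, g (g v) = z • v := fun v => by
    rw [hg, ← Module.End.mul_apply, ← _root_.sq, ← coe_pow_toLin, hz, map_smul, Matrix.toLin'_one]; rfl
  have hz1 : z = 1 := by
    have h1 : Qf (g (g v₀)) = 1 := by rw [hiso, hiso, hv₀]
    rw [hg2, Q_smul, hv₀, mul_one] at h1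
    have h3 : (z - 1) * (z - 1) = 0 := by linear_combination h1 - (z - 1) * h2
    exact sub_eq_zero.mp (mul_self_eq_zero.mp h3)
  refine ⟨g - 1, ⟨hQ, h2, fun v => ?_, fun v => ?_⟩, fun v => ?_⟩
  · rw [LinearMap.sub_apply, Module.End.one_apply, add_sub_cancel]
    exact hiso v
  · simp only [LinearMap.sub_apply, Module.End.one_apply, map_sub, hg2, hz1, one_smul]
    refine eq_of_sub_eq_zero ?_
    rw [sub_zero, show v - g v - (g v - v) = (2 : F) • (v - g v) by rw [two_smul]; abel, h2, zero_smul]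
  · simp

/-- An involution of even rank lies in `Ω`. -/
theorem omega_of_inv2 [CharP F 2] (hf : ∀ v, f v = Qf v) (hn : 5 ≤ Fintype.card ι)
    {N : Module.End F (ι → F)} (hI : Inv2 Qf N) (hev : Even (finrank F (LinearMap.range N))) (hN : N ≠ 0) :
    ∃ x : GL ι F, x ∈ Cfsg.Geo.omegaGL f ∧
      (∃ z : F, ((x ^ 2 : GL ι F) : Matrix ι ι F) = z • (1 : Matrix ι ι F)) ∧
      (∀ z : F, (x : Matrix ι ι F) ≠ z • (1 : Matrix ι ι F)) ∧
      ∀ v, Matrix.toLin' (x : Matrix ι ι F) v = v + N v := by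
  have hn' : finrank F (ι → F) = Fintype.card ι := Module.finrank_fintype_fun_eq_card F
  let g : Module.End F (ι → F) := 1 + N
  have hgg : ∀ v, g (g v) = v := fun v => by
    show v + N v + N (v + N v) = v
    rw [map_add, hI.sq, add_zero, add_assoc, ← two_smul F (N v), hI.two, zero_smul, add_zero]
  let e : (ι → F) ≃ₗ[F] (ι → F) := LinearEquiv.ofLinear g g (LinearMap.ext hgg) (LinearMap.ext hgg)
  let o : orth Qf := ⟨e, hI.iso⟩
  have hdev : dev o.1 = N := LinearMap.ext fun v => by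
    rw [dev_apply]
    show v + N v - v = N v
    abel
  have ho : o ∈ commutator (orth Qf) := by
    rw [Orth52.mem_commutator_iff_two hI.nondeg hI.two (by omega) (Or.inr (by omega)), dickson, hdev,
      ZMod.natCast_eq_zero_iff_even]
    exact hev
  obtain ⟨x, hx, hox⟩ := orth_omega hf ho
  have hxv : ∀ v, Matrix.toLin' (x : Matrix ι ι F) v = v + N v := fun v => (LinearMap.congr_fun hox v).symm
  refine ⟨x, hx, ⟨1, Matrix.toLin'.injective (LinearMap.ext fun v => ?_)⟩, fun z hz => hN (LinearMap.ext fun v => ?_),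
    hxv⟩
  · rw [coe_pow_toLin, _root_.sq, Module.End.mul_apply, hxv, hxv, one_smul, Matrix.toLin'_one]
    exact hgg v
  · have hNv : ∀ v, N v = (z - 1) • v := fun v => by
      have h1 := hxv v
      rw [hz, map_smul, Matrix.toLin'_one] at h1
      rw [sub_smul, one_smul, eq_sub_iff_add_eq, add_comm]
      exact h1.symm
    have h3 := hI.sq v
    rw [hNv, hNv, smul_smul] at h3
    rcases smul_eq_zero.mp h3 with h4 | h4
    · rw [hNv, mul_self_eq_zero.mp h4, zero_smul]; rfl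
    · rw [h4, map_zero]; rfl

end Matrices

end Cfsg.Agent.Lib.K41.Der
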