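import Cfsg.Agent.Lib.K41.Der.Space
import Cfsg.Agent.Lib.Forms.Bridge

/-!
The number of totally singular subspaces of a given dimension is prime to the characteristic.
-/

set_option autoImplicit false

namespace Cfsg.Agent.Lib.K41.Der

open Module QuadraticMap Cfsg.Agent.Lib.Forms

variable {F : Type*} [Field F] [Finite F] {V : Type*} [AddCommGroup V] [Module F V]
  [FiniteDimensional F V]
variable {Q : QuadraticForm F V} {p : ℕ} [hp : Fact p.Prime] [CharP F p]

omit [FiniteDimensional F V] in
theorem natCard_cast_zero : (Nat.card F : ZMod p) = 0 := by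
  have := Fintype.ofFinite F
  obtain ⟨n, -, hcard⟩ := FiniteField.card F p
  rw [Nat.card_eq_fintype_card, hcard, Nat.cast_pow, ZMod.natCast_self, zero_pow n.ne_zero]

/-- The number of singular vectors is divisible by the characteristic. -/
theorem card_sing_vectors (hQ : Nondeg Q) (hn : 3 ≤ finrank F V) :
    (levelCard Q 0 : ZMod p) = 0 := by
  have key : ∀ {V' : Type _} [AddCommGroup V'] [Module F V'] [FiniteDimensional F V'] (k : ℕ)
      (R : QuadraticForm F V'), 1 ≤ k → 2 ≤ k + finrank F V' →
      (levelCard ((qPlus (F := F) k).prod R) 0 : ZMod p) = 0 := by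
    intro V' _ _ _ k R hk hk2
    rw [levelCard_plus_prod]
    push_cast
    rw [natCard_cast_zero, zero_pow (show k + finrank F V' - 1 ≠ 0 by omega), zero_pow (show k ≠ 0 by omega),
      zero_mul, mul_zero, add_zero]
  rcases classify Q hQ with ⟨k, hk, h⟩ | ⟨k, c, -, -, hk, h⟩ | ⟨k, a, b, -, hk, h⟩
  · rw [levelCard, card_level_congr (h.trans (qPlus_equiv_prod k))]
    exact key k _ (by omega) (by omega)
  · rw [levelCard, card_level_congr h]
    exact key k _ (by omega) (by rw [finrank_self]; omega)
  · rw [levelCard, card_level_congr h]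
    exact key k _ (by omega) (by simp)

omit [Finite F] hp in
theorem core_decomp {e f : V} (h : HypPair Q e f) {W : Submodule F V} (hW : Sing Q W) (he : e ∈ W)
    {x : V} (hx : x ∈ W) : x - polar Q f x • e ∈ W ⊓ core Q e f := by
  refine ⟨W.sub_mem hx (W.smul_mem _ he), mem_core.mpr ⟨?_, ?_⟩⟩
  · rw [polar_sub_right, polar_smul_right, polar_self', h.left, mul_zero, smul_zero, sub_zero]
    exact mem_perp.mp (hW.le_perp hx) e he
  · rw [polar_sub_right, polar_smul_right, h.pol', smul_eq_mul, mul_one, sub_self]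

/-- The totally singular subspaces through a singular vector are those of its core. -/
noncomputable def throughEquiv {e f : V} (h : HypPair Q e f) (m : ℕ) :
    {W : Submodule F V // (finrank F W = m + 1 ∧ Sing Q W) ∧ e ∈ W} ≃
      {U : Submodule F (core Q e f) // finrank F U = m ∧ Sing (res Q (core Q e f)) U} := by
  have he0 : e ≠ 0 := fun h0 => by
    have := h.pol
    rw [h0, polar_zero_left] at this
    exact zero_ne_one this
  have hL : ∀ U : Submodule F V, U ≤ core Q e f →
      Submodule.span F {e} ⊓ U = ⊥ := fun U hU => (Submodule.eq_bot_iff _).mpr fun x hx => by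
    obtain ⟨t, rfl⟩ := Submodule.mem_span_singleton.mp hx.1
    have h1 := (mem_core.mp (hU hx.2)).2
    rw [polar_smul_right, h.pol', smul_eq_mul, mul_one] at h1
    rw [h1, zero_smul]
  have hdim : ∀ U : Submodule F V, U ≤ core Q e f →
      finrank F ↥(Submodule.span F {e} ⊔ U) = finrank F U + 1 := fun U hU => by
    have h1 := Submodule.finrank_sup_add_finrank_inf_eq (Submodule.span F {e}) U
    rw [hL U hU, finrank_bot, finrank_span_singleton he0] at h1
    omega
  have hsup : ∀ W : Submodule F V, Sing Q W → e ∈ W → Submodule.span F {e} ⊔ W ⊓ core Q e f = W :=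
    fun W hW he => le_antisymm (sup_le ((Submodule.span_singleton_le_iff_mem e W).mpr he) inf_le_left)
      fun x hx => Submodule.mem_sup.mpr ⟨_, Submodule.mem_span_singleton.mpr ⟨polar Q f x, rfl⟩, _,
        core_decomp h hW he hx, by abel⟩
  refine
    { toFun := fun W => ⟨W.1.comap (core Q e f).subtype, ?_, fun u hu => W.2.1.2 _ hu⟩
      invFun := fun U => ⟨Submodule.span F {e} ⊔ U.1.map (core Q e f).subtype, ⟨?_, ?_⟩, ?_⟩
      left_inv := fun W => Subtype.ext ?_
      right_inv := fun U => Subtype.ext ?_ }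
  · have h1 := hdim _ (inf_le_right : W.1 ⊓ core Q e f ≤ _)
    rw [hsup _ W.2.1.2 W.2.2, W.2.1.1] at h1
    rw [(Submodule.equivMapOfInjective (core Q e f).subtype Subtype.val_injective _).finrank_eq,
      Submodule.map_comap_eq, Submodule.range_subtype, inf_comm]
    omega
  · rw [hdim _ (Submodule.map_subtype_le _ _),
      ← (Submodule.equivMapOfInjective _ Subtype.val_injective U.1).finrank_eq, U.2.1]
  · intro x hx
    obtain ⟨a, ha, b, hb, rfl⟩ := Submodule.mem_sup.mp hx
    obtain ⟨t, rfl⟩ := Submodule.mem_span_singleton.mp ha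
    obtain ⟨u, hu, rfl⟩ := hb
    have h1 : Q (u : V) = 0 := U.2.2 u hu
    rw [Q_add, Q_smul, h.left, mul_zero, zero_add, polar_smul_left, Submodule.subtype_apply, h1, zero_add,
      (mem_core.mp u.2).1, smul_zero]
  · exact Submodule.mem_sup_left (Submodule.mem_span_singleton_self e)
  · show Submodule.span F {e} ⊔ (W.1.comap (core Q e f).subtype).map (core Q e f).subtype = W.1
    rw [Submodule.map_comap_eq, Submodule.range_subtype, inf_comm, hsup _ W.2.1.2 W.2.2]
  · show (Submodule.span F {e} ⊔ U.1.map (core Q e f).subtype).comap (core Q e f).subtype = U.1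
    refine le_antisymm (fun x hx => ?_) fun x hx => Submodule.mem_sup_right ⟨x, hx, rfl⟩
    obtain ⟨a, ha, b, hb, hab⟩ := Submodule.mem_sup.mp hx
    obtain ⟨u, hu, rfl⟩ := hb
    have ha' : a ∈ Submodule.span F {e} ⊓ core Q e f :=
      ⟨ha, by rw [eq_sub_of_add_eq hab]; exact (core Q e f).sub_mem x.2 u.2⟩
    rw [hL _ le_rfl, Submodule.mem_bot] at ha'
    rw [ha', zero_add] at hab
    exact Subtype.ext hab ▸ hu

/-- Modulo the characteristic there is one totally singular subspace of each dimension. -/
theorem card_sing_subspaces (hQ : Nondeg Q) {m : ℕ} (hm : 2 * m < finrank F V) :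
    (Nat.card {W : Submodule F V // finrank F W = m ∧ Sing Q W} : ZMod p) = 1 := by
  induction m generalizing V with
  | zero =>
    have : Nat.card {W : Submodule F V // finrank F W = 0 ∧ Sing Q W} = 1 := Nat.card_eq_one_iff_exists.mpr
      ⟨⟨⊥, finrank_bot _ _, fun w hw => by rw [(Submodule.mem_bot F).mp hw, QuadraticMap.map_zero]⟩,
        fun W => Subtype.ext (Submodule.finrank_eq_zero.mp W.2.1)⟩
    rw [this, Nat.cast_one]
  | succ m ih =>
    classical
    have := Module.finite_of_finite F (M := V)
    have := Fintype.ofFinite F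
    haveI : Finite (Submodule F V) := Finite.of_injective _ SetLike.coe_injective
    let S := {v : V // Q v = 0 ∧ v ≠ 0}
    let T := {W : Submodule F V // finrank F W = m + 1 ∧ Sing Q W}
    have := Fintype.ofFinite S
    have := Fintype.ofFinite T
    have e : (Σ v : S, {W : T // (v : V) ∈ W.1}) ≃ (Σ W : T, {v : W.1 // v ≠ 0}) :=
      { toFun := fun x => ⟨x.2.1, ⟨⟨x.1.1, x.2.2⟩, fun h0 => x.1.2.2 (congrArg Subtype.val h0)⟩⟩
        invFun := fun x => ⟨⟨x.2.1, x.1.2.2 _ x.2.1.2, fun h0 => x.2.2 (Subtype.ext h0)⟩, ⟨x.1, x.2.1.2⟩⟩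
        left_inv := fun _ => rfl
        right_inv := fun _ => rfl }
    have h1 := congrArg (fun n : ℕ => (n : ZMod p)) (Nat.card_congr e)
    simp only [Nat.card_sigma, Nat.cast_sum] at h1
    have hW : ∀ W : T, (Nat.card {v : W.1 // v ≠ 0} : ZMod p) = -1 := fun W => by
      have := Fintype.ofFinite W.1
      rw [Nat.card_eq_fintype_card, Fintype.card_subtype_compl, Fintype.card_subtype_eq,
        Nat.cast_sub Fintype.card_pos, ← Nat.card_eq_fintype_card, Module.natCard_eq_pow_finrank (K := F),
        W.2.1, Nat.cast_pow, natCard_cast_zero, zero_pow (by omega), Nat.cast_one, zero_sub]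
    have hv : ∀ v : S, (Nat.card {W : T // (v : V) ∈ W.1} : ZMod p) = 1 := fun v => by
      obtain ⟨f, hf⟩ := exists_hypPair hQ v.2.2 v.2.1
      rw [Nat.card_congr ((Equiv.subtypeSubtypeEquivSubtypeInter _ (fun W : Submodule F V => (v : V) ∈ W)).trans
        (throughEquiv hf m))]
      exact ih (hf.nondeg_core hQ) (by have := hf.finrank_core; omega)
    have hS : (Fintype.card S : ZMod p) = -1 := by
      have h3 := card_sing_vectors (p := p) hQ (by omega)
      rw [levelCard] at h3
      let e' : S ≃ {x : {v : V // Q v = 0} // x ≠ ⟨0, QuadraticMap.map_zero Q⟩} :=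
        { toFun := fun v => ⟨⟨v.1, v.2.1⟩, fun h0 => v.2.2 (congrArg Subtype.val h0)⟩
          invFun := fun x => ⟨x.1.1, x.1.2, fun h0 => x.2 (Subtype.ext h0)⟩
          left_inv := fun _ => rfl
          right_inv := fun _ => rfl }
      have := Fintype.ofFinite {v : V // Q v = 0}
      rw [Fintype.card_congr e', Fintype.card_subtype_compl, Fintype.card_subtype_eq,
        Nat.cast_sub (Fintype.card_pos_iff.mpr ⟨⟨0, QuadraticMap.map_zero Q⟩⟩), ← Nat.card_eq_fintype_card, h3, Nat.cast_one, zero_sub]
    rw [Finset.sum_congr rfl fun v _ => hv v, Finset.sum_congr rfl fun W _ => hW W, Finset.sum_const,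
      Finset.sum_const, Finset.card_univ, Finset.card_univ, nsmul_one, nsmul_eq_mul, hS, mul_neg, mul_one,
      neg_inj, ← Nat.card_eq_fintype_card] at h1
    exact h1.symm

/-- So the characteristic does not divide it. -/
theorem not_dvd_card_sing (hQ : Nondeg Q) {m : ℕ} (hm : 2 * m < finrank F V) :
    ¬ p ∣ Nat.card {W : Submodule F V // finrank F W = m ∧ Sing Q W} := fun h => by
  have h1 := card_sing_subspaces (p := p) hQ hm
  rw [(ZMod.natCast_eq_zero_iff _ _).mpr h] at h1
  exact zero_ne_one h1

end Cfsg.Agent.Lib.K41.Der
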