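import Cfsg.Agent.Lib.K41.Der.Witness

/-!
When every isometry of odd prime order fixes a subspace of a given class, and what it means that the
prime divides the number of these subspaces.
-/

set_option autoImplicit false

namespace Cfsg.Agent.Lib.K41.Der

open Module QuadraticMap Cfsg.Agent.Lib.Forms Cfsg.Agent.Lib.Elusive

/-- `s` is the largest admissible number of pieces. -/
def Top (N : ℕ) (pl : Prop) (i s : ℕ) : Prop := Adm N pl i s ∧ ∀ t, s < t → ¬ Adm N pl i t

/-- An invariant totally singular `m`-space with `a` moved pieces exists for every element with `s`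
pieces (`T = (r - 1) / i`). -/
def TSSol (N : ℕ) (pl : Prop) (i T m s a : ℕ) : Prop :=
  a ≤ s ∧ (Even i → 2 * a ≤ s - T + 1) ∧ TSFit N pl i m s a

variable {F : Type*} [Field F] [Fintype F] {V : Type*} [AddCommGroup V] [Module F V]
  [FiniteDimensional F V]
variable {Q : QuadraticForm F V} {f : Module.End F V} {r : ℕ} [hr : Fact r.Prime]

theorem Rot.ne_one (h : Rot Q f r) {s : ℕ} (hs1 : 1 ≤ s)
    (hs : finrank F (perp Q (fx f)) = s * pdim (orderOf (Fintype.card F : ZMod r))) : f ≠ 1 := by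
  rintro rfl
  obtain ⟨-, -, -, h4⟩ := h.moved
  have h5 : fx (1 : Module.End F V) = ⊤ := top_unique fun v _ => mem_fx.mpr rfl
  rw [h5, finrank_top, ← h5] at h4
  have := Nat.mul_pos (show 0 < s by omega) (pdim_pos (orderOf_card_pos (F := F) (r := r) h.natCast))
  omega

/-- With the most pieces, the orthogonal group of the fixed space has order prime to `r`. -/
theorem Rot.not_dvd_orth_fx (h : Rot Q f r) {s : ℕ}
    (hs : finrank F (perp Q (fx f)) = s * pdim (orderOf (Fintype.card F : ZMod r)))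
    (htop : Top (finrank F V) (Plus Q) (orderOf (Fintype.card F : ZMod r)) s) :
    ¬ r ∣ Nat.card (orth (res Q (fx f))) := by
  intro hdvd
  have := Module.finite_of_finite F (M := V)
  haveI : Finite (fx f ≃ₗ[F] fx f) := Finite.of_injective _ DFunLike.coe_injective
  obtain ⟨o, ho⟩ := exists_prime_orderOf_dvd_card' r hdvd
  have hpow : ∀ k : ℕ, ((o ^ k : orth (res Q (fx f))) : fx f ≃ₗ[F] fx f).toLinearMap = o.1.toLinearMap ^ k := by
    intro k
    induction k with
    | zero => rfl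
    | succ k ih => rw [pow_succ, pow_succ, ← ih]; rfl
  have hRot : Rot (res Q (fx f)) o.1.toLinearMap r := ⟨h.fx_nDeg, o.2, by
    rw [← hpow, ← ho, pow_orderOf_eq_one]; rfl, h.two, h.natCast⟩
  obtain ⟨t, -, ⟨ht1, ht2⟩, ht3⟩ := hRot.moved_dim
  have h1 := ht3 fun he => by
    have ho1 : o = 1 := Subtype.ext (LinearEquiv.ext fun v => LinearMap.congr_fun he v)
    rw [ho1, orderOf_one] at ho
    exact hr.out.one_lt.ne ho
  obtain ⟨-, -, -, h4⟩ := h.moved
  rw [hs] at h4
  refine htop.2 (s + t) (by omega) ⟨by rw [Nat.add_mul]; omega, fun he => ?_⟩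
  rw [Nat.add_mul] at he
  have hN : Even (finrank F V) := he ▸ ((even_pdim _).mul_left _).add ((even_pdim _).mul_left _)
  have h5 := h.plus_fx hN hs
  rw [par_add]
  have h6 := ht2 (by omega)
  rw [h5] at h6
  by_cases hA : Plus Q <;> by_cases hB : Par (orderOf (Fintype.card F : ZMod r)) s <;>
    by_cases hC : Par (orderOf (Fintype.card F : ZMod r)) t <;> simp_all

/-- If all invariant members of a class lie in the fixed space of an element with the most pieces,
`r` does not divide the number of members. -/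
theorem Rot.not_dvd_class (h : Rot Q f r) {s : ℕ}
    (hs : finrank F (perp Q (fx f)) = s * pdim (orderOf (Fintype.card F : ZMod r)))
    (htop : Top (finrank F V) (Plus Q) (orderOf (Fintype.card F : ZMod r)) s)
    (P : Submodule F V → Prop)
    (hP : ∀ W W', P W → (P W' ↔ (res Q W').Equivalent (res Q W)))
    (hall : ∀ W, P W → Inv f W → W ≤ fx f) {W₁ : Submodule F V} (hW₁ : P W₁) (hW₁E : W₁ ≤ fx f) :
    ¬ r ∣ Nat.card {W : Submodule F V // P W} := by
  classical
  intro hdvd
  have := Module.finite_of_finite F (M := V)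
  haveI : Finite (Submodule F V) := Finite.of_injective _ SetLike.coe_injective
  let Ω := {W : Submodule F V // P W}
  have := Fintype.ofFinite Ω
  have hfinj : Function.Injective f := injective_of_isometry h.nondeg f h.iso
  let σ₀ : Ω → Ω := fun W => ⟨W.1.map f, by
    refine (hP _ _ W.2).mpr ?_
    let e := Submodule.equivMapOfInjective f hfinj W.1
    exact ⟨({ e with map_app' := fun w => h.iso (w : V) } : (res Q W.1).IsometryEquiv (res Q (W.1.map f))).symm⟩⟩
  have hσ : ∀ k (W : Ω), (σ₀^[k] W).1 = W.1.map (f ^ k) := by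
    intro k
    induction k with
    | zero => intro W; simp [Submodule.map_id, Module.End.one_eq_id]
    | succ k ih =>
      intro W
      rw [Function.iterate_succ_apply', pow_succ', Module.End.mul_eq_comp, Submodule.map_comp]
      show (σ₀^[k] W).1.map f = _
      rw [ih]
  have hσr : σ₀^[r] = id := funext fun W => Subtype.ext (by
    rw [hσ, h.pow, Module.End.one_eq_id, Submodule.map_id]; rfl)
  have hinv : Function.LeftInverse (σ₀^[r - 1]) σ₀ ∧ Function.RightInverse (σ₀^[r - 1]) σ₀ := by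
    constructor <;> intro x
    · rw [← Function.iterate_succ_apply, Nat.succ_eq_add_one, Nat.sub_add_cancel hr.out.one_le, hσr, id]
    · rw [← Function.iterate_succ_apply' σ₀, Nat.succ_eq_add_one, Nat.sub_add_cancel hr.out.one_le, hσr, id]
  let σ : Equiv.Perm Ω := ⟨σ₀, σ₀^[r - 1], hinv.1, hinv.2⟩
  have hσ1 : σ ^ r ^ 1 = 1 := by
    rw [pow_one]
    refine Equiv.ext fun x => ?_
    rw [Equiv.Perm.coe_pow]
    show σ₀^[r] x = x
    rw [hσr, id]
  have h1 := Equiv.Perm.card_compl_support_modEq hσ1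
  -- the fixed points form an orbit of the orthogonal group of the fixed space
  let R := res Q (fx f)
  let α := {U : Submodule F (fx f) // P (U.map (fx f).subtype)}
  have hequiv : ∀ U : Submodule F (fx f), (res R U).Equivalent (res Q (U.map (fx f).subtype)) := fun U =>
    ⟨{ Submodule.equivMapOfInjective _ Subtype.val_injective U with map_app' := fun _ => rfl }⟩
  have hact : ∀ (g : orth R) (U : α), P ((U.1.map g.1.toLinearMap).map (fx f).subtype) := fun g U => by
    refine (hP _ _ U.2).mpr ((hequiv _).symm.trans (Equivalent.trans ?_ (hequiv _)))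
    let e := Submodule.equivMapOfInjective g.1.toLinearMap g.1.injective U.1
    exact ⟨({ e with map_app' := fun w => g.2 (w : fx f) } :
      (res R U.1).IsometryEquiv (res R (U.1.map g.1.toLinearMap))).symm⟩
  letI : MulAction (orth R) α :=
    { smul := fun g U => ⟨U.1.map g.1.toLinearMap, hact g U⟩
      one_smul := fun U => Subtype.ext (Submodule.map_id U.1)
      mul_smul := fun g g' U => Subtype.ext (Submodule.map_comp g'.1.toLinearMap g.1.toLinearMap U.1) }
  let U₁ : α := ⟨W₁.comap (fx f).subtype, by rwa [Submodule.map_comap_eq, Submodule.range_subtype, inf_eq_right.mpr hW₁E]⟩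
  have horb : MulAction.orbit (orth R) U₁ = Set.univ := Set.eq_univ_of_forall fun U => by
    obtain ⟨e⟩ := ((hequiv _).trans (((hP _ _ U₁.2).mp U.2).symm.trans (hequiv _).symm) :
      (res R U₁.1).Equivalent (res R U.1))
    obtain ⟨g, hg, hgx⟩ := witt_quadratic R (Nondeg.polarBilin h.fx_nDeg) U₁.1 U.1 e.toLinearEquiv e.map_app
    refine ⟨⟨g, hg⟩, Subtype.ext ?_⟩
    show U₁.1.map g.toLinearMap = U.1
    refine le_antisymm ?_ fun u hu => ?_
    · rintro _ ⟨x, hx, rfl⟩
      show g x ∈ U.1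
      rw [hgx ⟨x, hx⟩]
      exact (e.toLinearEquiv ⟨x, hx⟩).2
    · refine ⟨(e.toLinearEquiv.symm ⟨u, hu⟩ : U₁.1), (e.toLinearEquiv.symm ⟨u, hu⟩).2, ?_⟩
      rw [LinearEquiv.coe_coe, hgx, LinearEquiv.apply_symm_apply]
  have hfix : σ.supportᶜ.card = Nat.card α := by
    rw [← Nat.card_eq_finsetCard]
    refine Nat.card_congr
      { toFun := fun W => ⟨W.1.1.comap (fx f).subtype, ?_⟩
        invFun := fun U => ⟨⟨U.1.map (fx f).subtype, U.2⟩, ?_⟩
        left_inv := fun W => ?_
        right_inv := fun U => Subtype.ext (Submodule.comap_map_eq_of_injective Subtype.val_injective _) }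
    · have hW := W.2
      rw [Finset.mem_compl, Equiv.Perm.notMem_support] at hW
      rw [Submodule.map_comap_eq, Submodule.range_subtype,
        inf_eq_right.mpr (hall _ W.1.2 (congrArg Subtype.val hW).le)]
      exact W.1.2
    · rw [Finset.mem_compl, Equiv.Perm.notMem_support]
      refine Subtype.ext ?_
      show (U.1.map (fx f).subtype).map f = U.1.map (fx f).subtype
      rw [← Submodule.map_comp]
      congr 1
      exact LinearMap.ext fun x => mem_fx.mp x.2
    · have hW := W.2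
      rw [Finset.mem_compl, Equiv.Perm.notMem_support] at hW
      refine Subtype.ext (Subtype.ext ?_)
      show (W.1.1.comap (fx f).subtype).map (fx f).subtype = W.1.1
      rw [Submodule.map_comap_eq, Submodule.range_subtype,
        inf_eq_right.mpr (hall _ W.1.2 (congrArg Subtype.val hW).le)]
  have hdiv : Nat.card α ∣ Nat.card (orth R) := by
    have h2 := (MulAction.stabilizer (orth R) U₁).index_dvd_card
    rwa [MulAction.index_stabilizer, horb, Set.ncard_univ] at h2
  rw [hfix, ← Nat.card_eq_fintype_card] at h1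
  have h3 : r ∣ Nat.card α := by
    rw [← Nat.modEq_zero_iff_dvd] at hdvd ⊢
    exact h1.trans hdvd
  exact h.not_dvd_orth_fx hs htop (h3.trans hdiv)

section Criteria

variable (hQ : Nondeg Q) (hr2 : r ≠ 2) (hrF : (r : F) ≠ 0) (m : ℕ)
include hQ hr2 hrF

/-- The criterion for totally singular subspaces. -/
theorem ts_all_iff :
    (∀ f : Module.End F V, Rot Q f r → f ≠ 1 → ∃ W, Inv f W ∧ Sing Q W ∧ finrank F W = m) ↔
      ∀ s, 1 ≤ s → Adm (finrank F V) (Plus Q) (orderOf (Fintype.card F : ZMod r)) s →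
        ∃ a, TSSol (finrank F V) (Plus Q) (orderOf (Fintype.card F : ZMod r))
          ((r - 1) / orderOf (Fintype.card F : ZMod r)) m s a := by
  have hipos : 0 < orderOf (Fintype.card F : ZMod r) := orderOf_card_pos hrF
  constructor
  · intro H s hs1 hs
    obtain ⟨f, hf, hfs, hfb⟩ := exists_rot hQ hr2 hrF hs
    obtain ⟨W, hW, hWs, rfl⟩ := H f hf (hf.ne_one hs1 hfs)
    obtain ⟨a, ha, ha2, hfit⟩ := hf.ts_dim hfs hW hWs
    refine ⟨a, ?_, fun hie => Nat.le_of_mul_le_mul_right (by
      have := hfb hie W hW hWs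
      rw [ha, ← mul_assoc] at this
      exact this) hipos, hfit⟩
    refine Nat.le_of_mul_le_mul_right ?_ hipos
    rw [pdim] at ha2
    split at ha2
    · omega
    · rw [show s * (2 * orderOf (Fintype.card F : ZMod r)) = 2 * (s * orderOf (Fintype.card F : ZMod r)) by ring] at ha2
      omega
  · intro H f hf hne
    obtain ⟨s, hs, hadm, hs1⟩ := hf.moved_dim
    obtain ⟨a, h1, h2, h3⟩ := H s (hs1 hne) hadm
    exact hf.ts_of_fit hs h1 h2 h3

/-- The divisibility hypothesis for totally singular subspaces. -/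
theorem ts_top (hdvd : r ∣ Nat.card {W : Submodule F V // finrank F W = m ∧ Sing Q W}) {s : ℕ}
    (hs : Top (finrank F V) (Plus Q) (orderOf (Fintype.card F : ZMod r)) s) :
    (∃ a, 0 < a ∧ TSSol (finrank F V) (Plus Q) (orderOf (Fintype.card F : ZMod r))
      ((r - 1) / orderOf (Fintype.card F : ZMod r)) m s a) ∨
    ¬ TSSol (finrank F V) (Plus Q) (orderOf (Fintype.card F : ZMod r))
      ((r - 1) / orderOf (Fintype.card F : ZMod r)) m s 0 := by
  by_contra hcon
  push Not at hcon
  obtain ⟨hno, -, -, hfit⟩ := hcon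
  have hipos : 0 < orderOf (Fintype.card F : ZMod r) := orderOf_card_pos hrF
  obtain ⟨f, hf, hfs, hfb⟩ := exists_rot hQ hr2 hrF hs.1
  obtain ⟨hN1, hN2, hN3⟩ := hfit
  obtain ⟨-, -, -, h4⟩ := hf.moved
  obtain ⟨W₁, hW₁E, hW₁, hW₁d⟩ := exists_sing_of_dim hf.fx_nDeg (b := m) (by omega) fun he => by
    have hN : Even (finrank F V) := by
      rw [h4, hfs, ← he]; exact (even_two_mul _).add ((even_pdim _).mul_left _)
    exact (hf.plus_fx hN hfs).mpr (hN3 (by omega))
  refine hf.not_dvd_class hfs hs (fun W => finrank F W = m ∧ Sing Q W) ?_ ?_ ⟨hW₁d, hW₁⟩ hW₁E hdvd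
  · rintro W W' ⟨hW, hWs⟩
    refine ⟨fun ⟨hW', hWs'⟩ => ⟨{ LinearEquiv.ofFinrankEq W' W (hW'.trans hW.symm) with
      map_app' := fun x => (hWs _ (Subtype.mem _)).trans (hWs' _ x.2).symm }⟩, fun ⟨e⟩ => ⟨?_, fun x hx => ?_⟩⟩
    · rw [e.toLinearEquiv.finrank_eq, hW]
    · have h1 := e.map_app ⟨x, hx⟩
      rw [res_apply, res_apply, hWs _ (Subtype.mem _)] at h1
      exact h1.symm
  · rintro W ⟨hWd, hWs⟩ hW
    obtain ⟨a, ha, ha2, hfit'⟩ := hf.ts_dim hfs hW hWs
    rw [hWd] at hfit'
    have ha0 : a = 0 := by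
      by_contra ha0
      refine hno a (Nat.pos_of_ne_zero ha0) ⟨Nat.le_of_mul_le_mul_right ?_ hipos,
        fun hie => Nat.le_of_mul_le_mul_right (by
          have := hfb hie W hW hWs
          rw [ha, ← mul_assoc] at this
          exact this) hipos, hfit'⟩
      rw [pdim] at ha2
      split at ha2
      · omega
      · rw [show s * (2 * orderOf (Fintype.card F : ZMod r)) = 2 * (s * orderOf (Fintype.card F : ZMod r)) by ring] at ha2
        omega
    rw [ha0, zero_mul] at ha
    obtain ⟨-, -, hsup, -⟩ := hf.inv_split hW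
    rw [Submodule.finrank_eq_zero.mp ha, sup_bot_eq] at hsup
    exact hsup ▸ inf_le_right

/-- The criterion for nondegenerate subspaces of even dimension and given type. -/
theorem nd_all_iff (hm : Even m) (dl : Prop) :
    (∀ f : Module.End F V, Rot Q f r → f ≠ 1 →
      ∃ W, Inv f W ∧ finrank F W = m ∧ NDeg Q W ∧ (Plus (res Q W) ↔ dl)) ↔
      ∀ s, 1 ≤ s → Adm (finrank F V) (Plus Q) (orderOf (Fintype.card F : ZMod r)) s →
        ∃ j, NDFit (finrank F V) (Plus Q) dl (orderOf (Fintype.card F : ZMod r)) m s j := by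
  constructor
  · intro H s hs1 hs
    obtain ⟨f, hf, hfs, -⟩ := exists_rot hQ hr2 hrF hs
    exact (hf.nd_iff hm dl hfs).mp (H f hf (hf.ne_one hs1 hfs))
  · intro H f hf hne
    obtain ⟨s, hs, hadm, hs1⟩ := hf.moved_dim
    exact (hf.nd_iff hm dl hs).mpr (H s (hs1 hne) hadm)

/-- The divisibility hypothesis for nondegenerate subspaces of even dimension. -/
theorem nd_top (hm : Even m) (dl : Prop)
    (hdvd : r ∣ Nat.card {W : Submodule F V // finrank F W = m ∧ NDeg Q W ∧ (Plus (res Q W) ↔ dl)})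
    {s : ℕ} (hs : Top (finrank F V) (Plus Q) (orderOf (Fintype.card F : ZMod r)) s) :
    (∃ j, 0 < j ∧ NDFit (finrank F V) (Plus Q) dl (orderOf (Fintype.card F : ZMod r)) m s j) ∨
    ¬ NDFit (finrank F V) (Plus Q) dl (orderOf (Fintype.card F : ZMod r)) m s 0 := by
  by_contra hcon
  push Not at hcon
  obtain ⟨hno, h0⟩ := hcon
  obtain ⟨f, hf, hfs, -⟩ := exists_rot hQ hr2 hrF hs.1
  have hcpos := pdim_pos (orderOf_card_pos (F := F) (r := r) hrF)
  have hle : ∀ W : Submodule F V, (finrank F W = m ∧ NDeg Q W ∧ (Plus (res Q W) ↔ dl)) → Inv f W → W ≤ fx f := by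
    rintro W ⟨hWd, hWn, hWP⟩ hW
    obtain ⟨hB, hBE, hsup, hd⟩ := hf.inv_split hW
    have hBn : NDeg Q (W ⊓ perp Q (fx f)) := nDeg_iff.mpr fun x hx hxy => nDeg_iff.mp hWn x hx.1 fun y hy => by
      obtain ⟨a, ha, b, hb, rfl⟩ := Submodule.mem_sup.mp (hsup.ge hy)
      rw [polar_add_right, hxy b hb, add_zero, polar_comm]
      exact mem_perp.mp hx.2 a ha.2
    obtain ⟨j, hj, hjP⟩ := hf.fpf_dim hB hBn hBE
    have hj0 : j = 0 := by
      by_contra hj0
      have hA : NDeg Q (W ⊓ fx f) := (hf.fixed_split hW hWn).1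
      have h1 := Submodule.finrank_mono (inf_le_right : W ⊓ perp Q (fx f) ≤ perp Q (fx f))
      have h2 := Submodule.finrank_mono (inf_le_right : W ⊓ fx f ≤ fx f)
      rw [hfs, hj] at h1
      obtain ⟨-, -, -, h4⟩ := hf.moved
      refine hno j (Nat.pos_of_ne_zero hj0) ⟨Nat.le_of_mul_le_mul_right h1 hcpos, by omega, by omega, fun he => ?_, fun he => ?_⟩
      · have h3 : W ⊓ perp Q (fx f) = W := Submodule.eq_of_le_of_finrank_le inf_le_left (by omega)
        rw [h3] at hjP
        exact hjP.symm.trans hWP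
      · have hce : ∀ k, Even (k * pdim (orderOf (Fintype.card F : ZMod r))) := fun k => (even_pdim _).mul_left k
        have hN : Even (finrank F V) := by
          rw [← he, Nat.even_add, Nat.even_sub (by omega)]
          exact iff_of_true (iff_of_true hm (hce j)) (hce s)
        have hAe : Even (finrank F ↥(W ⊓ fx f)) := by
          have h3 : Even (finrank F W) := hWd ▸ hm
          rw [hd, hj, Nat.even_add] at h3
          exact h3.mpr (hce j)
        have h3 : W ⊓ fx f = fx f := Submodule.eq_of_le_of_finrank_le inf_le_right (by omega)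
        have h5 := plus_sup hA hBn (fun x hx => mem_perp.mpr fun w hw => mem_perp.mp hx.2 w hw.2) hAe (hj ▸ hce j)
        rw [hsup, hjP, h3, hf.plus_fx hN hfs] at h5
        exact h5.symm.trans hWP
    rw [hj0, zero_mul] at hj
    rw [Submodule.finrank_eq_zero.mp hj, sup_bot_eq] at hsup
    exact hsup ▸ inf_le_right
  obtain ⟨W₁, hW₁, hW₁d, hW₁n, hW₁P⟩ := (hf.nd_iff hm dl hfs).mpr ⟨0, h0⟩
  refine hf.not_dvd_class hfs hs (fun W => finrank F W = m ∧ NDeg Q W ∧ (Plus (res Q W) ↔ dl)) ?_ hle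
    ⟨hW₁d, hW₁n, hW₁P⟩ (hle _ ⟨hW₁d, hW₁n, hW₁P⟩ hW₁) hdvd
  rintro W W' ⟨hW, hWn, hWP⟩
  refine ⟨fun ⟨hW', hWn', hWP'⟩ => ?_, fun e => ?_⟩
  · obtain ⟨k, hk⟩ := hm.two_dvd
    exact equiv_of_plus hWn hWn' (hW.trans hk) (hW'.trans hk) (hWP'.trans hWP.symm)
  · obtain ⟨e⟩ := e
    exact ⟨e.toLinearEquiv.finrank_eq.trans hW, hWn.of_equiv e.symm, (plus_congr ⟨e⟩).trans hWP⟩

/-- The criterion for nondegenerate subspaces of odd dimension in a given class. -/
theorem odd_all_iff (hm : Odd m) (hN : Even (finrank F V)) (W₀ : Submodule F V) (hW₀ : NDeg Q W₀)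
    (hW₀d : finrank F W₀ = m) :
    (∀ f : Module.End F V, Rot Q f r → f ≠ 1 →
      ∃ W, Inv f W ∧ finrank F W = m ∧ NDeg Q W ∧ (res Q W).Equivalent (res Q W₀)) ↔
      ∀ s, 1 ≤ s → Adm (finrank F V) (Plus Q) (orderOf (Fintype.card F : ZMod r)) s →
        ∃ j, OFit (finrank F V) (orderOf (Fintype.card F : ZMod r)) m s j := by
  constructor
  · intro H s hs1 hs
    obtain ⟨f, hf, hfs, -⟩ := exists_rot hQ hr2 hrF hs
    exact (hf.odd_iff hm hN W₀ hW₀ hW₀d hfs).mp (H f hf (hf.ne_one hs1 hfs))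
  · intro H f hf hne
    obtain ⟨s, hs, hadm, hs1⟩ := hf.moved_dim
    exact (hf.odd_iff hm hN W₀ hW₀ hW₀d hs).mpr (H s (hs1 hne) hadm)

/-- The divisibility hypothesis for nondegenerate subspaces of odd dimension. -/
theorem odd_top (hm : Odd m) (hN : Even (finrank F V)) (W₀ : Submodule F V) (hW₀ : NDeg Q W₀)
    (hW₀d : finrank F W₀ = m)
    (hdvd : r ∣ Nat.card {W : Submodule F V // finrank F W = m ∧ NDeg Q W ∧ (res Q W).Equivalent (res Q W₀)})
    {s : ℕ} (hs : Top (finrank F V) (Plus Q) (orderOf (Fintype.card F : ZMod r)) s) :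
    (∃ j, 0 < j ∧ OFit (finrank F V) (orderOf (Fintype.card F : ZMod r)) m s j) ∨
    ¬ OFit (finrank F V) (orderOf (Fintype.card F : ZMod r)) m s 0 := by
  by_contra hcon
  push Not at hcon
  obtain ⟨hno, h0⟩ := hcon
  obtain ⟨f, hf, hfs, -⟩ := exists_rot hQ hr2 hrF hs.1
  have hcpos := pdim_pos (orderOf_card_pos (F := F) (r := r) hrF)
  have hle : ∀ W : Submodule F V, (finrank F W = m ∧ NDeg Q W ∧ (res Q W).Equivalent (res Q W₀)) → Inv f W → W ≤ fx f := by
    rintro W ⟨hWd, hWn, -⟩ hW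
    obtain ⟨hB, hBE, hsup, hd⟩ := hf.inv_split hW
    have hBn : NDeg Q (W ⊓ perp Q (fx f)) := nDeg_iff.mpr fun x hx hxy => nDeg_iff.mp hWn x hx.1 fun y hy => by
      obtain ⟨a, ha, b, hb, rfl⟩ := Submodule.mem_sup.mp (hsup.ge hy)
      rw [polar_add_right, hxy b hb, add_zero, polar_comm]
      exact mem_perp.mp hx.2 a ha.2
    obtain ⟨j, hj, -⟩ := hf.fpf_dim hB hBn hBE
    have hj0 : j = 0 := by
      by_contra hj0
      have h1 := Submodule.finrank_mono (inf_le_right : W ⊓ perp Q (fx f) ≤ perp Q (fx f))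
      have h2 := Submodule.finrank_mono (inf_le_right : W ⊓ fx f ≤ fx f)
      rw [hfs, hj] at h1
      obtain ⟨-, -, -, h4⟩ := hf.moved
      have hne : j * pdim (orderOf (Fintype.card F : ZMod r)) ≠ m := fun he =>
        Nat.not_even_iff_odd.mpr hm (he ▸ (even_pdim _).mul_left j)
      exact hno j (Nat.pos_of_ne_zero hj0) ⟨Nat.le_of_mul_le_mul_right h1 hcpos, by omega, by omega⟩
    rw [hj0, zero_mul] at hj
    rw [Submodule.finrank_eq_zero.mp hj, sup_bot_eq] at hsup
    exact hsup ▸ inf_le_right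
  obtain ⟨W₁, hW₁, hW₁d, hW₁n, hW₁P⟩ := (hf.odd_iff hm hN W₀ hW₀ hW₀d hfs).mpr ⟨0, h0⟩
  refine hf.not_dvd_class hfs hs (fun W => finrank F W = m ∧ NDeg Q W ∧ (res Q W).Equivalent (res Q W₀)) ?_ hle
    ⟨hW₁d, hW₁n, hW₁P⟩ (hle _ ⟨hW₁d, hW₁n, hW₁P⟩ hW₁) hdvd
  rintro W W' ⟨hW, hWn, hWP⟩
  refine ⟨fun ⟨_, _, hWP'⟩ => hWP'.trans hWP.symm, fun e => ?_⟩
  obtain ⟨e'⟩ := e
  exact ⟨e'.toLinearEquiv.finrank_eq.trans hW, hWn.of_equiv e'.symm, Equivalent.trans ⟨e'⟩ hWP⟩

end Criteria

end Cfsg.Agent.Lib.K41.Der
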