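import Cfsg.Agent.Lib.K41.Der.Crit
import Cfsg.Agent.Lib.OrthStd.Models
import Cfsg.Agent.Lib.Forms.Bridge
import Cfsg.Prelude.Def_GeometricClasses

/-!
From statements about elements of `Ω` given by matrices to isometries of quadratic spaces.
-/

set_option autoImplicit false

namespace Cfsg.Agent.Lib.K41.Der

open Module QuadraticMap Cfsg.Agent.Lib.Forms Cfsg.Agent.Lib.Elusive
open scoped Matrix

variable {F : Type*} [Field F] {ι : Type} [Fintype ι] [DecidableEq ι]
variable {f : (ι → F) → F} {Qf : QuadraticForm F (ι → F)}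

theorem nDeg_iff_on (hf : ∀ v, f v = Qf v) (W : Submodule F (ι → F)) :
    Cfsg.Geo.IsNondegenerateOn (QuadraticMap.polar f) W ↔ NDeg Qf W := by
  obtain rfl : f = ⇑Qf := funext hf
  rw [nDeg_iff]
  refine ⟨fun h x hx hxy => ?_, fun h w hw hw0 => ?_⟩
  · by_contra hx0
    obtain ⟨-, y, hy, hy'⟩ := h x hx hx0
    exact hy' (hxy y hy)
  · obtain ⟨y, hy, hy'⟩ : ∃ y ∈ W, polar Qf w y ≠ 0 := by
      by_contra hc
      push Not at hc
      exact hw0 (h w hw hc)
    exact ⟨⟨y, hy, by rwa [polar_comm]⟩, y, hy, hy'⟩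

omit [Fintype ι] [DecidableEq ι] in
theorem plus_iff_on (hf : ∀ v, f v = Qf v) (W : Submodule F (ι → F)) :
    Cfsg.Geo.IsPlusTypeOn f W ↔ Plus (res Qf W) := by
  obtain rfl : f = ⇑Qf := funext hf
  exact plus_res_iff.symm

omit [Fintype ι] [DecidableEq ι] in
theorem equiv_iff_on (hf : ∀ v, f v = Qf v) (W W' : Submodule F (ι → F)) :
    Cfsg.Geo.AreIsometricFor f W W' ↔ (res Qf W).Equivalent (res Qf W') := by
  obtain rfl : f = ⇑Qf := funext hf
  exact ⟨fun ⟨e, he⟩ => ⟨{ e with map_app' := he }⟩, fun ⟨e⟩ => ⟨e.toLinearEquiv, e.map_app⟩⟩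

/-- The action of a matrix. -/
theorem coe_pow_toLin (x : GL ι F) (k : ℕ) :
    Matrix.toLin' ((x ^ k : GL ι F) : Matrix ι ι F) = Matrix.toLin' (x : Matrix ι ι F) ^ k := by
  rw [Units.val_pow_eq_pow_val, Matrix.toLin'_pow]

theorem omega_isometry (hf : ∀ v, f v = Qf v) {x : GL ι F} (hx : x ∈ Cfsg.Geo.omegaGL f) (v : ι → F) :
    Qf (Matrix.toLin' (x : Matrix ι ι F) v) = Qf v := by
  obtain ⟨k, -, rfl⟩ := hx
  have h := (isoOrth Qf hf k).2 v
  rw [isoOrth_apply] at h
  simpa [Matrix.toLin'_apply] using h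

variable [Finite F]

/-- Isometries of odd prime order lie in `Ω`. -/
theorem exists_omega (hf : ∀ v, f v = Qf v) (hQ : Nondeg Qf) (h5 : 5 ≤ Fintype.card ι) {r : ℕ}
    (hr : Odd r) (g : Module.End F (ι → F)) (hg : ∀ v, Qf (g v) = Qf v) (hgr : g ^ r = 1) :
    ∃ x : GL ι F, x ∈ Cfsg.Geo.omegaGL f ∧ Matrix.toLin' (x : Matrix ι ι F) = g := by
  have hn : finrank F (ι → F) = Fintype.card ι := Module.finrank_fintype_fun_eq_card F
  let e := LinearEquiv.ofInjectiveEndo g (injective_of_isometry hQ g hg)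
  have he : ∀ v, e v = g v := fun v => rfl
  let o : orth Qf := ⟨e, fun v => by rw [he, hg]⟩
  have hor : o ^ r = 1 := by
    refine Subtype.ext (LinearEquiv.ext fun v => ?_)
    have hk : ∀ k : ℕ, ((o ^ k : orth Qf) : (ι → F) ≃ₗ[F] (ι → F)).toLinearMap = g ^ k := by
      intro k
      induction k with
      | zero => rfl
      | succ k ih => rw [pow_succ, pow_succ, ← ih]; rfl
    exact (LinearMap.congr_fun (hk r) v).trans (LinearMap.congr_fun hgr v)
  have hoc : o ∈ commutator (orth Qf) := by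
    by_cases h2 : (2 : F) = 0
    · have hi := index_commutator_two hQ h2 (by omega) (Or.inr (by omega))
      obtain ⟨k, rfl⟩ := hr
      have h1 : (o ^ 2) ^ (k + 1) = o := by
        rw [← pow_mul, show 2 * (k + 1) = 2 * k + 1 + 1 by ring, pow_succ, hor, one_mul]
      rw [← h1, ← hi]
      exact pow_mem (Subgroup.pow_index_mem _ o) _
    · have hi := index_commutator_odd hQ h2 (by omega)
      obtain ⟨k, rfl⟩ := hr
      rcases Nat.even_or_odd k with ⟨u, rfl⟩ | ⟨u, rfl⟩
      · have h1 : ((o ^ 4) ^ (3 * u + 1)) = o := by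
          rw [← pow_mul, show 4 * (3 * u + 1) = (2 * (u + u) + 1) * 3 + 1 by ring, pow_succ, pow_mul,
            hor, one_pow, one_mul]
        rw [← h1, ← hi]
        exact pow_mem (Subgroup.pow_index_mem _ o) _
      · have h1 : ((o ^ 4) ^ (u + 1)) = o := by
          rw [← pow_mul, show 4 * (u + 1) = 2 * (2 * u + 1) + 1 + 1 by ring, pow_succ, hor, one_mul]
        rw [← h1, ← hi]
        exact pow_mem (Subgroup.pow_index_mem _ o) _
  set k := (isoOrth Qf hf).symm o with hk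
  have hkc : k ∈ commutator (Cfsg.isometryGroup F f) :=
    (mem_commutator_equiv (isoOrth Qf hf).symm o).1 hoc
  refine ⟨(k : GL ι F), ⟨k, hkc, rfl⟩, LinearMap.ext fun v => ?_⟩
  rw [Matrix.toLin'_apply, ← isoOrth_apply Qf hf k v, hk, MulEquiv.apply_symm_apply]
  exact he v

variable {r : ℕ} [hr : Fact r.Prime]

/-- The statement for elements with scalar `r`-th power, `r` odd. -/
theorem all_fix_scalar (hf : ∀ v, f v = Qf v) (hQ : Nondeg Qf) (h5 : 5 ≤ Fintype.card ι)
    (hr2 : r ≠ 2) (hrF : (r : F) ≠ 0) (P : Submodule F (ι → F) → Prop) :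
    (∀ x : GL ι F, x ∈ Cfsg.Geo.omegaGL f →
      (∃ z : F, ((x ^ r : GL ι F) : Matrix ι ι F) = z • (1 : Matrix ι ι F)) →
      (∀ z : F, (x : Matrix ι ι F) ≠ z • (1 : Matrix ι ι F)) →
      ∃ W : Submodule F (ι → F), P W ∧ W.map (Matrix.toLin' (x : Matrix ι ι F)) ≤ W) ↔
    (∀ g : Module.End F (ι → F), Rot Qf g r → g ≠ 1 → ∃ W, Inv g W ∧ P W) := by
  haveI : Nonempty ι := Fintype.card_pos_iff.mp (by omega)
  obtain ⟨v₀, hv₀⟩ : ∃ v, Qf v = 1 := exists_Q_eq hQ (by rw [Module.finrank_fintype_fun_eq_card]; omega) 1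
  constructor
  · intro H g hg hne
    obtain ⟨x, hx, hxg⟩ := exists_omega hf hQ h5 (hr.out.odd_of_ne_two hr2) g hg.iso hg.pow
    obtain ⟨W, hP, hW⟩ := H x hx ⟨1, Matrix.toLin'.injective (by
      rw [coe_pow_toLin, hxg, hg.pow, one_smul, Matrix.toLin'_one]; rfl)⟩ (fun z hz => by
      have h1 : g = z • 1 := by rw [← hxg, hz, map_smul, Matrix.toLin'_one]; rfl
      have h2 := hg.iso v₀
      rw [h1, LinearMap.smul_apply, Module.End.one_apply, Q_smul, hv₀, mul_one] at h2
      have h3 : z ^ r = 1 := by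
        have h4 := LinearMap.congr_fun hg.pow v₀
        rw [h1, _root_.smul_pow, one_pow, LinearMap.smul_apply, Module.End.one_apply] at h4
        have h5 := congrArg Qf h4
        by_contra h6
        have h7 : (z ^ r - 1) • v₀ = 0 := by rw [sub_smul, h4, one_smul, sub_self]
        exact (smul_ne_zero (sub_ne_zero.mpr h6) fun h0 => by simp [h0] at hv₀) h7
      obtain ⟨k, hk⟩ := hr.out.odd_of_ne_two hr2
      rw [hk, pow_succ, pow_mul, _root_.sq, h2, one_pow, one_mul] at h3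
      exact hne (by rw [h1, h3, one_smul]))
    exact ⟨W, by rwa [hxg] at hW, hP⟩
  · intro H x hx ⟨z, hz⟩ hns
    set g := Matrix.toLin' (x : Matrix ι ι F) with hgdef
    have hiso := omega_isometry hf hx
    have hgr : g ^ r = z • 1 := by
      rw [hgdef, ← coe_pow_toLin, hz, map_smul, Matrix.toLin'_one]; rfl
    have hz2 : z * z = 1 := by
      have hp : ∀ k, Qf ((g ^ k) v₀) = Qf v₀ := fun k => by
        induction k with
        | zero => rfl
        | succ k ih => rw [pow_succ', Module.End.mul_apply, hiso, ih]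
      have h1 := hp r
      rw [hgr, LinearMap.smul_apply, Module.End.one_apply, Q_smul, hv₀, mul_one] at h1
      exact h1
    have hRot : Rot Qf (z • g) r := by
      refine ⟨hQ, fun v => by rw [LinearMap.smul_apply, Q_smul, hiso, hz2, one_mul], ?_, hr2, hrF⟩
      obtain ⟨k, hk⟩ := hr.out.odd_of_ne_two hr2
      rw [_root_.smul_pow, hgr, smul_smul, hk, pow_succ, pow_mul, _root_.sq, hz2, one_pow, one_mul, hz2, one_smul]
    obtain ⟨W, hW, hP⟩ := H (z • g) hRot fun he => hns z (Matrix.toLin'.injective (by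
      rw [← hgdef, map_smul, Matrix.toLin'_one]
      calc g = (z * z) • g := by rw [hz2, one_smul]
        _ = z • (z • g) := mul_smul _ _ _
        _ = _ := by rw [he]; rfl))
    refine ⟨W, hP, Inv.of_mem fun v hv => ?_⟩
    have h1 := W.smul_mem z (hW.mem hv)
    rwa [LinearMap.smul_apply, smul_smul, hz2, one_smul] at h1

/-- The statement for elements of order `r`. -/
theorem all_fix_order (hf : ∀ v, f v = Qf v) (hQ : Nondeg Qf) (h5 : 5 ≤ Fintype.card ι)
    (hr2 : r ≠ 2) (hrF : (r : F) ≠ 0) (P : Submodule F (ι → F) → Prop) :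
    (∀ x : GL ι F, x ∈ Cfsg.Geo.omegaGL f → orderOf x = r →
      ∃ W : Submodule F (ι → F), P W ∧ W.map (Matrix.toLin' (x : Matrix ι ι F)) ≤ W) ↔
    (∀ g : Module.End F (ι → F), Rot Qf g r → g ≠ 1 → ∃ W, Inv g W ∧ P W) := by
  constructor
  · intro H g hg hne
    obtain ⟨x, hx, hxg⟩ := exists_omega hf hQ h5 (hr.out.odd_of_ne_two hr2) g hg.iso hg.pow
    obtain ⟨W, hP, hW⟩ := H x hx (orderOf_eq_prime (Units.ext (Matrix.toLin'.injective (by
      rw [coe_pow_toLin, hxg, hg.pow, Units.val_one, Matrix.toLin'_one]; rfl))) fun h1 => hne (by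
        rw [← hxg, h1, Units.val_one, Matrix.toLin'_one]; rfl))
    exact ⟨W, by rwa [hxg] at hW, hP⟩
  · intro H x hx hord
    obtain ⟨W, hW, hP⟩ := H (Matrix.toLin' (x : Matrix ι ι F))
      ⟨hQ, omega_isometry hf hx, by
        rw [← coe_pow_toLin, ← hord, pow_orderOf_eq_one, Units.val_one, Matrix.toLin'_one]; rfl, hr2, hrF⟩
      fun he => hr.out.ne_one (by
        rw [← hord, orderOf_eq_one_iff]
        exact Units.ext (Matrix.toLin'.injective (by rw [he, Units.val_one, Matrix.toLin'_one]; rfl)))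
    exact ⟨W, hP, hW⟩

omit [Fintype ι] [DecidableEq ι] [Finite F] in
theorem qOddC_nondeg (h2 : (2 : F) ≠ 0) (d : ℕ) : Nondeg (OrthStd.qOddC d F) :=
  (prod_nondeg (qPlus_nondeg d) (qOne_nondeg one_ne_zero h2)).of_equiv (OrthStd.oddIso d F).symm

omit [Fintype ι] [DecidableEq ι] in
theorem plus_qMinus [Fintype F] (k : ℕ) {a b : F}
    (hab : ∀ x y : F, x ^ 2 + a * x * y + b * y ^ 2 = 0 → x = 0 ∧ y = 0) : ¬ Plus (qMinus k a b) :=
  not_plus_minus hab (qMinus_equiv k a b)

end Cfsg.Agent.Lib.K41.Der
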