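import Cfsg.Agent.Lib.K41.Der.Invol
import Cfsg.Agent.Lib.K41.Der.Transfer

/-!
When every element of `Ω` with square `±1` fixes a subspace of a given class, in odd characteristic.
-/

set_option autoImplicit false

namespace Cfsg.Agent.Lib.K41.Der

open Module QuadraticMap Cfsg.Agent.Lib.Forms Cfsg.Agent.Lib.Elusive

section Space

variable {F : Type*} [Field F] {V : Type*} [AddCommGroup V] [Module F V]
variable {Q : QuadraticForm F V}

/-- Every noncentral involution of the commutator subgroup fixes a member of `P`. -/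
def FixInvo (Q : QuadraticForm F V) (P : Submodule F V → Prop) : Prop :=
  ∀ o : orth Q, o ∈ commutator (orth Q) → Invo Q o.1.toLinearMap → fx o.1.toLinearMap ≠ ⊥ →
    ng o.1.toLinearMap ≠ ⊥ → ∃ W, Inv o.1.toLinearMap W ∧ P W

/-- Every element of the commutator subgroup with square `-1` fixes a member of `P`. -/
def FixQuarter (Q : QuadraticForm F V) (P : Submodule F V → Prop) : Prop :=
  ∀ o : orth Q, o ∈ commutator (orth Q) → Quarter Q o.1.toLinearMap →
    ∃ W, Inv o.1.toLinearMap W ∧ P W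

theorem sing_le_finrank [FiniteDimensional F V] {W X : Submodule F V} (hX : NDeg Q X) (hWX : W ≤ X)
    (hW : Sing Q W) : 2 * finrank F W ≤ finrank F X := by
  rw [← (Submodule.comapSubtypeEquivOfLe hWX).finrank_eq]
  exact sing_finrank_le hX fun w hw => hW w hw

variable [Fintype F] [FiniteDimensional F V] (hQ : Nondeg Q) (h2 : (2 : F) ≠ 0)
include hQ h2

theorem fixQuarter_iff_quarters {d : ℕ} (hd : 1 ≤ d) (hV : finrank F V = 2 * d)
    {P : Submodule F V → Prop} {C : Prop}
    (hC : ∀ g, Quarter Q g → ((∃ W, Inv g W ∧ P W) ↔ C)) :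
    FixQuarter Q P ↔ (¬ Quarters (Fintype.card F) d (Plus Q) ∨ C) := by
  constructor
  · intro H
    by_cases hq : Quarters (Fintype.card F) d (Plus Q)
    · obtain ⟨o, ho, hsq⟩ := exists_quarter hQ h2 hd hV hq
      have hQu : Quarter Q o.1.toLinearMap := ⟨hQ, h2, o.2, hsq⟩
      exact Or.inr ((hC _ hQu).mp (H o ho hQu))
    · exact Or.inl hq
  · intro H o ho hQu
    exact (hC _ hQu).mpr (H.resolve_left fun h => h ((hQu.mem_iff hd hV).mp ho))

/-- Even dimensional classes. -/
theorem fix_two_even (hn : 3 ≤ finrank F V) {j : ℕ} (hj : 1 ≤ j) (hlt : 2 * j < finrank F V) (dl : Prop) :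
    FixInvo Q (fun W => finrank F W = 2 * j ∧ NDeg Q W ∧ (Plus (res Q W) ↔ dl)) ∧
    ∀ d, finrank F V = 2 * d →
      (FixQuarter Q (fun W => finrank F W = 2 * j ∧ NDeg Q W ∧ (Plus (res Q W) ↔ dl)) ↔
        (¬ Quarters (Fintype.card F) d (Plus Q) ∨ (TwoPar (Fintype.card F) j ↔ dl))) := by
  obtain ⟨W₀, hW₀, hW₀d, hW₀P⟩ := exists_class_rep hQ hj hlt dl
  refine ⟨fun o _ hI hP hM => ?_, fun d hV => fixQuarter_iff_quarters hQ h2 (by omega) hV fun g hg => ?_⟩
  · obtain ⟨W, hW, hWn, hWd, hWe⟩ := hI.exists_class hP hM hn hW₀ (by omega)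
    exact ⟨W, hW, hWd.trans hW₀d, hWn, (plus_congr hWe).trans hW₀P⟩
  · constructor
    · rintro ⟨W, hW, hWd, hWn, hWP⟩
      obtain ⟨j', hj', hP⟩ := hg.dim hW hWn
      obtain rfl : j' = j := by omega
      exact hP.symm.trans hWP
    · intro hP
      obtain ⟨W, -, hW, hWn, hWd⟩ := hg.exists_sub j ⊤ (Inv.top g) (nDeg_top_iff.mpr hQ)
        (by rw [finrank_top]; omega)
      obtain ⟨j', hj', hP'⟩ := hg.dim hW hWn
      obtain rfl : j' = j := by omega
      exact ⟨W, hW, hWd, hWn, hP'.trans hP⟩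

/-- Odd dimensional classes. -/
theorem fix_two_odd {d : ℕ} (hd : 2 ≤ d) (hV : finrank F V = 2 * d) {W₀ : Submodule F V}
    (hW₀ : NDeg Q W₀) (hm : Odd (finrank F W₀)) :
    FixInvo Q (fun W => finrank F W = finrank F W₀ ∧ NDeg Q W ∧ (res Q W).Equivalent (res Q W₀)) ∧
    (FixQuarter Q (fun W => finrank F W = finrank F W₀ ∧ NDeg Q W ∧ (res Q W).Equivalent (res Q W₀)) ↔
      ¬ Quarters (Fintype.card F) d (Plus Q)) := by
  have hlt : finrank F W₀ < finrank F V := lt_of_le_of_ne (Submodule.finrank_le _) fun he => by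
    rw [he, hV] at hm
    exact Nat.not_even_iff_odd.mpr hm (even_two_mul d)
  refine ⟨fun o _ hI hP hM => ?_, ?_⟩
  · obtain ⟨W, hW, hWn, hWd, hWe⟩ := hI.exists_class hP hM (by omega) hW₀ hlt
    exact ⟨W, hW, hWd, hWn, hWe⟩
  · refine (fixQuarter_iff_quarters hQ h2 (by omega) hV (C := False) fun g hg =>
      iff_false_intro ?_).trans (Iff.of_eq (or_false _))
    rintro ⟨W, hW, hWd, hWn, -⟩
    obtain ⟨j, hj, -⟩ := hg.dim hW hWn
    rw [← hWd, hj] at hm
    exact Nat.not_even_iff_odd.mpr hm (even_two_mul j)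

theorem fixQuarter_sing {d m : ℕ} (hd : 1 ≤ d) (hV : finrank F V = 2 * d) (hm : m ≤ d) :
    FixQuarter Q (fun W => finrank F W = m ∧ Sing Q W) ↔
      (¬ Quarters (Fintype.card F) d (Plus Q) ∨ (Fintype.card F % 4 = 1 ∨ Even m)) := by
  refine fixQuarter_iff_quarters hQ h2 hd hV fun g hg => ?_
  have hodd : Fintype.card F % 2 = 1 := Nat.odd_iff.mp
    ((Nat.card_eq_fintype_card (α := F)) ▸ odd_card_of_two_ne h2)
  constructor
  · rintro ⟨W, hW, rfl, -⟩
    by_contra hc
    push Not at hc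
    refine hc.2 (hg.even_finrank (fun hs => ?_) hW)
    have := FiniteField.isSquare_neg_one_iff.mp hs
    omega
  · intro hc
    by_cases h4 : Fintype.card F % 4 = 1
    · obtain ⟨i, hi⟩ := (FiniteField.isSquare_neg_one_iff (F := F)).mpr (by omega)
      obtain ⟨W, hW, hWs, hWd⟩ := hg.exists_sing_split hV hi.symm hm
      exact ⟨W, hW, hWd, hWs⟩
    · obtain ⟨a, rfl⟩ := (hc.resolve_left h4).two_dvd
      obtain ⟨W, -, hW, hWs, hWd, -⟩ := hg.exists_sing_even a ⊤ (Inv.top g) (nDeg_top_iff.mpr hQ)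
        (by rw [finrank_top]; omega)
      exact ⟨W, hW, hWd, hWs⟩

omit [Fintype F] h2 in
theorem invo_plus [Finite F] {g : Module.End F V} (hI : Invo Q g) {k j : ℕ} (hk : finrank F (fx g) = 2 * k)
    (hj : finrank F (ng g) = 2 * j) : Plus Q ↔ (Plus (res Q (fx g)) ↔ Plus (res Q (ng g))) := by
  rw [← plus_sup hI.fx_nDeg hI.ng_nDeg hI.ng_le_perp ⟨k, by omega⟩ ⟨j, by omega⟩, hI.sup,
    plus_congr (top_equiv Q)]

theorem aniso_of_plane {X : Submodule F V} (hX : finrank F X = 2) (hP : ¬ Plus (res Q X)) :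
    ∀ x ∈ X, Q x = 0 → x = 0 := by
  intro x hx hQx
  by_contra hx0
  refine hP (plus_res_iff.mpr ⟨Submodule.span F {x}, (Submodule.span_singleton_le_iff_mem x X).mpr hx,
    fun u hu => ?_, by rw [finrank_span_singleton hx0, hX]⟩)
  obtain ⟨t, rfl⟩ := Submodule.mem_span_singleton.mp hu
  rw [Q_smul, hQx, mul_zero]

theorem fixInvo_sing_odd {d m : ℕ} (hd : 2 ≤ d) (hV : finrank F V = 2 * d + 1) (hm : m ≤ d) :
    FixInvo Q (fun W => finrank F W = m ∧ Sing Q W) ↔ (m < d ∨ Fintype.card F % 4 = 1) := by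
  have hodd : Fintype.card F % 2 = 1 := Nat.odd_iff.mp
    ((Nat.card_eq_fintype_card (α := F)) ▸ odd_card_of_two_ne h2)
  constructor
  · intro H
    by_contra hc
    push Not at hc
    obtain ⟨o, ho, hI, hM, hMP⟩ := exists_invo_plane hQ h2 (by omega)
    have h1 := hI.finrank
    obtain ⟨W, hW, hWd, hWs⟩ := H o ho hI (fun h0 => by rw [h0, finrank_bot] at h1; omega)
      (fun h0 => by rw [h0, finrank_bot] at hM; omega)
    have hns : ¬ IsSquare (-1 : F) := fun hs => by
      have := FiniteField.isSquare_neg_one_iff.mp hs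
      omega
    have h3 := sing_le_finrank hI.fx_nDeg
      (hI.sing_le_fx (aniso_of_plane hQ h2 hM (hMP.not.mpr hns)) hW hWs) hWs
    omega
  · intro hc o ho hI hP hM
    obtain ⟨j, hj, hjP⟩ := hI.comm_info (by omega) ho
    have h1 := hI.finrank
    have hb := Nat.pos_of_ne_zero (mt Submodule.finrank_eq_zero.mp hM)
    obtain ⟨W, hW, hWs, hWd⟩ := hI.exists_sing (a := min m (d - j)) (b := m - min m (d - j)) (m := m)
      (by omega) (by omega) (fun he => by omega) (by omega) fun he => hjP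
        (FiniteField.isSquare_neg_one_iff.mpr (by omega))
    exact ⟨W, hW, hWd, hWs⟩

theorem fixInvo_sing_plus {d m : ℕ} (hd : 2 ≤ d) (hV : finrank F V = 2 * d) (hQP : Plus Q) (hm : m < d) :
    FixInvo Q (fun W => finrank F W = m ∧ Sing Q W) ↔ (Fintype.card F % 4 = 1 ∨ m + 2 ≤ d) := by
  have hodd : Fintype.card F % 2 = 1 := Nat.odd_iff.mp
    ((Nat.card_eq_fintype_card (α := F)) ▸ odd_card_of_two_ne h2)
  constructor
  · intro H
    by_contra hc
    push Not at hc
    obtain ⟨o, ho, hI, hM, hMP⟩ := exists_invo_plane hQ h2 (by omega)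
    have h1 := hI.finrank
    obtain ⟨W, hW, hWd, hWs⟩ := H o ho hI (fun h0 => by rw [h0, finrank_bot] at h1; omega)
      (fun h0 => by rw [h0, finrank_bot] at hM; omega)
    have hns : ¬ IsSquare (-1 : F) := fun hs => by
      have := FiniteField.isSquare_neg_one_iff.mp hs
      omega
    have hnM : ¬ Plus (res Q (ng o.1.toLinearMap)) := hMP.not.mpr hns
    have hWP := hI.sing_le_fx (aniso_of_plane hQ h2 hM hnM) hW hWs
    have hpl := (invo_plus hQ hI (k := d - 1) (j := 1) (by omega) (by omega)).mp hQP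
    exact hnM (hpl.mp (plus_res_iff.mpr ⟨W, hWP, hWs, by omega⟩))
  · intro hc o ho hI hP hM
    obtain ⟨j, hj, hjP⟩ := hI.comm_info (by omega) ho
    have h1 := hI.finrank
    have ha := Nat.pos_of_ne_zero (mt Submodule.finrank_eq_zero.mp hP)
    have hb := Nat.pos_of_ne_zero (mt Submodule.finrank_eq_zero.mp hM)
    obtain ⟨W, hW, hWs, hWd⟩ := hI.exists_sing (a := min m (d - j - 1)) (b := m - min m (d - j - 1)) (m := m)
      (by omega) (by omega) (fun he => by omega) (by omega) fun he => hjP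
        (FiniteField.isSquare_neg_one_iff.mpr (by omega))
    exact ⟨W, hW, hWd, hWs⟩

theorem fixInvo_sing_minus {d m : ℕ} (hd : 2 ≤ d) (hV : finrank F V = 2 * d) (hQP : ¬ Plus Q) (hm : m < d) :
    FixInvo Q (fun W => finrank F W = m ∧ Sing Q W) := by
  intro o ho hI hP hM
  obtain ⟨j, hj, -⟩ := hI.comm_info (by omega) ho
  have h1 := hI.finrank
  have ha := Nat.pos_of_ne_zero (mt Submodule.finrank_eq_zero.mp hP)
  have hb := Nat.pos_of_ne_zero (mt Submodule.finrank_eq_zero.mp hM)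
  have hpl := invo_plus hQ hI (k := d - j) (j := j) (by omega) hj
  by_cases hA : Plus (res Q (fx o.1.toLinearMap))
  · obtain ⟨W, hW, hWs, hWd⟩ := hI.exists_sing (a := min m (d - j)) (b := m - min m (d - j)) (m := m)
      (by omega) (by omega) (fun _ => hA) (by omega) fun he => by omega
    exact ⟨W, hW, hWd, hWs⟩
  · have hB : Plus (res Q (ng o.1.toLinearMap)) := by
      by_contra hB
      exact hQP (hpl.mpr (iff_of_false hA hB))
    obtain ⟨W, hW, hWs, hWd⟩ := hI.exists_sing (a := m - min m j) (b := min m j) (m := m)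
      (by omega) (by omega) (fun he => by omega) (by omega) fun _ => hB
    exact ⟨W, hW, hWd, hWs⟩

end Space

section Matrices

variable {F : Type*} [Field F] {ι : Type} [Fintype ι] [DecidableEq ι]
variable {f : (ι → F) → F} {Qf : QuadraticForm F (ι → F)}

theorem omega_orth (hf : ∀ v, f v = Qf v) {x : GL ι F} (hx : x ∈ Cfsg.Geo.omegaGL f) :
    ∃ o : orth Qf, o ∈ commutator (orth Qf) ∧ o.1.toLinearMap = Matrix.toLin' (x : Matrix ι ι F) := by
  obtain ⟨k, hk, rfl⟩ := hx
  exact ⟨isoOrth Qf hf k, (mem_commutator_equiv (isoOrth Qf hf) k).1 hk,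
    LinearMap.ext fun v => (isoOrth_apply Qf hf k v).trans (Matrix.toLin'_apply _ v).symm⟩

theorem orth_omega (hf : ∀ v, f v = Qf v) {o : orth Qf} (ho : o ∈ commutator (orth Qf)) :
    ∃ x : GL ι F, x ∈ Cfsg.Geo.omegaGL f ∧ o.1.toLinearMap = Matrix.toLin' (x : Matrix ι ι F) := by
  set k := (isoOrth Qf hf).symm o with hk
  refine ⟨(k : GL ι F), ⟨k, (mem_commutator_equiv (isoOrth Qf hf).symm o).1 ho, rfl⟩, LinearMap.ext fun v => ?_⟩
  rw [Matrix.toLin'_apply, ← isoOrth_apply Qf hf k v, hk, MulEquiv.apply_symm_apply]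
  rfl

variable [Finite F] (hf : ∀ v, f v = Qf v) (hQ : Nondeg Qf) (h2 : (2 : F) ≠ 0)
include hf hQ h2

/-- The statement for elements with scalar square. -/
theorem all_fix_two_scalar (hn : 2 ≤ Fintype.card ι) (P : Submodule F (ι → F) → Prop) :
    (∀ x : GL ι F, x ∈ Cfsg.Geo.omegaGL f →
      (∃ z : F, ((x ^ 2 : GL ι F) : Matrix ι ι F) = z • (1 : Matrix ι ι F)) →
      (∀ z : F, (x : Matrix ι ι F) ≠ z • (1 : Matrix ι ι F)) →
      ∃ W : Submodule F (ι → F), P W ∧ W.map (Matrix.toLin' (x : Matrix ι ι F)) ≤ W) ↔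
    (FixInvo Qf P ∧ FixQuarter Qf P) := by
  obtain ⟨v₀, hv₀⟩ := exists_Q_eq hQ (by rw [Module.finrank_fintype_fun_eq_card]; omega) 1
  have hv₀0 : v₀ ≠ 0 := fun h => by simp [h] at hv₀
  have hscal : ∀ (x : GL ι F) (z : F), (x : Matrix ι ι F) = z • (1 : Matrix ι ι F) →
      ∀ v, Matrix.toLin' (x : Matrix ι ι F) v = z • v := fun x z h v => by
    rw [h, map_smul, Matrix.toLin'_one]; rfl
  have hsq : ∀ (x : GL ι F) (z : F), (∀ v, Matrix.toLin' (x : Matrix ι ι F) (Matrix.toLin' (x : Matrix ι ι F) v) = z • v) →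
      ((x ^ 2 : GL ι F) : Matrix ι ι F) = z • (1 : Matrix ι ι F) := fun x z h => by
    refine Matrix.toLin'.injective (LinearMap.ext fun v => ?_)
    rw [coe_pow_toLin, _root_.sq, Module.End.mul_apply, h, map_smul, Matrix.toLin'_one]
    rfl
  constructor
  · refine fun H => ⟨fun o ho hI hP hM => ?_, fun o ho hQu => ?_⟩
    · obtain ⟨x, hx, hox⟩ := orth_omega hf ho
      obtain ⟨W, hPW, hW⟩ := H x hx ⟨1, hsq x 1 fun v => by rw [← hox, one_smul]; exact hI.sq v⟩ fun z hz => by
        obtain ⟨a, ha, ha0⟩ := Submodule.exists_mem_ne_zero_of_ne_bot hP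
        obtain ⟨b, hb, hb0⟩ := Submodule.exists_mem_ne_zero_of_ne_bot hM
        rw [mem_fx, hox, hscal x z hz] at ha
        rw [mem_ng, hox, hscal x z hz] at hb
        have hz1 : z = 1 := by
          by_contra h1
          exact smul_ne_zero (sub_ne_zero.mpr h1) ha0 (by rw [sub_smul, ha, one_smul, sub_self])
        rw [hz1, one_smul] at hb
        exact hb0 (eq_zero_of_neg_eq h2 hb.symm)
      exact ⟨W, hox ▸ hW, hPW⟩
    · obtain ⟨x, hx, hox⟩ := orth_omega hf ho
      obtain ⟨W, hPW, hW⟩ := H x hx ⟨-1, hsq x (-1) fun v => by rw [← hox, neg_one_smul]; exact hQu.sq v⟩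
        fun z hz => by
          have h1 := hQu.polar_self_apply v₀
          rw [hox, hscal x z hz, polar_smul_right, polar_self', hv₀, smul_eq_mul, mul_one] at h1
          have h3 := hQu.iso v₀
          rw [hox, hscal x z hz, Q_smul, hv₀, mul_one] at h3
          exact one_ne_zero (h3.symm.trans (by rw [(mul_eq_zero.mp h1).resolve_right h2, zero_mul]))
      exact ⟨W, hox ▸ hW, hPW⟩
  · rintro ⟨HI, HQ⟩ x hx ⟨z, hz⟩ hns
    obtain ⟨o, ho, hox⟩ := omega_orth hf hx
    have hg2 : ∀ v, o.1.toLinearMap (o.1.toLinearMap v) = z • v := fun v => by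
      rw [hox, ← Module.End.mul_apply, ← _root_.sq, ← coe_pow_toLin, hz, map_smul, Matrix.toLin'_one]
      rfl
    have hz2 : z * z = 1 := by
      have h1 := congrArg Qf (hg2 v₀)
      rw [Q_smul, hv₀, mul_one] at h1
      rw [← h1]
      exact (o.2 _).trans ((o.2 _).trans hv₀)
    suffices h : ∃ W, Inv o.1.toLinearMap W ∧ P W by
      obtain ⟨W, hW, hPW⟩ := h
      exact ⟨W, hPW, hox ▸ hW⟩
    rcases mul_self_eq_one_iff.mp hz2 with rfl | rfl
    · have hI : Invo Qf o.1.toLinearMap := ⟨hQ, h2, o.2, fun v => (hg2 v).trans (one_smul F v)⟩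
      refine HI o ho hI (fun h0 => hns (-1) ?_) fun h0 => hns 1 ?_ <;>
      · have h1 := hI.sup
        rw [h0] at h1
        simp only [bot_sup_eq, sup_bot_eq] at h1
        refine Matrix.toLin'.injective (LinearMap.ext fun v => ?_)
        rw [map_smul, Matrix.toLin'_one, ← hox]
        exact End.mem_eigenspace_iff.mp (h1.ge (Submodule.mem_top (x := v)))
    · exact HQ o ho ⟨hQ, h2, o.2, fun v => (hg2 v).trans (neg_one_smul F v)⟩

/-- The statement for elements of order two in odd dimension. -/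
theorem all_fix_two_order (hn : 2 ≤ Fintype.card ι) (hodd : Odd (Fintype.card ι))
    (P : Submodule F (ι → F) → Prop) :
    (∀ x : GL ι F, x ∈ Cfsg.Geo.omegaGL f → orderOf x = 2 →
      ∃ W : Submodule F (ι → F), P W ∧ W.map (Matrix.toLin' (x : Matrix ι ι F)) ≤ W) ↔
    FixInvo Qf P := by
  constructor
  · intro H o ho hI hP hM
    obtain ⟨x, hx, hox⟩ := orth_omega hf ho
    have hx2 : x ^ 2 = 1 := Units.ext (Matrix.toLin'.injective (LinearMap.ext fun v => by
      rw [coe_pow_toLin, _root_.sq, Module.End.mul_apply, ← hox, Units.val_one, Matrix.toLin'_one]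
      exact hI.sq v))
    obtain ⟨W, hPW, hW⟩ := H x hx (orderOf_eq_prime hx2 fun h1 => hM ((Submodule.eq_bot_iff _).mpr fun v hv => by
      rw [mem_ng, hox, h1, Units.val_one, Matrix.toLin'_one] at hv
      exact eq_zero_of_neg_eq h2 hv.symm))
    exact ⟨W, hox ▸ hW, hPW⟩
  · intro H x hx hord
    obtain ⟨o, ho, hox⟩ := omega_orth hf hx
    have hI : Invo Qf o.1.toLinearMap := ⟨hQ, h2, o.2, fun v => by
      rw [hox, ← Module.End.mul_apply, ← _root_.sq, ← coe_pow_toLin, ← hord, pow_orderOf_eq_one,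
        Units.val_one, Matrix.toLin'_one]; rfl⟩
    obtain ⟨j, hj, -⟩ := hI.comm_info (by rw [Module.finrank_fintype_fun_eq_card]; omega) ho
    have h1 := hI.finrank
    rw [Module.finrank_fintype_fun_eq_card, hj] at h1
    obtain ⟨W, hW, hPW⟩ := H o ho hI
      (fun h0 => by rw [h0, finrank_bot] at h1; exact Nat.not_even_iff_odd.mpr hodd ⟨j, by omega⟩)
      fun h0 => by
        have h3 := hI.sup
        rw [h0, sup_bot_eq] at h3
        have hx1 : x = 1 := Units.ext (Matrix.toLin'.injective (LinearMap.ext fun v => by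
          rw [← hox, Units.val_one, Matrix.toLin'_one]
          exact mem_fx.mp (h3.ge (Submodule.mem_top (x := v)))))
        rw [hx1, orderOf_one] at hord
        omega
    exact ⟨W, hPW, hox ▸ hW⟩

end Matrices

end Cfsg.Agent.Lib.K41.Der
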