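import Cfsg.Agent.Lib.K41.Der.Arith
import Cfsg.Agent.Lib.K41.Der.Crit2

/-!
The criteria for matrices, assembled.
-/

set_option autoImplicit false

namespace Cfsg.Agent.Lib.K41.Der

open Module QuadraticMap Cfsg.Agent.Lib.Forms Cfsg.Agent.Lib.Elusive

variable {F : Type*} [Field F] [Fintype F] {ι : Type} [Fintype ι] [DecidableEq ι]
variable {f : (ι → F) → F} {Qf : QuadraticForm F (ι → F)}

/-- The condition for nondegenerate subspaces of even dimension. -/
def CondND (N : ℕ) (pl dl : Prop) (i m : ℕ) : Prop :=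
  (N % pdim i = 0 ∧ ¬ (pl ↔ Par i (N / pdim i))) ∨
  (m % pdim i = 0 ∧ (Par i (m / pdim i) ↔ dl)) ∨
  (0 < m % pdim i ∧ 0 < N % pdim i ∧ 1 ≤ m / pdim i ∧
    (m % pdim i < N % pdim i ∨
      (m % pdim i = N % pdim i ∧ ((pl ↔ Par i (N / pdim i)) ↔ (dl ↔ Par i (m / pdim i))))))

/-- The condition for nondegenerate subspaces of odd dimension. -/
def CondOdd (N : ℕ) (pl : Prop) (i m : ℕ) : Prop :=
  (N % pdim i = 0 ∧ ¬ (pl ↔ Par i (N / pdim i))) ∨
  (0 < N % pdim i ∧ 1 ≤ m / pdim i ∧ m % pdim i ≤ N % pdim i)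

/-- The condition for totally singular subspaces. -/
def CondTS (N : ℕ) (pl : Prop) (i T m : ℕ) : Prop :=
  (Odd i ∧ i ≤ m ∧
    (2 * (m % i) < N % (2 * i) ∨ (2 * (m % i) = N % (2 * i) ∧ pl) ∨ (N % (2 * i) = 0 ∧ ¬ pl))) ∨
  (Even i ∧ i ≤ m ∧ T + 2 * (m / i) ≤ N / i ∧
    (2 * (m % i) < N % i ∨ (2 * (m % i) = N % i ∧ (pl ↔ Even (N / i))) ∨
     (N % i = 0 ∧ ¬ (pl ↔ Even (N / i)) ∧ T + 2 * (m / i) < N / i ∧ 2 * (m % i) ≤ i)))

theorem natCast_ne_zero_of_ne {p r : ℕ} [hp : Fact p.Prime] [CharP F p] [hr : Fact r.Prime] (h : r ≠ p) :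
    (r : F) ≠ 0 := fun h0 =>
  h ((Nat.prime_dvd_prime_iff_eq hp.out hr.out).mp ((CharP.cast_eq_zero_iff F p r).mp h0)).symm

theorem two_ne_zero_of_odd {q : ℕ} (hq : Fintype.card F = q) (hodd : Odd q) : (2 : F) ≠ 0 := by
  obtain ⟨p, hp⟩ := CharP.exists F
  obtain ⟨n, hpp, hcard⟩ := FiniteField.card F p
  refine fun h => ?_
  have h2 : p ∣ 2 := (CharP.cast_eq_zero_iff F p 2).mp (by exact_mod_cast h)
  rw [(Nat.prime_dvd_prime_iff_eq hpp Nat.prime_two).mp h2] at hcard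
  rw [← hq, hcard] at hodd
  exact Nat.not_even_iff_odd.mpr hodd (Nat.even_pow.mpr ⟨even_two, n.ne_zero⟩)

theorem not_plus_of_odd {V : Type*} [AddCommGroup V] [Module F V] {Q : QuadraticForm F V} {d : ℕ}
    (h : finrank F V = 2 * d + 1) : ¬ Plus Q := fun ⟨U, _, hU⟩ => by omega

variable {r : ℕ} [hr : Fact r.Prime] (hf : ∀ v, f v = Qf v) (hQ : Nondeg Qf) (h5 : 5 ≤ Fintype.card ι)
  {P : Submodule F (ι → F) → Prop} {m : ℕ}
include hf hQ h5

omit hf hQ h5 [Fintype ι] [DecidableEq ι] in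
theorem card_congr_pred {P' : Submodule F (ι → F) → Prop} (h : ∀ W, P W ↔ P' W) :
    Nat.card {W // P W} = Nat.card {W // P' W} :=
  Nat.card_congr (Equiv.subtypeEquivRight h)

section Odd

variable (hr2 : r ≠ 2) (hrF : (r : F) ≠ 0)
include hr2 hrF

theorem nd_scalar (hm : Even m) (hm2 : 2 ≤ m) (hmN : m < Fintype.card ι) (dl : Prop)
    (hP : ∀ W, P W ↔ (finrank F W = m ∧ NDeg Qf W ∧ (Plus (res Qf W) ↔ dl)))
    (hdvd : r ∣ Nat.card {W // P W}) :
    (∀ x : GL ι F, x ∈ Cfsg.Geo.omegaGL f →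
      (∃ z : F, ((x ^ r : GL ι F) : Matrix ι ι F) = z • (1 : Matrix ι ι F)) →
      (∀ z : F, (x : Matrix ι ι F) ≠ z • (1 : Matrix ι ι F)) →
      ∃ W : Submodule F (ι → F), P W ∧ W.map (Matrix.toLin' (x : Matrix ι ι F)) ≤ W) ↔
    CondND (Fintype.card ι) (Plus Qf) dl (orderOf (Fintype.card F : ZMod r)) m := by
  obtain rfl : P = fun W : Submodule F (ι → F) => finrank F W = m ∧ NDeg Qf W ∧ (Plus (res Qf W) ↔ dl) :=
    funext fun W => propext (hP W)
  have hn : finrank F (ι → F) = Fintype.card ι := Module.finrank_fintype_fun_eq_card F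
  rw [all_fix_scalar hf hQ h5 hr2 hrF, nd_all_iff hQ hr2 hrF m hm dl, hn]
  exact nd_arith (orderOf_card_pos hrF) hm2 hmN fun s hs => by
    have := nd_top hQ hr2 hrF m hm dl hdvd (s := s) (by rwa [hn])
    rwa [hn] at this

theorem nd_order (hm : Even m) (hm2 : 2 ≤ m) (hmN : m < Fintype.card ι) (dl : Prop)
    (hP : ∀ W, P W ↔ (finrank F W = m ∧ NDeg Qf W ∧ (Plus (res Qf W) ↔ dl)))
    (hdvd : r ∣ Nat.card {W // P W}) :
    (∀ x : GL ι F, x ∈ Cfsg.Geo.omegaGL f → orderOf x = r →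
      ∃ W : Submodule F (ι → F), P W ∧ W.map (Matrix.toLin' (x : Matrix ι ι F)) ≤ W) ↔
    CondND (Fintype.card ι) (Plus Qf) dl (orderOf (Fintype.card F : ZMod r)) m := by
  obtain rfl : P = fun W : Submodule F (ι → F) => finrank F W = m ∧ NDeg Qf W ∧ (Plus (res Qf W) ↔ dl) :=
    funext fun W => propext (hP W)
  have hn : finrank F (ι → F) = Fintype.card ι := Module.finrank_fintype_fun_eq_card F
  rw [all_fix_order hf hQ h5 hr2 hrF, nd_all_iff hQ hr2 hrF m hm dl, hn]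
  exact nd_arith (orderOf_card_pos hrF) hm2 hmN fun s hs => by
    have := nd_top hQ hr2 hrF m hm dl hdvd (s := s) (by rwa [hn])
    rwa [hn] at this

theorem odd_scalar (hm : Odd m) (hmN : m < Fintype.card ι) (hev : Even (Fintype.card ι))
    {W₀ : Submodule F (ι → F)} (hW₀ : NDeg Qf W₀) (hW₀d : finrank F W₀ = m)
    (hP : ∀ W, P W ↔ (finrank F W = m ∧ NDeg Qf W ∧ (res Qf W).Equivalent (res Qf W₀)))
    (hdvd : r ∣ Nat.card {W // P W}) :
    (∀ x : GL ι F, x ∈ Cfsg.Geo.omegaGL f →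
      (∃ z : F, ((x ^ r : GL ι F) : Matrix ι ι F) = z • (1 : Matrix ι ι F)) →
      (∀ z : F, (x : Matrix ι ι F) ≠ z • (1 : Matrix ι ι F)) →
      ∃ W : Submodule F (ι → F), P W ∧ W.map (Matrix.toLin' (x : Matrix ι ι F)) ≤ W) ↔
    CondOdd (Fintype.card ι) (Plus Qf) (orderOf (Fintype.card F : ZMod r)) m := by
  obtain rfl : P = fun W : Submodule F (ι → F) => finrank F W = m ∧ NDeg Qf W ∧ (res Qf W).Equivalent (res Qf W₀) :=
    funext fun W => propext (hP W)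
  have hn : finrank F (ι → F) = Fintype.card ι := Module.finrank_fintype_fun_eq_card F
  rw [all_fix_scalar hf hQ h5 hr2 hrF, odd_all_iff hQ hr2 hrF m hm (by rwa [hn]) W₀ hW₀ hW₀d, hn]
  exact odd_arith (orderOf_card_pos hrF) hm hmN fun s hs => by
    have := odd_top hQ hr2 hrF m hm (by rwa [hn]) W₀ hW₀ hW₀d hdvd (s := s) (by rwa [hn])
    rwa [hn] at this

omit hf h5 in
theorem ts_arith (hm : 1 ≤ m) (hmN : 2 * m < Fintype.card ι)
    (hdvd : r ∣ Nat.card {W : Submodule F (ι → F) // finrank F W = m ∧ Sing Qf W}) :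
    (∀ g : Module.End F (ι → F), Rot Qf g r → g ≠ 1 → ∃ W, Inv g W ∧ Sing Qf W ∧ finrank F W = m) ↔
    CondTS (Fintype.card ι) (Plus Qf) (orderOf (Fintype.card F : ZMod r))
      ((r - 1) / orderOf (Fintype.card F : ZMod r)) m := by
  have hn : finrank F (ι → F) = Fintype.card ι := Module.finrank_fintype_fun_eq_card F
  rw [ts_all_iff hQ hr2 hrF m, hn]
  have hi := orderOf_card_pos (F := F) (r := r) hrF
  have H := fun s (hs : Top (Fintype.card ι) (Plus Qf) (orderOf (Fintype.card F : ZMod r)) s) => by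
    have := ts_top hQ hr2 hrF m hdvd (s := s) (by rwa [hn])
    rwa [hn] at this
  rcases Nat.even_or_odd (orderOf (Fintype.card F : ZMod r)) with he | ho
  · have hT : 0 < (r - 1) / orderOf (Fintype.card F : ZMod r) := Nat.div_pos
      (Nat.le_of_dvd (by have := hr.out.two_le; omega) (ZMod.orderOf_dvd_card_sub_one (fun h0 => hrF (by
        obtain ⟨p, hp⟩ := CharP.exists F
        obtain ⟨n, hpp, hcard⟩ := FiniteField.card F p
        rw [hcard, Nat.cast_pow] at h0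
        have h1 := (ZMod.natCast_eq_zero_iff ..).mp (eq_zero_of_pow_eq_zero h0)
        rw [(Nat.prime_dvd_prime_iff_eq hr.out hpp).mp h1]
        exact CharP.cast_eq_zero F p)))) hi
    rw [ts_arith_even he hi hT hm hmN H]
    exact ⟨fun h => Or.inr ⟨he, h⟩, fun h => h.elim (fun h => absurd he (Nat.not_even_iff_odd.mpr h.1)) And.right⟩
  · rw [ts_arith_odd ho hm hmN H]
    exact ⟨fun h => Or.inl ⟨ho, h⟩, fun h => h.elim And.right fun h => absurd h.1 (Nat.not_even_iff_odd.mpr ho)⟩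

theorem ts_scalar (hm : 1 ≤ m) (hmN : 2 * m < Fintype.card ι)
    (hP : ∀ W, P W ↔ (finrank F W = m ∧ Sing Qf W)) (hdvd : r ∣ Nat.card {W // P W}) :
    (∀ x : GL ι F, x ∈ Cfsg.Geo.omegaGL f →
      (∃ z : F, ((x ^ r : GL ι F) : Matrix ι ι F) = z • (1 : Matrix ι ι F)) →
      (∀ z : F, (x : Matrix ι ι F) ≠ z • (1 : Matrix ι ι F)) →
      ∃ W : Submodule F (ι → F), P W ∧ W.map (Matrix.toLin' (x : Matrix ι ι F)) ≤ W) ↔
    CondTS (Fintype.card ι) (Plus Qf) (orderOf (Fintype.card F : ZMod r))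
      ((r - 1) / orderOf (Fintype.card F : ZMod r)) m := by
  obtain rfl : P = fun W : Submodule F (ι → F) => finrank F W = m ∧ Sing Qf W := funext fun W => propext (hP W)
  rw [all_fix_scalar hf hQ h5 hr2 hrF]
  simp only [and_comm (a := finrank F _ = m)] at hdvd ⊢
  exact ts_arith hQ hr2 hrF hm hmN (by simpa only [and_comm (a := finrank F _ = m)] using hdvd)

theorem ts_order (hm : 1 ≤ m) (hmN : 2 * m < Fintype.card ι)
    (hP : ∀ W, P W ↔ (finrank F W = m ∧ Sing Qf W)) (hdvd : r ∣ Nat.card {W // P W}) :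
    (∀ x : GL ι F, x ∈ Cfsg.Geo.omegaGL f → orderOf x = r →
      ∃ W : Submodule F (ι → F), P W ∧ W.map (Matrix.toLin' (x : Matrix ι ι F)) ≤ W) ↔
    CondTS (Fintype.card ι) (Plus Qf) (orderOf (Fintype.card F : ZMod r))
      ((r - 1) / orderOf (Fintype.card F : ZMod r)) m := by
  obtain rfl : P = fun W : Submodule F (ι → F) => finrank F W = m ∧ Sing Qf W := funext fun W => propext (hP W)
  rw [all_fix_order hf hQ h5 hr2 hrF]
  simp only [and_comm (a := finrank F _ = m)] at hdvd ⊢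
  exact ts_arith hQ hr2 hrF hm hmN (by simpa only [and_comm (a := finrank F _ = m)] using hdvd)

end Odd

section Two

variable (h2 : (2 : F) ≠ 0)
include h2

theorem nd_two_order (hodd : Odd (Fintype.card ι)) (hm : Even m) (hm2 : 2 ≤ m)
    (hmN : m < Fintype.card ι) (dl : Prop)
    (hP : ∀ W, P W ↔ (finrank F W = m ∧ NDeg Qf W ∧ (Plus (res Qf W) ↔ dl))) :
    ∀ x : GL ι F, x ∈ Cfsg.Geo.omegaGL f → orderOf x = 2 →
      ∃ W : Submodule F (ι → F), P W ∧ W.map (Matrix.toLin' (x : Matrix ι ι F)) ≤ W := by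
  obtain ⟨j, rfl⟩ := hm.two_dvd
  obtain rfl : P = fun W : Submodule F (ι → F) => finrank F W = 2 * j ∧ NDeg Qf W ∧ (Plus (res Qf W) ↔ dl) :=
    funext fun W => propext (hP W)
  have hn : finrank F (ι → F) = Fintype.card ι := Module.finrank_fintype_fun_eq_card F
  exact (all_fix_two_order hf hQ h2 (by omega) hodd _).mpr
    (fix_two_even hQ h2 (by omega) (by omega) (by omega) dl).1

theorem nd_two_scalar {d : ℕ} (hd : Fintype.card ι = 2 * d) (hm : Even m) (hm2 : 2 ≤ m)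
    (hmN : m < Fintype.card ι) (dl : Prop)
    (hP : ∀ W, P W ↔ (finrank F W = m ∧ NDeg Qf W ∧ (Plus (res Qf W) ↔ dl))) :
    (∀ x : GL ι F, x ∈ Cfsg.Geo.omegaGL f →
      (∃ z : F, ((x ^ 2 : GL ι F) : Matrix ι ι F) = z • (1 : Matrix ι ι F)) →
      (∀ z : F, (x : Matrix ι ι F) ≠ z • (1 : Matrix ι ι F)) →
      ∃ W : Submodule F (ι → F), P W ∧ W.map (Matrix.toLin' (x : Matrix ι ι F)) ≤ W) ↔
    (¬ Quarters (Fintype.card F) d (Plus Qf) ∨ (TwoPar (Fintype.card F) (m / 2) ↔ dl)) := by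
  obtain ⟨j, rfl⟩ := hm.two_dvd
  obtain rfl : P = fun W : Submodule F (ι → F) => finrank F W = 2 * j ∧ NDeg Qf W ∧ (Plus (res Qf W) ↔ dl) :=
    funext fun W => propext (hP W)
  have hn : finrank F (ι → F) = Fintype.card ι := Module.finrank_fintype_fun_eq_card F
  obtain ⟨h1, h3⟩ := fix_two_even hQ h2 (by omega) (show 1 ≤ j by omega) (by omega) dl
  rw [all_fix_two_scalar hf hQ h2 (by omega), Nat.mul_div_cancel_left j two_pos, ← h3 d (hn.trans hd)]
  exact and_iff_right h1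

theorem odd_two_scalar {d : ℕ} (hd : Fintype.card ι = 2 * d) (hm : Odd m)
    {W₀ : Submodule F (ι → F)} (hW₀ : NDeg Qf W₀) (hW₀d : finrank F W₀ = m)
    (hP : ∀ W, P W ↔ (finrank F W = m ∧ NDeg Qf W ∧ (res Qf W).Equivalent (res Qf W₀))) :
    (∀ x : GL ι F, x ∈ Cfsg.Geo.omegaGL f →
      (∃ z : F, ((x ^ 2 : GL ι F) : Matrix ι ι F) = z • (1 : Matrix ι ι F)) →
      (∀ z : F, (x : Matrix ι ι F) ≠ z • (1 : Matrix ι ι F)) →
      ∃ W : Submodule F (ι → F), P W ∧ W.map (Matrix.toLin' (x : Matrix ι ι F)) ≤ W) ↔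
    ¬ Quarters (Fintype.card F) d (Plus Qf) := by
  subst hW₀d
  obtain rfl : P = fun W : Submodule F (ι → F) =>
      finrank F W = finrank F W₀ ∧ NDeg Qf W ∧ (res Qf W).Equivalent (res Qf W₀) :=
    funext fun W => propext (hP W)
  have hn : finrank F (ι → F) = Fintype.card ι := Module.finrank_fintype_fun_eq_card F
  obtain ⟨h1, h3⟩ := fix_two_odd hQ h2 (show 2 ≤ d by omega) (hn.trans hd) hW₀ hm
  rw [all_fix_two_scalar hf hQ h2 (by omega), ← h3]
  exact and_iff_right h1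

theorem ts_two_order {d : ℕ} (hd : Fintype.card ι = 2 * d + 1) (hmd : m ≤ d)
    (hP : ∀ W, P W ↔ (finrank F W = m ∧ Sing Qf W)) :
    (∀ x : GL ι F, x ∈ Cfsg.Geo.omegaGL f → orderOf x = 2 →
      ∃ W : Submodule F (ι → F), P W ∧ W.map (Matrix.toLin' (x : Matrix ι ι F)) ≤ W) ↔
    (m < d ∨ Fintype.card F % 4 = 1) := by
  obtain rfl : P = fun W : Submodule F (ι → F) => finrank F W = m ∧ Sing Qf W :=
    funext fun W => propext (hP W)
  have hn : finrank F (ι → F) = Fintype.card ι := Module.finrank_fintype_fun_eq_card F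
  rw [all_fix_two_order hf hQ h2 (by omega) (hd ▸ odd_two_mul_add_one d)]
  exact fixInvo_sing_odd hQ h2 (by omega) (hn.trans hd) hmd

theorem ts_two_scalar {d : ℕ} (hd : Fintype.card ι = 2 * d) (hmd : m < d)
    (hP : ∀ W, P W ↔ (finrank F W = m ∧ Sing Qf W)) :
    (∀ x : GL ι F, x ∈ Cfsg.Geo.omegaGL f →
      (∃ z : F, ((x ^ 2 : GL ι F) : Matrix ι ι F) = z • (1 : Matrix ι ι F)) →
      (∀ z : F, (x : Matrix ι ι F) ≠ z • (1 : Matrix ι ι F)) →
      ∃ W : Submodule F (ι → F), P W ∧ W.map (Matrix.toLin' (x : Matrix ι ι F)) ≤ W) ↔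
    ((Plus Qf → (Fintype.card F % 4 = 1 ∨ m + 2 ≤ d)) ∧
      (¬ Quarters (Fintype.card F) d (Plus Qf) ∨ (Fintype.card F % 4 = 1 ∨ Even m))) := by
  obtain rfl : P = fun W : Submodule F (ι → F) => finrank F W = m ∧ Sing Qf W :=
    funext fun W => propext (hP W)
  have hn : finrank F (ι → F) = Fintype.card ι := Module.finrank_fintype_fun_eq_card F
  rw [all_fix_two_scalar hf hQ h2 (by omega), fixQuarter_sing hQ h2 (by omega) (hn.trans hd) hmd.le]
  refine and_congr_left' ?_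
  by_cases hpl : Plus Qf
  · rw [fixInvo_sing_plus hQ h2 (by omega) (hn.trans hd) hpl hmd]
    simp [hpl]
  · exact iff_of_true (fixInvo_sing_minus hQ h2 (by omega) (hn.trans hd) hpl hmd) fun h => absurd h hpl

end Two

end Cfsg.Agent.Lib.K41.Der
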