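import Cfsg.Agent.Lib.K41.Der.Root

/-!
Which invariant subspaces, totally singular or nondegenerate of given dimension and type, an
isometry of odd prime order has, in terms of the number of its pieces.
-/

set_option autoImplicit false

namespace Cfsg.Agent.Lib.K41.Der

open Module QuadraticMap Cfsg.Agent.Lib.Forms Cfsg.Agent.Lib.Elusive

/-- `s` pieces fit into a space of dimension `N` and type `pl`. -/
def Adm (N : ℕ) (pl : Prop) (i s : ℕ) : Prop :=
  s * pdim i ≤ N ∧ (s * pdim i = N → (pl ↔ Par i s))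

/-- A totally singular invariant `m`-space with `a` moved pieces fits next to `s` pieces. -/
def TSFit (N : ℕ) (pl : Prop) (i m s a : ℕ) : Prop :=
  a * i ≤ m ∧ 2 * (m - a * i) + s * pdim i ≤ N ∧
    (2 * (m - a * i) + s * pdim i = N → (pl ↔ Par i s))

/-- A nondegenerate invariant `m`-space of type `dl` with `j` pieces fits next to `s` pieces. -/
def NDFit (N : ℕ) (pl dl : Prop) (i m s j : ℕ) : Prop :=
  j ≤ s ∧ j * pdim i ≤ m ∧ m - j * pdim i + s * pdim i ≤ N ∧ (j * pdim i = m → (Par i j ↔ dl)) ∧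
    (m - j * pdim i + s * pdim i = N → (((pl ↔ Par i s) ↔ Par i j) ↔ dl))

/-- The same for odd `m`. -/
def OFit (N : ℕ) (i m s j : ℕ) : Prop :=
  j ≤ s ∧ j * pdim i < m ∧ m - j * pdim i + s * pdim i ≤ N

theorem plus_of_finrank_zero {F : Type*} [Field F] {U : Type*} [AddCommGroup U] [Module F U]
    (R : QuadraticForm F U) (h : finrank F U = 0) : Plus R :=
  ⟨⊥, fun u hu => by rw [(Submodule.mem_bot F).mp hu, QuadraticMap.map_zero],
    by rw [finrank_bot, h]⟩

theorem iff_swap {A C D : Prop} (h : (A ↔ C) ↔ D) : A ↔ (D ↔ C) := by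
  by_cases hA : A <;> by_cases hC : C <;> by_cases hD : D <;> simp_all

theorem iff_swap' {A B C : Prop} (h : A ↔ (B ↔ C)) : B ↔ (A ↔ C) := by
  by_cases hA : A <;> by_cases hB : B <;> by_cases hC : C <;> simp_all

theorem par_zero (i : ℕ) : Par i 0 := fun _ => ⟨0, rfl⟩

theorem par_add (i s t : ℕ) : Par i (s + t) ↔ (Par i s ↔ Par i t) := by
  unfold Par
  by_cases h : Even i <;> simp [h, Nat.even_add]

variable {F : Type*} [Field F] [Fintype F] {V : Type*} [AddCommGroup V] [Module F V]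
  [FiniteDimensional F V]
variable {Q : QuadraticForm F V} {f : Module.End F V} {r : ℕ} [hr : Fact r.Prime]
  {W X : Submodule F V}

theorem Rot.inv_split (h : Rot Q f r) (hW : Inv f W) :
    Inv f (W ⊓ perp Q (fx f)) ∧ W ⊓ perp Q (fx f) ⊓ fx f = ⊥ ∧
    (W ⊓ fx f) ⊔ (W ⊓ perp Q (fx f)) = W ∧
    finrank F W = finrank F ↥(W ⊓ fx f) + finrank F ↥(W ⊓ perp Q (fx f)) := by
  obtain ⟨Z, hZ, hZW, hdisj, hsup⟩ :=
    exists_compl h.uniform.semisimple hW (hW.inf_eigenspace (μ := (1 : F))) inf_le_left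
  have hZE : Z ⊓ fx f = ⊥ := le_bot_iff.mp
    (hdisj ▸ le_inf (le_inf (inf_le_left.trans hZW) inf_le_right) inf_le_left)
  have hM := h.moved.2.2.1
  have hdis : W ⊓ perp Q (fx f) ⊓ fx f = ⊥ :=
    le_bot_iff.mp (hM ▸ inf_le_inf_right _ inf_le_right)
  have hsup' : (W ⊓ fx f) ⊔ (W ⊓ perp Q (fx f)) = W :=
    le_antisymm (sup_le inf_le_left inf_le_left)
      (hsup.ge.trans (sup_le_sup_left (le_inf hZW (h.le_perp_fx hZ hZE)) _))
  refine ⟨hW.inf h.moved.1, hdis, hsup', ?_⟩
  conv_lhs => rw [← hsup']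
  refine finrank_sup_of_disjoint ?_
  rw [inf_comm, ← inf_assoc, inf_comm _ W, ← inf_assoc, inf_idem]
  exact hdis

theorem Rot.moved_dim (h : Rot Q f r) :
    ∃ s, finrank F (perp Q (fx f)) = s * pdim (orderOf (Fintype.card F : ZMod r)) ∧
      Adm (finrank F V) (Plus Q) (orderOf (Fintype.card F : ZMod r)) s ∧ (f ≠ 1 → 1 ≤ s) := by
  obtain ⟨h1, h2, h3, h4⟩ := h.moved
  obtain ⟨s, hs, hP⟩ := h.fpf_dim h1 h2 h3
  refine ⟨s, hs, ⟨by omega, fun he => ?_⟩, fun hf => ?_⟩
  · have h5 : fx f = ⊥ := Submodule.finrank_eq_zero.mp (by omega)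
    have h6 : perp Q (fx f) = ⊤ := by
      refine Submodule.eq_top_of_finrank_eq ?_
      omega
    rw [h6, plus_congr (top_equiv Q)] at hP
    exact hP
  · by_contra hs0
    have hs1 : s = 0 := by omega
    rw [hs1, zero_mul] at hs
    have h5 : fx f = ⊤ := Submodule.eq_top_of_finrank_eq (by omega)
    exact hf (LinearMap.ext fun v => mem_fx.mp (h5.ge Submodule.mem_top))

theorem Rot.plus_fx (h : Rot Q f r) (hN : Even (finrank F V)) {s : ℕ}
    (hs : finrank F (perp Q (fx f)) = s * pdim (orderOf (Fintype.card F : ZMod r))) :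
    Plus (res Q (fx f)) ↔ (Plus Q ↔ Par (orderOf (Fintype.card F : ZMod r)) s) := by
  obtain ⟨h1, h2, h3, h4⟩ := h.moved
  obtain ⟨s', hs', hP⟩ := h.fpf_dim h1 h2 h3
  obtain rfl : s' = s := Nat.eq_of_mul_eq_mul_right
    (pdim_pos (orderOf_card_pos (F := F) (r := r) h.natCast)) (hs'.symm.trans hs)
  have he : Even (finrank F (fx f)) := by
    rw [h4, Nat.even_add] at hN
    exact hN.mpr (hs ▸ (even_pdim _).mul_left _)
  have h5 := plus_split h.nondeg h.fx_nDeg he hN
  rw [hP] at h5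
  exact iff_swap' h5

/-- Invariant nondegenerate subspaces of even dimension and given type. -/
theorem Rot.nd_iff (h : Rot Q f r) {m s : ℕ} (hm : Even m) (dl : Prop)
    (hs : finrank F (perp Q (fx f)) = s * pdim (orderOf (Fintype.card F : ZMod r))) :
    (∃ W, Inv f W ∧ finrank F W = m ∧ NDeg Q W ∧ (Plus (res Q W) ↔ dl)) ↔
      ∃ j, NDFit (finrank F V) (Plus Q) dl (orderOf (Fintype.card F : ZMod r)) m s j := by
  classical
  set i := orderOf (Fintype.card F : ZMod r) with hi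
  obtain ⟨hZ, hZn, hZE, hdim⟩ := h.moved
  have hcpos := pdim_pos (orderOf_card_pos (F := F) (r := r) h.natCast)
  rw [← hi] at hcpos
  have hce : ∀ k, Even (k * pdim i) := fun k => (even_pdim i).mul_left k
  constructor
  · rintro ⟨W, hW, hWd, hWn, hWP⟩
    obtain ⟨hA, -, -, -, -, -⟩ := h.fixed_split hW hWn
    obtain ⟨hB, hBE, hsup, hd⟩ := h.inv_split hW
    have hBA : W ⊓ perp Q (fx f) ≤ perp Q (W ⊓ fx f) := fun x hx =>
      mem_perp.mpr fun w hw => mem_perp.mp hx.2 w hw.2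
    have hBn : NDeg Q (W ⊓ perp Q (fx f)) := nDeg_iff.mpr fun x hx hxy => nDeg_iff.mp hWn x hx.1 fun y hy => by
      obtain ⟨a, ha, b, hb, rfl⟩ := Submodule.mem_sup.mp (hsup.ge hy)
      rw [polar_add_right, hxy b hb, add_zero, polar_comm]
      exact mem_perp.mp hx.2 a ha.2
    obtain ⟨j, hj, hjP⟩ := h.fpf_dim hB hBn hBE
    rw [← hi] at hj hjP
    have h1 := Submodule.finrank_mono (inf_le_right : W ⊓ perp Q (fx f) ≤ perp Q (fx f))
    have h2 := Submodule.finrank_mono (inf_le_right : W ⊓ fx f ≤ fx f)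
    rw [hs, hj] at h1
    have hjs : j ≤ s := Nat.le_of_mul_le_mul_right h1 hcpos
    refine ⟨j, hjs, by omega, by omega, fun he => ?_, fun he => ?_⟩
    · have h3 : W ⊓ perp Q (fx f) = W := Submodule.eq_of_le_of_finrank_le inf_le_left (by omega)
      rw [h3] at hjP
      exact hjP.symm.trans hWP
    · have hN : Even (finrank F V) := by
        rw [← he, Nat.even_add, Nat.even_sub (by omega)]
        exact iff_of_true (iff_of_true hm (hce j)) (hce s)
      have hAe : Even (finrank F ↥(W ⊓ fx f)) := by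
        have h3 : Even (finrank F W) := hWd ▸ hm
        rw [hd, hj, Nat.even_add] at h3
        exact h3.mpr (hce j)
      have h3 : W ⊓ fx f = fx f := Submodule.eq_of_le_of_finrank_le inf_le_right (by omega)
      have h4 := plus_sup hA hBn hBA hAe (hj ▸ hce j)
      rw [hsup, hjP, h3, h.plus_fx hN hs] at h4
      exact h4.symm.trans hWP
  · rintro ⟨j, hjs, hjm, hjN, hj0, hjf⟩
    obtain ⟨X, hXZ, hX, hXn, hXd⟩ := h.exists_sub j _ hZ hZn hZE (by
      rw [hs, ← hi]; exact Nat.mul_le_mul_right _ hjs)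
    rw [← hi] at hXd
    have hXE : X ⊓ fx f = ⊥ := le_bot_iff.mp (hZE ▸ inf_le_inf_right _ hXZ)
    obtain ⟨j', hj', hXP⟩ := h.fpf_dim hX hXn hXE
    rw [← hi] at hj' hXP
    obtain rfl : j' = j := Nat.eq_of_mul_eq_mul_right hcpos (hj'.symm.trans hXd)
    set e := m - j' * pdim i with he
    have hee : Even e := by rw [he, Nat.even_sub hjm]; exact iff_of_true hm (hce j')
    -- the fixed part
    obtain ⟨U, hUE, hUn, hUd, hUP⟩ : ∃ U, U ≤ fx f ∧ NDeg Q U ∧ finrank F U = e ∧
        (Plus (res Q U) ↔ (dl ↔ Par i j')) := by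
      rcases Nat.eq_zero_or_pos e with he0 | he0
      · refine ⟨⊥, bot_le, nDeg_bot, by rw [finrank_bot, he0], ?_⟩
        have hdl := hj0 (by omega)
        exact iff_of_true (plus_of_finrank_zero _ (finrank_bot F V)) hdl.symm
      rcases eq_or_lt_of_le (show e ≤ finrank F (fx f) by omega) with hef | hef
      · have hN : Even (finrank F V) := by rw [hdim, ← hef, hs]; exact hee.add (hce s)
        refine ⟨fx f, le_rfl, h.fx_nDeg, hef.symm, ?_⟩
        rw [h.plus_fx hN hs, ← hi]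
        exact iff_swap (hjf (by omega))
      · obtain ⟨k, hk⟩ : ∃ k, e = 2 * (k + 1) := by
          obtain ⟨k, hk⟩ := hee.two_dvd
          exact ⟨k - 1, by omega⟩
        by_cases hdl : (dl ↔ Par i j')
        · obtain ⟨U, hUE, hUn, hUe, hUd⟩ := (embeds_of_lt (qPlus_nondeg (F := F) (k + 1)) h.fx_nDeg
            (by simp; omega)).image (qPlus_nondeg _)
          exact ⟨U, hUE, hUn, by rw [hUd]; simp; omega,
            iff_of_true ((plus_qPlus _).congr hUe) hdl⟩
        · obtain ⟨a, b, hab⟩ := exists_aniso (F := F)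
          have hR := prod_nondeg (qPlus_nondeg (F := F) k) (qBin_nondeg hab)
          obtain ⟨U, hUE, hUn, hUe, hUd⟩ := (embeds_of_lt hR h.fx_nDeg
            (by rw [finrank_plus_prod]; simp; omega)).image hR
          exact ⟨U, hUE, hUn, by rw [hUd, finrank_plus_prod]; simp; omega,
            iff_of_false (not_plus_minus hab hUe.symm) hdl⟩
    have hXU : X ≤ perp Q U := fun x hx => mem_perp.mpr fun u hu => mem_perp.mp (hXZ hx) u (hUE hu)
    refine ⟨U ⊔ X, (Inv.of_le_eigenspace hUE).sup hX, ?_, nDeg_sup hUn hXn hXU, ?_⟩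
    · rw [finrank_sup_perp hUn hXU, hUd, hXd]; omega
    · rw [plus_sup hUn hXn hXU (hUd ▸ hee) (hXd ▸ hce j'), hUP, hXP]
      by_cases h1 : Par i j' <;> by_cases h2 : dl <;> simp [h1, h2]

/-- Invariant nondegenerate subspaces of odd dimension isometric to a given one. -/
theorem Rot.odd_iff (h : Rot Q f r) {m s : ℕ} (hm : Odd m) (hN : Even (finrank F V))
    (W₀ : Submodule F V) (hW₀ : NDeg Q W₀) (hW₀d : finrank F W₀ = m)
    (hs : finrank F (perp Q (fx f)) = s * pdim (orderOf (Fintype.card F : ZMod r))) :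
    (∃ W, Inv f W ∧ finrank F W = m ∧ NDeg Q W ∧ (res Q W).Equivalent (res Q W₀)) ↔
      ∃ j, OFit (finrank F V) (orderOf (Fintype.card F : ZMod r)) m s j := by
  set i := orderOf (Fintype.card F : ZMod r) with hi
  obtain ⟨hZ, hZn, hZE, hdim⟩ := h.moved
  have hcpos := pdim_pos (orderOf_card_pos (F := F) (r := r) h.natCast)
  rw [← hi] at hcpos
  have hce : ∀ k, Even (k * pdim i) := fun k => (even_pdim i).mul_left k
  constructor
  · rintro ⟨W, hW, hWd, hWn, -⟩
    obtain ⟨hB, hBE, hsup, hd⟩ := h.inv_split hW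
    have hBn : NDeg Q (W ⊓ perp Q (fx f)) := nDeg_iff.mpr fun x hx hxy => nDeg_iff.mp hWn x hx.1 fun y hy => by
      obtain ⟨a, ha, b, hb, rfl⟩ := Submodule.mem_sup.mp (hsup.ge hy)
      rw [polar_add_right, hxy b hb, add_zero, polar_comm]
      exact mem_perp.mp hx.2 a ha.2
    obtain ⟨j, hj, -⟩ := h.fpf_dim hB hBn hBE
    rw [← hi] at hj
    have h1 := Submodule.finrank_mono (inf_le_right : W ⊓ perp Q (fx f) ≤ perp Q (fx f))
    have h2 := Submodule.finrank_mono (inf_le_right : W ⊓ fx f ≤ fx f)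
    rw [hs, hj] at h1
    have hne : j * pdim i ≠ m := fun he => Nat.not_even_iff_odd.mpr hm (he ▸ hce j)
    exact ⟨j, Nat.le_of_mul_le_mul_right h1 hcpos, by omega, by omega⟩
  · rintro ⟨j, hjs, hjm, hjN⟩
    obtain ⟨X, hXZ, hX, hXn, hXd⟩ := h.exists_sub j _ hZ hZn hZE (by
      rw [hs, ← hi]; exact Nat.mul_le_mul_right _ hjs)
    rw [← hi] at hXd
    have hne : m - j * pdim i + s * pdim i ≠ finrank F V := fun he => by
      have h1 : Even (m - j * pdim i) := by
        rw [← he, Nat.even_add] at hN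
        exact hN.mpr (hce s)
      rw [Nat.even_sub hjm.le] at h1
      exact Nat.not_even_iff_odd.mpr hm (h1.mpr (hce j))
    -- cut the given space into a copy of `X` and a rest, and move the rest into the fixed space
    obtain ⟨X₁, hX₁, hX₁n, hX₁e, hX₁d⟩ := (embeds_of_lt (R := res Q X) hXn hW₀ (by omega)).image hXn
    obtain ⟨hU₁n, hU₁s, hU₁d⟩ := split hX₁n hW₀ hX₁
    obtain ⟨U, hUE, hUn, hUe, hUd⟩ := (embeds_of_lt (R := res Q (W₀ ⊓ perp Q X₁)) hU₁n h.fx_nDeg
      (by omega)).image hU₁n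
    have hXU : X ≤ perp Q U := fun x hx => mem_perp.mpr fun u hu => mem_perp.mp (hXZ hx) u (hUE hu)
    have hUX : U ≤ perp Q X := le_perp_comm hXU
    refine ⟨X ⊔ U, hX.sup (Inv.of_le_eigenspace hUE), ?_, nDeg_sup hXn hUn hUX, ?_⟩
    · rw [finrank_sup_perp hXn hUX, hXd, hUd]; omega
    · refine (sup_equiv hXn hUX).symm.trans ((hX₁e.prod hUe.symm).trans ?_)
      have h2 := sup_equiv hX₁n (B := W₀ ⊓ perp Q X₁) inf_le_right
      rwa [hU₁s] at h2

/-- Invariant totally singular subspaces: necessary dimensions. -/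
theorem Rot.ts_dim (h : Rot Q f r) {s : ℕ}
    (hs : finrank F (perp Q (fx f)) = s * pdim (orderOf (Fintype.card F : ZMod r)))
    (hW : Inv f W) (hWs : Sing Q W) :
    ∃ a, finrank F ↥(W ⊓ perp Q (fx f)) = a * orderOf (Fintype.card F : ZMod r) ∧
      2 * (a * orderOf (Fintype.card F : ZMod r)) ≤ s * pdim (orderOf (Fintype.card F : ZMod r)) ∧
      TSFit (finrank F V) (Plus Q) (orderOf (Fintype.card F : ZMod r)) (finrank F W) s a := by
  set i := orderOf (Fintype.card F : ZMod r) with hi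
  obtain ⟨hB, hBE, hsup, hd⟩ := h.inv_split hW
  obtain ⟨hZ, hZn, hZE, hdim⟩ := h.moved
  obtain ⟨a, ha⟩ := h.uniform.exists_type hB
  rw [← hi] at ha
  have had : finrank F ↥(W ⊓ perp Q (fx f)) = a * i := by
    rw [ha.2.2, hBE, finrank_bot, zero_add]
  have h1 : 2 * finrank F ↥(W ⊓ perp Q (fx f)) ≤ finrank F (perp Q (fx f)) := by
    have hle : W ⊓ perp Q (fx f) ≤ perp Q (fx f) := inf_le_right
    have h2 := sing_finrank_le (Q := res Q (perp Q (fx f))) hZn
      (W := (W ⊓ perp Q (fx f)).comap (perp Q (fx f)).subtype) (fun x hx => hWs _ hx.1)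
    rwa [(Submodule.comapSubtypeEquivOfLe hle).finrank_eq] at h2
  have h2 : Sing (res Q (fx f)) ((W ⊓ fx f).comap (fx f).subtype) := fun x hx => hWs _ hx.1
  have h3 : 2 * finrank F ↥(W ⊓ fx f) ≤ finrank F (fx f) := by
    have h4 := sing_finrank_le h.fx_nDeg h2
    rwa [(Submodule.comapSubtypeEquivOfLe (inf_le_right : W ⊓ fx f ≤ fx f)).finrank_eq] at h4
  refine ⟨a, had, by omega, by omega, by omega, fun he => ?_⟩
  have hN : Even (finrank F V) := he ▸ (even_two_mul _).add ((even_pdim i).mul_left s)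
  rw [← h.plus_fx hN hs]
  refine ⟨_, h2, ?_⟩
  rw [(Submodule.comapSubtypeEquivOfLe (inf_le_right : W ⊓ fx f ≤ fx f)).finrank_eq]
  omega

omit hr [Fintype F] in
theorem exists_sing_of_dim [Finite F] {U : Submodule F V} (hU : NDeg Q U) {b : ℕ}
    (hb : 2 * b ≤ finrank F U) (hP : 2 * b = finrank F U → Plus (res Q U)) :
    ∃ A, A ≤ U ∧ Sing Q A ∧ finrank F A = b := by
  rcases eq_or_lt_of_le hb with he | he
  · obtain ⟨A, hAU, hA, hAd⟩ := plus_res_iff.mp (hP he)
    exact ⟨A, hAU, hA, by omega⟩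
  · obtain ⟨X, hXU, hX, hXe, hXd⟩ :=
      (embeds_of_lt (qPlus_nondeg (F := F) b) hU (by simp; omega)).image (qPlus_nondeg b)
    obtain ⟨A, hAX, hA, hAd⟩ := plus_res_iff.mp ((plus_qPlus b).congr hXe)
    refine ⟨A, hAX.trans hXU, hA, ?_⟩
    simp at hXd
    omega

/-- Invariant totally singular subspaces: sufficient conditions. -/
theorem Rot.ts_of_fit (h : Rot Q f r) {m s a : ℕ}
    (hs : finrank F (perp Q (fx f)) = s * pdim (orderOf (Fintype.card F : ZMod r)))
    (has : a ≤ s)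
    (ha : Even (orderOf (Fintype.card F : ZMod r)) →
      2 * a ≤ s - (r - 1) / orderOf (Fintype.card F : ZMod r) + 1)
    (hfit : TSFit (finrank F V) (Plus Q) (orderOf (Fintype.card F : ZMod r)) m s a) :
    ∃ W, Inv f W ∧ Sing Q W ∧ finrank F W = m := by
  obtain ⟨ham, hN, hP⟩ := hfit
  obtain ⟨hZ, hZn, hZE, hdim⟩ := h.moved
  set i := orderOf (Fintype.card F : ZMod r) with hi
  have hipos : 0 < i := orderOf_card_pos h.natCast
  obtain ⟨B, hBZ, hB, hBs, hBd⟩ := h.exists_sing_inv a _ hZ hZn hZE fun ha0 => by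
    rw [hs, ← hi]
    by_cases hie : Even i
    · refine Or.inr ?_
      have h1 := ha hie
      set T := (r - 1) / i
      have hT : T * i = r - 1 := Nat.div_mul_cancel (by
        rw [hi]
        refine orderOf_dvd_of_pow_eq_one ?_
        exact ZMod.pow_card_sub_one_eq_one (card_cast_ne_zero h.natCast))
      have h2 : 2 * (a - 1) + T + 1 ≤ s := by omega
      rw [pdim, if_pos hie]
      have h3 := Nat.mul_le_mul_right i h2
      rw [Nat.add_mul, Nat.add_mul, hT] at h3
      omega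
    · refine Or.inl ⟨Nat.not_even_iff_odd.mp hie, ?_⟩
      rw [pdim, if_neg hie, show 2 * a * i = a * (2 * i) by ring]
      exact Nat.mul_le_mul_right _ has
  obtain ⟨A, hAE, hA, hAd⟩ := exists_sing_of_dim h.fx_nDeg (b := m - a * i) (by omega) fun he => by
    have hNe : Even (finrank F V) := by
      rw [hdim, ← he, hs]
      exact (even_two_mul _).add ((even_pdim _).mul_left _)
    exact (h.plus_fx hNe hs).mpr (hP (by omega))
  have hBA : B ≤ perp Q A := fun x hx => mem_perp.mpr fun u hu => mem_perp.mp (hBZ hx) u (hAE hu)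
  refine ⟨A ⊔ B, (Inv.of_le_eigenspace hAE).sup hB, hA.sup hBs hBA, ?_⟩
  rw [finrank_sup_of_disjoint, hAd, hBd, ← hi]
  · omega
  · exact le_bot_iff.mp (hZE ▸ inf_comm (perp Q (fx f)) (fx f) ▸ inf_le_inf hAE hBZ)

end Cfsg.Agent.Lib.K41.Der
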