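import Cfsg.Agent.Lib.K41.Der.Two

/-!
Involutions of quadratic spaces in odd characteristic: the eigenspaces, membership in the commutator
subgroup, invariant subspaces of a given class.
-/

set_option autoImplicit false

namespace Cfsg.Agent.Lib.K41.Der

open Module QuadraticMap Cfsg.Agent.Lib.Forms Cfsg.Agent.Lib.Orth52 Cfsg.Agent.Lib.Elusive

variable {F : Type*} [Field F] {V : Type*} [AddCommGroup V] [Module F V]
variable {Q : QuadraticForm F V} {g : Module.End F V} {X : Submodule F V}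

/-- An isometry with square `1`. -/
structure Invo (Q : QuadraticForm F V) (g : Module.End F V) : Prop where
  nondeg : Nondeg Q
  two : (2 : F) ≠ 0
  iso : ∀ v, Q (g v) = Q v
  sq : ∀ v, g (g v) = v

/-- The negated space. -/
abbrev ng (g : Module.End F V) : Submodule F V := End.eigenspace g (-1 : F)

theorem mem_ng {v : V} : v ∈ ng g ↔ g v = -v := by
  rw [End.mem_eigenspace_iff, neg_one_smul]

theorem Invo.sup (h : Invo Q g) : fx g ⊔ ng g = ⊤ := eq_top_iff.mpr fun v _ => by
  refine Submodule.mem_sup.mpr ⟨(2 : F)⁻¹ • (v + g v), ?_, (2 : F)⁻¹ • (v - g v), ?_, ?_⟩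
  · rw [mem_fx, map_smul, map_add, h.sq, add_comm]
  · rw [mem_ng, map_smul, map_sub, h.sq, ← smul_neg, neg_sub]
  · rw [← smul_add, show v + g v + (v - g v) = (2 : F) • v by rw [two_smul]; abel, smul_smul,
      inv_mul_cancel₀ h.two, one_smul]

theorem Invo.ng_le_perp (h : Invo Q g) : ng g ≤ perp Q (fx g) := fun v hv => mem_perp.mpr fun w hw => by
  have h1 := polar_map g h.iso w v
  rw [mem_fx.mp hw, mem_ng.mp hv, polar_neg_right] at h1
  have : (2 : F) * polar Q w v = 0 := by linear_combination -h1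
  exact (mul_eq_zero.mp this).resolve_left h.two

theorem Invo.fx_nDeg (h : Invo Q g) : NDeg Q (fx g) := nDeg_iff.mpr fun x hx hxy => h.nondeg x fun y => by
  obtain ⟨a, ha, b, hb, rfl⟩ := Submodule.mem_sup.mp (h.sup.ge (Submodule.mem_top (x := y)))
  rw [polar_add_right, hxy a ha, mem_perp.mp (h.ng_le_perp hb) x hx, add_zero]

theorem Invo.ng_nDeg (h : Invo Q g) : NDeg Q (ng g) := nDeg_iff.mpr fun x hx hxy => h.nondeg x fun y => by
  obtain ⟨a, ha, b, hb, rfl⟩ := Submodule.mem_sup.mp (h.sup.ge (Submodule.mem_top (x := y)))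
  rw [polar_add_right, hxy b hb, polar_comm, mem_perp.mp (h.ng_le_perp hx) a ha, add_zero]

theorem inv_of_le_sup {A B : Submodule F V} (hA : A ≤ fx g) (hB : B ≤ ng g) : Inv g (A ⊔ B) :=
  (Inv.of_le_eigenspace hA).sup (Inv.of_le_eigenspace hB)

variable [FiniteDimensional F V]

theorem Invo.finrank (h : Invo Q g) :
    Module.finrank F V = Module.finrank F (fx g) + Module.finrank F (ng g) := by
  rw [← finrank_sup_perp h.fx_nDeg h.ng_le_perp, h.sup, finrank_top]

/-- A line through a nonsingular vector. -/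
theorem nDeg_line {v : V} (h2 : (2 : F) ≠ 0) (hv : Q v ≠ 0) :
    NDeg Q (Submodule.span F {v}) ∧ finrank F (Submodule.span F {v}) = 1 := by
  refine ⟨nDeg_iff.mpr fun x hx h => ?_, finrank_span_singleton fun h0 => hv (by rw [h0, QuadraticMap.map_zero])⟩
  obtain ⟨t, rfl⟩ := Submodule.mem_span_singleton.mp hx
  have h1 := h v (Submodule.mem_span_singleton_self v)
  rw [polar_smul_left, smul_eq_mul, polar_self'] at h1
  rw [(mul_eq_zero.mp h1).resolve_right (mul_ne_zero h2 hv), zero_smul]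

/-- Nondegenerate subspaces of every dimension. -/
theorem exists_nondeg_sub (h2 : (2 : F) ≠ 0) : ∀ (k : ℕ) (X : Submodule F V), NDeg Q X →
    k ≤ finrank F X → ∃ A, A ≤ X ∧ NDeg Q A ∧ finrank F A = k := by
  intro k
  induction k with
  | zero => exact fun X _ _ => ⟨⊥, bot_le, nDeg_bot, by simp⟩
  | succ k ih =>
    intro X hX hk
    obtain ⟨v, hvX, hv⟩ := exists_nonzero_value h2 hX fun h0 => by rw [h0, finrank_bot] at hk; omega
    obtain ⟨hL, hL1⟩ := nDeg_line h2 hv
    have hle : Submodule.span F {v} ≤ X := (Submodule.span_singleton_le_iff_mem v X).mpr hvX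
    obtain ⟨hY, -, hd⟩ := split hL hX hle
    obtain ⟨A, hAY, hA, hAd⟩ := ih _ hY (by omega)
    exact ⟨_ ⊔ A, sup_le hle (hAY.trans inf_le_left), nDeg_sup hL hA (hAY.trans inf_le_right),
      by rw [finrank_sup_perp hL (hAY.trans inf_le_right), hL1, hAd]; omega⟩

omit [FiniteDimensional F V] in
theorem isSquare_mul_iff [Finite F] {a b : F} (ha : a ≠ 0) (hb : b ≠ 0) :
    IsSquare (a * b) ↔ (IsSquare a ↔ IsSquare b) := by
  classical
  have := Fintype.ofFinite F
  rw [← quadraticChar_one_iff_isSquare ha, ← quadraticChar_one_iff_isSquare hb,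
    ← quadraticChar_one_iff_isSquare (mul_ne_zero ha hb), map_mul]
  rcases quadraticChar_dichotomy ha with h1 | h1 <;> rcases quadraticChar_dichotomy hb with h3 | h3 <;>
    rw [h1, h3] <;> decide

/-- The type of an orthogonally spanned plane. -/
theorem plane_span [Finite F] (h2 : (2 : F) ≠ 0) {v w : V} (hv : Q v ≠ 0) (hw : Q w ≠ 0)
    (hvw : polar Q v w = 0) :
    NDeg Q (Submodule.span F {v, w}) ∧ finrank F (Submodule.span F {v, w}) = 2 ∧
      (Plus (res Q (Submodule.span F {v, w})) ↔ IsSquare (-(Q v * Q w))) := by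
  obtain ⟨h1, h1d⟩ := nDeg_line h2 hv
  obtain ⟨h3, h3d⟩ := nDeg_line h2 hw
  have hperp : Submodule.span F {w} ≤ perp Q (Submodule.span F {v}) :=
    (Submodule.span_singleton_le_iff_mem _ _).mpr (mem_perp.mpr fun x hx => by
      obtain ⟨t, rfl⟩ := Submodule.mem_span_singleton.mp hx
      rw [polar_smul_left, hvw, smul_zero])
  have heq : Submodule.span F {v, w} = Submodule.span F {v} ⊔ Submodule.span F {w} := by
    rw [Submodule.span_insert]
  have hd : finrank F (Submodule.span F {v, w}) = 2 := by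
    rw [heq, finrank_sup_perp h1 hperp, h1d, h3d]
  refine ⟨heq ▸ nDeg_sup h1 h3 hperp, hd, plus_res_iff.trans ⟨?_, ?_⟩⟩
  · rintro ⟨U, hUR, hU, hUd⟩
    obtain ⟨x, hxU, hx0⟩ := Submodule.exists_mem_ne_zero_of_ne_bot (fun h0 : U = ⊥ => by
      rw [h0, finrank_bot] at hUd; omega)
    obtain ⟨s, t, rfl⟩ := Submodule.mem_span_pair.mp (hUR hxU)
    have hQx := hU _ hxU
    rw [Q_comb, hvw, mul_zero, add_zero] at hQx
    have hs : s ≠ 0 := by
      rintro rfl
      have : t * t * Q w = 0 := by linear_combination hQx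
      rcases mul_eq_zero.mp this with h4 | h4
      · exact hx0 (by rw [mul_self_eq_zero.mp h4, zero_smul, zero_smul, add_zero])
      · exact hw h4
    exact ⟨t * Q w / s, by field_simp; linear_combination (-1 : F) * hQx⟩
  · rintro ⟨e, he⟩
    refine ⟨Submodule.span F {e • v + Q v • w}, (Submodule.span_singleton_le_iff_mem _ _).mpr
      (Submodule.mem_span_pair.mpr ⟨e, Q v, rfl⟩), fun u hu => ?_, ?_⟩
    · obtain ⟨t, rfl⟩ := Submodule.mem_span_singleton.mp hu
      rw [Q_smul, Q_comb, hvw]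
      linear_combination (-(t * t * Q v)) * he
    · rw [finrank_span_singleton fun h0 => ?_, hd]
      have h4 := congrArg (fun z => polar Q w z) h0
      simp only [polar_add_right, polar_smul_right, smul_eq_mul, polar_comm Q w v, hvw, polar_self',
        polar_zero_right, mul_zero, zero_add] at h4
      exact mul_ne_zero hv (mul_ne_zero h2 hw) h4

/-- An orthogonal list of vectors spanning a space of even dimension. -/
theorem exists_orth_list [Finite F] (h2 : (2 : F) ≠ 0) : ∀ (j : ℕ) (X : Submodule F V), NDeg Q X →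
    finrank F X = 2 * j → ∃ vs : List V, vs.length = 2 * j ∧ (∀ v ∈ vs, Q v ≠ 0 ∧ v ∈ X) ∧
      vs.Pairwise (fun v w => polar Q v w = 0) ∧ X ≤ Submodule.span F {x | x ∈ vs} ∧
      (vs.map fun v => Q v).prod ≠ 0 ∧
      (Plus (res Q X) ↔ IsSquare ((-1 : F) ^ j * (vs.map fun v => Q v).prod)) := by
  intro j
  induction j with
  | zero =>
    intro X _ hd
    have hX : X = ⊥ := Submodule.finrank_eq_zero.mp (by omega)
    subst hX
    refine ⟨[], rfl, by simp, List.Pairwise.nil, bot_le, by simp, iff_of_true ?_ (by simp)⟩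
    exact ⟨⊥, fun u hu => by rw [(Submodule.mem_bot F).mp hu, QuadraticMap.map_zero], by simp⟩
  | succ j ih =>
    intro X hX hd
    obtain ⟨v, hvX, hv⟩ := exists_nonzero_value h2 hX fun h0 => by rw [h0, finrank_bot] at hd; omega
    obtain ⟨hL, hL1⟩ := nDeg_line h2 hv
    have hle : Submodule.span F {v} ≤ X := (Submodule.span_singleton_le_iff_mem v X).mpr hvX
    obtain ⟨hY, -, hd1⟩ := split hL hX hle
    obtain ⟨w, hwY, hw⟩ := exists_nonzero_value h2 hY fun h0 => by rw [h0, finrank_bot] at hd1; omega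
    have hvw : polar Q v w = 0 := mem_perp.mp hwY.2 v (Submodule.mem_span_singleton_self v)
    obtain ⟨hR, hR2, hRP⟩ := plane_span h2 hv hw hvw
    set R := Submodule.span F {v, w} with hRdef
    have hRX : R ≤ X := Submodule.span_le.mpr (by
      rintro x (rfl | rfl)
      · exact hvX
      · exact hwY.1)
    obtain ⟨hZ, hsup, hd2⟩ := split hR hX hRX
    obtain ⟨vs, hlen, hmem, hpair, hspan, hne, hP⟩ := ih _ hZ (by omega)
    have horth : ∀ x ∈ R, ∀ u ∈ vs, polar Q x u = 0 := fun x hx u hu => mem_perp.mp (hmem u hu).2.2 x hx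
    have hvR : v ∈ R := Submodule.subset_span (by simp)
    have hwR : w ∈ R := Submodule.subset_span (by simp)
    refine ⟨v :: w :: vs, by simp [hlen]; ring, ?_, ?_, ?_, ?_, ?_⟩
    · intro u hu
      rcases List.mem_cons.mp hu with rfl | hu
      · exact ⟨hv, hvX⟩
      rcases List.mem_cons.mp hu with rfl | hu
      · exact ⟨hw, hwY.1⟩
      exact ⟨(hmem u hu).1, (hmem u hu).2.1⟩
    · refine List.pairwise_cons.mpr ⟨fun u hu => ?_, List.pairwise_cons.mpr ⟨fun u hu => horth w hwR u hu, hpair⟩⟩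
      rcases List.mem_cons.mp hu with rfl | hu
      · exact hvw
      · exact horth v hvR u hu
    · refine hsup.ge.trans (sup_le (Submodule.span_mono ?_) (hspan.trans (Submodule.span_mono ?_)))
      · rintro x (rfl | rfl) <;> simp
      · intro x hx
        exact List.mem_cons_of_mem _ (List.mem_cons_of_mem _ hx)
    · simpa using ⟨hv, hw, by simpa using hne⟩
    · have h1 := plus_sup hR hZ inf_le_right (hR2 ▸ even_two) ⟨j, by omega⟩
      rw [hsup] at h1
      rw [h1, hRP, hP, List.map_cons, List.map_cons, List.prod_cons, List.prod_cons,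
        ← isSquare_mul_iff (neg_ne_zero.mpr (mul_ne_zero hv hw))
          (mul_ne_zero (pow_ne_zero _ (neg_ne_zero.mpr one_ne_zero)) hne)]
      rw [show -(Q v * Q w) * ((-1 : F) ^ j * (vs.map fun v => Q v).prod) =
        (-1) ^ (j + 1) * (Q v * (Q w * (vs.map fun v => Q v).prod)) by ring]

variable [Finite F]

/-- The commutator subgroup: the negated space has even dimension; if `-1` is a square it is of plus
type. -/
theorem Invo.comm_info {o : orth Q} (h : Invo Q o.1.toLinearMap) (hn : 2 ≤ Module.finrank F V)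
    (ho : o ∈ commutator (orth Q)) :
    ∃ j, Module.finrank F (ng o.1.toLinearMap) = 2 * j ∧
      (IsSquare (-1 : F) → Plus (res Q (ng o.1.toLinearMap))) := by
  have := Module.finite_of_finite F (M := V)
  have hev : Even (Module.finrank F (ng o.1.toLinearMap)) := by
    have hd := ((mem_commutator_iff_odd h.nondeg h.two hn one_ne_zero o).mp ho).1
    have h1 := finrank_range_dev o.1
    have hfix : fixSpace o.1 = fx o.1.toLinearMap := by
      ext x
      rw [mem_fixSpace, mem_fx]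
      rfl
    rw [hfix] at h1
    have h3 := h.finrank
    rw [dickson, ZMod.natCast_eq_zero_iff_even] at hd
    rwa [show Module.finrank F (ng o.1.toLinearMap) = Module.finrank F (LinearMap.range (dev o.1)) by omega]
  obtain ⟨j, hj⟩ := hev.two_dvd
  refine ⟨j, hj, fun hs => ?_⟩
  obtain ⟨vs, hlen, hmem, hpair, hspan, hne, hP⟩ := exists_orth_list h.two j _ h.ng_nDeg hj
  have heq : oreflProd Q vs = o := by
    refine Subtype.ext (LinearEquiv.ext fun x => ?_)
    obtain ⟨a, ha, b, hb, rfl⟩ := Submodule.mem_sup.mp (h.sup.ge (Submodule.mem_top (x := x)))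
    rw [map_add, map_add]
    refine congrArg₂ (· + ·) ?_ ?_
    · rw [oreflProd_fix vs fun v hv => by
        rw [polar_comm]; exact mem_perp.mp (h.ng_le_perp (hmem v hv).2) a ha]
      exact (mem_fx.mp ha).symm
    · refine LinearMap.eqOn_span (f := (oreflProd Q vs).1.toLinearMap) (g := o.1.toLinearMap)
        (fun v hv => ?_) (hspan hb)
      exact (oreflProd_neg vs (fun u hu => (hmem u hu).1) hpair hv).trans (mem_ng.mp (hmem v hv).2).symm
  rw [← heq, oreflProd_mem_commutator_iff h.nondeg h.two hn vs fun u hu => (hmem u hu).1] at ho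
  exact hP.mpr ((hs.pow j).mul ho.2)

/-- An involution negating a plane with two orthogonal vectors of value `1`. -/
theorem exists_invo_plane (hQ : Nondeg Q) (h2 : (2 : F) ≠ 0) (hn : 3 ≤ Module.finrank F V) :
    ∃ o : orth Q, o ∈ commutator (orth Q) ∧ Invo Q o.1.toLinearMap ∧
      Module.finrank F (ng o.1.toLinearMap) = 2 ∧
      (Plus (res Q (ng o.1.toLinearMap)) ↔ IsSquare (-1 : F)) := by
  have := Module.finite_of_finite F (M := V)
  obtain ⟨v, w, hv, hvw, hw⟩ := exists_pair_of_three hQ hn 0 1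
  have hv0 : Q v ≠ 0 := hv ▸ one_ne_zero
  have hw0 : Q w ≠ 0 := hw ▸ one_ne_zero
  obtain ⟨hR, hR2, hRP⟩ := plane_span h2 hv0 hw0 hvw
  rw [hv, hw, mul_one] at hRP
  have hall : ∀ u ∈ [v, w], Q u ≠ 0 := by simp [hv0, hw0]
  have hpair : [v, w].Pairwise (fun v w => polar Q v w = 0) := by simp [hvw]
  set o := oreflProd Q [v, w] with hodef
  have hneg : ∀ x ∈ Submodule.span F {v, w}, o.1 x = -x := fun x hx => by
    obtain ⟨s, t, rfl⟩ := Submodule.mem_span_pair.mp hx
    rw [map_add, map_smul, map_smul, oreflProd_neg _ hall hpair (by simp),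
      oreflProd_neg _ hall hpair (by simp), smul_neg, smul_neg, neg_add]
  have hfix : ∀ x ∈ perp Q (Submodule.span F {v, w}), o.1 x = x := fun x hx =>
    oreflProd_fix _ fun u hu => mem_perp.mp hx u (Submodule.subset_span (by simpa using hu))
  obtain ⟨-, hsup, hdim⟩ := split_top hQ hR
  have hI : Invo Q o.1.toLinearMap := ⟨hQ, h2, o.2, fun x => by
    obtain ⟨a, ha, b, hb, rfl⟩ := Submodule.mem_sup.mp (hsup.ge (Submodule.mem_top (x := x)))
    rw [map_add, map_add, LinearEquiv.coe_coe, hneg a ha, hfix b hb, map_neg, hneg a ha, neg_neg, hfix b hb]⟩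
  have hng : ng o.1.toLinearMap = Submodule.span F {v, w} := by
    refine (Submodule.eq_of_le_of_finrank_le (fun x hx => mem_ng.mpr (hneg x hx)) ?_).symm
    have h1 := Submodule.finrank_mono (show perp Q (Submodule.span F {v, w}) ≤ fx o.1.toLinearMap from
      fun x hx => mem_fx.mpr (hfix x hx))
    have h3 := hI.finrank
    omega
  refine ⟨o, ?_, hI, hng ▸ hR2, hng ▸ hRP⟩
  rw [hodef, oreflProd_mem_commutator_iff hQ h2 (by omega) _ hall]
  exact ⟨even_two, by simp [hv, hw]⟩

/-- A class of subspaces is met in `A ⊔ B`, `A` and `B` below orthogonal spaces. -/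
theorem exists_class_sup (h2 : (2 : F) ≠ 0) {P M : Submodule F V} (hP : NDeg Q P) (hM : NDeg Q M)
    (hPM : M ≤ perp Q P) (ha : 1 ≤ finrank F P) (hb : 2 ≤ finrank F M) {W₀ : Submodule F V}
    (hW₀ : NDeg Q W₀) (hlt : finrank F W₀ < finrank F P + finrank F M) :
    ∃ A B, A ≤ P ∧ B ≤ M ∧ NDeg Q (A ⊔ B) ∧ finrank F ↥(A ⊔ B) = finrank F W₀ ∧
      (res Q (A ⊔ B)).Equivalent (res Q W₀) := by
  by_cases hm : finrank F W₀ < finrank F M
  · obtain ⟨B, hBM, hB, hBe, hBd⟩ := (embeds_of_lt hW₀ hM hm).image hW₀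
    exact ⟨⊥, B, bot_le, hBM, by rwa [bot_sup_eq], by rw [bot_sup_eq, hBd], by rw [bot_sup_eq]; exact hBe.symm⟩
  obtain ⟨A, hAP, hA, hAd⟩ := exists_nondeg_sub h2 (finrank F W₀ + 1 - finrank F M) P hP (by omega)
  obtain ⟨A', hA'W, hA', hA'e, hA'd⟩ := (embeds_of_lt hA hW₀ (by omega)).image hA
  obtain ⟨hB', hsup, hd⟩ := split hA' hW₀ hA'W
  obtain ⟨B, hBM, hB, hBe, hBd⟩ := (embeds_of_lt hB' hM (by omega)).image hB'
  have hAB : B ≤ perp Q A := fun x hx => mem_perp.mpr fun u hu => mem_perp.mp (hPM (hBM hx)) u (hAP hu)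
  refine ⟨A, B, hAP, hBM, nDeg_sup hA hB hAB, by rw [finrank_sup_perp hA hAB]; omega, ?_⟩
  have h1 := (sup_equiv hA hAB).symm.trans ((hA'e.prod hBe.symm).trans (sup_equiv hA' inf_le_right))
  rwa [hsup] at h1

/-- Every class of nondegenerate proper subspaces contains an invariant member. -/
theorem Invo.exists_class (h : Invo Q g) (hP : fx g ≠ ⊥) (hM : ng g ≠ ⊥)
    (hn : 3 ≤ Module.finrank F V) {W₀ : Submodule F V} (hW₀ : NDeg Q W₀)
    (hlt : Module.finrank F W₀ < Module.finrank F V) :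
    ∃ W, Inv g W ∧ NDeg Q W ∧ Module.finrank F W = Module.finrank F W₀ ∧
      (res Q W).Equivalent (res Q W₀) := by
  have h1 := h.finrank
  have ha := Nat.pos_of_ne_zero (mt Submodule.finrank_eq_zero.mp hP)
  have hb := Nat.pos_of_ne_zero (mt Submodule.finrank_eq_zero.mp hM)
  by_cases hb2 : 2 ≤ Module.finrank F (ng g)
  · obtain ⟨A, B, hA, hB, h3⟩ := exists_class_sup h.two h.fx_nDeg h.ng_nDeg h.ng_le_perp ha hb2 hW₀ (by omega)
    exact ⟨A ⊔ B, inv_of_le_sup hA hB, h3⟩
  · obtain ⟨A, B, hA, hB, h3⟩ := exists_class_sup h.two h.ng_nDeg h.fx_nDeg (le_perp_comm h.ng_le_perp) hb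
      (by omega) hW₀ (by omega)
    exact ⟨A ⊔ B, sup_comm A B ▸ inv_of_le_sup hB hA, h3⟩

/-- A member of each class of even dimension. -/
theorem exists_class_rep (hQ : Nondeg Q) {j : ℕ} (hj : 1 ≤ j) (hlt : 2 * j < Module.finrank F V)
    (dl : Prop) :
    ∃ W₀ : Submodule F V, NDeg Q W₀ ∧ Module.finrank F W₀ = 2 * j ∧ (Plus (res Q W₀) ↔ dl) := by
  by_cases hdl : dl
  · obtain ⟨W, -, hW, hWe, hWd⟩ := (embeds_of_lt (qPlus_nondeg (F := F) j) (nDeg_top_iff.mpr hQ)
      (by rw [finrank_top]; simp; omega)).image (qPlus_nondeg j)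
    exact ⟨W, hW, by simp at hWd; omega, iff_of_true ((plus_qPlus j).congr hWe) hdl⟩
  · obtain ⟨k, rfl⟩ := Nat.exists_eq_add_of_le' hj
    obtain ⟨a, b, hab⟩ := exists_aniso (F := F)
    obtain ⟨W, -, hW, hWe, hWd⟩ := (embeds_of_lt (qMinus_nondeg k hab) (nDeg_top_iff.mpr hQ)
      (by rw [finrank_top]; simp; omega)).image (qMinus_nondeg k hab)
    exact ⟨W, hW, by simp at hWd; omega, iff_of_false
      (fun hp => not_plus_minus hab (qMinus_equiv k a b) (hp.congr hWe.symm)) hdl⟩

/-- Invariant totally singular subspaces. -/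
theorem Invo.exists_sing (h : Invo Q g) {m a b : ℕ} (hm : a + b = m)
    (ha : 2 * a ≤ Module.finrank F (fx g))
    (ha' : 2 * a = Module.finrank F (fx g) → Plus (res Q (fx g)))
    (hb : 2 * b ≤ Module.finrank F (ng g))
    (hb' : 2 * b = Module.finrank F (ng g) → Plus (res Q (ng g))) :
    ∃ W, Inv g W ∧ Sing Q W ∧ Module.finrank F W = m := by
  obtain ⟨A, hAP, hA, hAd⟩ := exists_sing_of_dim h.fx_nDeg ha ha'
  obtain ⟨B, hBM, hB, hBd⟩ := exists_sing_of_dim h.ng_nDeg hb hb'
  have hAB : B ≤ perp Q A := fun x hx =>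
    mem_perp.mpr fun u hu => mem_perp.mp (h.ng_le_perp (hBM hx)) u (hAP hu)
  refine ⟨A ⊔ B, inv_of_le_sup hAP hBM, hA.sup hB hAB, ?_⟩
  have hdis : A ⊓ B = ⊥ := le_bot_iff.mp ((inf_le_inf hAP hBM).trans
    (inf_eq_bot_of_perp h.fx_nDeg h.ng_le_perp).le)
  have h1 := Submodule.finrank_sup_add_finrank_inf_eq A B
  rw [hdis, finrank_bot] at h1
  omega

omit [Finite F] in
/-- If the negated space is anisotropic, invariant totally singular subspaces are fixed pointwise. -/
theorem Invo.sing_le_fx (h : Invo Q g) (han : ∀ x ∈ ng g, Q x = 0 → x = 0) {W : Submodule F V}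
    (hW : Inv g W) (hWs : Sing Q W) : W ≤ fx g := fun x hx => by
  have h1 : x - g x ∈ W := W.sub_mem hx (hW.mem hx)
  have h3 := han (x - g x) (mem_ng.mpr (by rw [map_sub, h.sq, neg_sub])) (hWs _ h1)
  exact mem_fx.mpr (sub_eq_zero.mp h3).symm

end Cfsg.Agent.Lib.K41.Der
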