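import Cfsg.Agent.Lib.K41.Der.Space
import Cfsg.Agent.Lib.Elusive.Decomp
import Cfsg.Agent.Lib.Elusive.RootScalar

/-!
Isometries of odd prime order, prime to `q`, of a quadratic space: dimension and type of invariant
nondegenerate subspaces without fixed vectors, invariant pieces, totally singular pieces.
-/

set_option autoImplicit false

namespace Cfsg.Agent.Lib.K41.Der

open Module QuadraticMap Polynomial Cfsg.Agent.Lib.Forms Cfsg.Agent.Lib.Elusive

variable {F : Type*} [Field F] {V : Type*} [AddCommGroup V] [Module F V]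

/-- The dimension of a nondegenerate piece. -/
def pdim (i : ℕ) : ℕ := if Even i then i else 2 * i

/-- The condition for `s` pieces to make a space of plus type. -/
def Par (i s : ℕ) : Prop := Even i → Even s

theorem pdim_pos {i : ℕ} (h : 0 < i) : 0 < pdim i := by unfold pdim; split <;> omega

theorem even_pdim (i : ℕ) : Even (pdim i) := by
  unfold pdim
  split
  · assumption
  · exact even_two_mul i

/-- The fixed space. -/
abbrev fx (f : Module.End F V) : Submodule F V := End.eigenspace f (1 : F)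

theorem mem_fx {f : Module.End F V} {v : V} : v ∈ fx f ↔ f v = v := by
  rw [End.mem_eigenspace_iff, one_smul]

/-- An isometry with `f ^ r = 1`. -/
structure Rot (Q : QuadraticForm F V) (f : Module.End F V) (r : ℕ) : Prop where
  nondeg : Nondeg Q
  iso : ∀ v, Q (f v) = Q v
  pow : f ^ r = 1
  two : r ≠ 2
  natCast : (r : F) ≠ 0

variable {Q : QuadraticForm F V} {f : Module.End F V} {r : ℕ} {W X P : Submodule F V}

theorem Rot.iso_polar (h : Rot Q f r) (u v : V) : polar Q (f u) (f v) = polar Q u v :=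
  polar_map f h.iso u v

theorem Rot.iso_pow (h : Rot Q f r) (k : ℕ) (v : V) : Q ((f ^ k) v) = Q v := by
  induction k with
  | zero => simp
  | succ k ih => rw [pow_succ', Module.End.mul_apply, h.iso, ih]

theorem Rot.iso_polar_pow (h : Rot Q f r) (k : ℕ) (u v : V) :
    polar Q ((f ^ k) u) ((f ^ k) v) = polar Q u v := polar_map (f ^ k) (h.iso_pow k) u v

theorem pow_mem_of_inv (hW : Inv f W) {v : V} (hv : v ∈ W) : ∀ k, (f ^ k) v ∈ W := by
  intro k
  induction k with
  | zero => simpa using hv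
  | succ k ih => rw [pow_succ', Module.End.mul_apply]; exact hW.mem ih

theorem inv_fx : Inv f (fx f) := Inv.of_le_eigenspace le_rfl

variable [hr : Fact r.Prime]

theorem Rot.pow_mul (h : Rot Q f r) (k : ℕ) : f ^ k * (f ^ (r - 1)) ^ k = 1 := by
  rw [← _root_.pow_mul, ← pow_add, show k + (r - 1) * k = r * k by
    conv_rhs => rw [← Nat.sub_add_cancel hr.out.one_le, Nat.add_mul, one_mul, add_comm], _root_.pow_mul, h.pow,
    one_pow]

theorem Rot.adjoint (h : Rot Q f r) (m : F[X]) (u v : V) :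
    polar Q (aeval (f ^ (r - 1)) m u) v = polar Q u (aeval f m v) := by
  induction m using Polynomial.induction_on' with
  | add p q hp hq => simp only [map_add, LinearMap.add_apply, polar_add_left, polar_add_right, hp, hq]
  | monomial k a =>
    rw [aeval_monomial, aeval_monomial, Module.End.mul_apply, Module.End.mul_apply,
      Module.algebraMap_end_apply, Module.algebraMap_end_apply, polar_smul_left, polar_smul_right]
    rw [← h.iso_polar_pow k, ← Module.End.mul_apply, h.pow_mul, Module.End.one_apply]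

theorem Rot.inv_perp (h : Rot Q f r) (hW : Inv f W) : Inv f (perp Q W) := by
  refine Inv.of_mem fun x hx => mem_perp.mpr fun w hw => ?_
  have h1 := h.iso_polar ((f ^ (r - 1)) w) x
  rw [← Module.End.mul_apply, ← pow_succ', Nat.sub_add_cancel hr.out.one_le, h.pow,
    Module.End.one_apply, mem_perp.mp hx _ (pow_mem_of_inv hW hw _)] at h1
  exact h1

section Fin

variable [FiniteDimensional F V]

omit hr in
/-- An invariant subspace without fixed vectors is the image of `f - 1` on itself. -/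
theorem exists_sub_eq (hW : Inv f W) (hE : W ⊓ fx f = ⊥) {p : V} (hp : p ∈ W) :
    ∃ y ∈ W, f y - y = p := by
  have hinj : Function.Injective ((f - 1).restrict (p := W) (q := W) fun x hx => by
      rw [LinearMap.sub_apply, Module.End.one_apply]
      exact W.sub_mem (hW.mem hx) hx) := by
    rw [injective_iff_map_eq_zero]
    intro x hx
    have hx' : (x : V) ∈ W ⊓ fx f := ⟨x.2, mem_fx.mpr (eq_of_sub_eq_zero (congrArg Subtype.val hx))⟩
    rw [hE] at hx'
    exact Subtype.ext hx'
  obtain ⟨y, hy⟩ := LinearMap.injective_iff_surjective.mp hinj ⟨p, hp⟩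
  exact ⟨y, y.2, congrArg Subtype.val hy⟩

omit hr in
theorem Rot.le_perp_fx (h : Rot Q f r) (hW : Inv f W) (hE : W ⊓ fx f = ⊥) : W ≤ perp Q (fx f) := by
  intro p hp
  refine mem_perp.mpr fun v hv => ?_
  obtain ⟨y, -, rfl⟩ := exists_sub_eq hW hE hp
  have h2 := h.iso_polar v y
  rw [mem_fx.mp hv] at h2
  rw [polar_sub_right, h2, sub_self]

omit hr in
/-- An invariant subspace without fixed vectors on which the polar form vanishes is totally singular. -/
theorem Rot.sing_of_polar (h : Rot Q f r) (hW : Inv f W) (hE : W ⊓ fx f = ⊥)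
    (hB : ∀ u ∈ W, ∀ v ∈ W, polar Q u v = 0) : Sing Q W := by
  intro p hp
  obtain ⟨y, hy, rfl⟩ := exists_sub_eq hW hE hp
  have h1 : polar Q (f y) (-y) = 0 := by rw [polar_neg_right, hB _ (hW.mem hy) _ hy, neg_zero]
  have h2 : Q y + Q y = 0 := by
    have := hB _ hy _ hy
    rwa [polar_self', two_mul] at this
  rw [sub_eq_add_neg, Q_add, h.iso, h1, add_zero, QuadraticMap.map_neg, h2]

variable [Fintype F]

theorem Rot.uniform (h : Rot Q f r) : IsUniform f 1 (orderOf (Fintype.card F : ZMod r)) :=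
  isUniform_split h.natCast one_ne_zero (by rw [one_pow, one_smul, h.pow])

/-- An invariant nondegenerate subspace splits orthogonally into its fixed and moved part. -/
theorem Rot.fixed_split (h : Rot Q f r) (hX : Inv f X) (hnd : NDeg Q X) :
    NDeg Q (X ⊓ fx f) ∧ Inv f (X ⊓ perp Q (X ⊓ fx f)) ∧ NDeg Q (X ⊓ perp Q (X ⊓ fx f)) ∧
      X ⊓ perp Q (X ⊓ fx f) ⊓ fx f = ⊥ ∧ (X ⊓ fx f) ⊔ X ⊓ perp Q (X ⊓ fx f) = X ∧
      finrank F X = finrank F ↥(X ⊓ fx f) + finrank F ↥(X ⊓ perp Q (X ⊓ fx f)) := by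
  obtain ⟨Z, hZ, hZX, hdisj, hsup⟩ :=
    exists_compl h.uniform.semisimple hX (hX.inf_eigenspace (μ := (1 : F))) inf_le_left
  have hZE : Z ⊓ fx f = ⊥ := le_bot_iff.mp
    (hdisj ▸ le_inf (le_inf (inf_le_left.trans hZX) inf_le_right) inf_le_left)
  have hperp := h.le_perp_fx hZ hZE
  have hE : NDeg Q (X ⊓ fx f) := nDeg_iff.mpr fun e he hee => nDeg_iff.mp hnd e he.1 fun y hy => by
    obtain ⟨a, ha, b, hb, rfl⟩ := Submodule.mem_sup.mp (hsup.ge hy)
    rw [polar_add_right, hee a ha, zero_add]
    exact mem_perp.mp (hperp hb) e he.2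
  obtain ⟨h1, h2, h3⟩ := split hE hnd inf_le_left
  refine ⟨hE, hX.inf (h.inv_perp (hX.inf inv_fx)), h1, ?_, h2, h3⟩
  rw [inf_right_comm]
  exact nDeg_iff_inf_perp.mp hE

theorem Rot.fx_nDeg (h : Rot Q f r) : NDeg Q (fx f) := by
  have h1 := (h.fixed_split (Inv.top f) (nDeg_top_iff.mpr h.nondeg)).1
  rwa [top_inf_eq] at h1

theorem Rot.moved (h : Rot Q f r) : Inv f (perp Q (fx f)) ∧ NDeg Q (perp Q (fx f)) ∧
    perp Q (fx f) ⊓ fx f = ⊥ ∧ finrank F V = finrank F (fx f) + finrank F (perp Q (fx f)) := by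
  obtain ⟨-, h1, h2, h3, -, h4⟩ := h.fixed_split (Inv.top f) (nDeg_top_iff.mpr h.nondeg)
  rw [top_inf_eq, top_inf_eq] at h1 h2 h3 h4
  rw [finrank_top] at h4
  exact ⟨h1, h2, h3, h4⟩

/-- A fixed-point free isometry of order `r` moves the vectors of a nonzero value freely. -/
theorem Rot.dvd_level (h : Rot Q f r) (hX : Inv f X) (hE : X ⊓ fx f = ⊥) {c : F} (hc : c ≠ 0) :
    r ∣ levelCard (res Q X) c := by
  classical
  have := Module.finite_of_finite F (M := V)
  let α := {x : X // res Q X x = c}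
  have := Fintype.ofFinite α
  let g : α → α := fun x => ⟨⟨f (x.1 : V), hX.mem x.1.2⟩, (h.iso _).trans x.2⟩
  have hg : ∀ k (x : α), ((g^[k] x).1 : V) = (f ^ k) (x.1 : V) := by
    intro k
    induction k with
    | zero => intro x; rfl
    | succ k ih => intro x; rw [Function.iterate_succ_apply', pow_succ', Module.End.mul_apply, ← ih]
  have hgr : g^[r] = id := funext fun x => Subtype.ext (Subtype.ext (by rw [hg, h.pow]; rfl))
  have hinv : Function.LeftInverse (g^[r - 1]) g ∧ Function.RightInverse (g^[r - 1]) g := by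
    constructor <;> intro x
    · rw [← Function.iterate_succ_apply, Nat.succ_eq_add_one, Nat.sub_add_cancel hr.out.one_le, hgr, id]
    · rw [← Function.iterate_succ_apply' g, Nat.succ_eq_add_one, Nat.sub_add_cancel hr.out.one_le, hgr, id]
  let σ : Equiv.Perm α := ⟨g, g^[r - 1], hinv.1, hinv.2⟩
  have hσ : σ ^ r ^ 1 = 1 := by
    rw [pow_one]
    refine Equiv.ext fun x => ?_
    rw [Equiv.Perm.coe_pow]
    show g^[r] x = x
    rw [hgr, id]
  have he : σ.supportᶜ = ∅ := by
    refine Finset.eq_empty_of_forall_notMem fun x hx => ?_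
    rw [Finset.mem_compl, Equiv.Perm.notMem_support] at hx
    have h1 : f (x.1 : V) = x.1 := congrArg (fun z : α => ((z.1 : X) : V)) hx
    have h2 : (x.1 : V) = 0 := (Submodule.mem_bot F).mp (hE.le ⟨x.1.2, mem_fx.mpr h1⟩)
    have h3 := x.2
    rw [res_apply, h2, QuadraticMap.map_zero] at h3
    exact hc h3.symm
  have h1 := Equiv.Perm.card_compl_support_modEq hσ
  rw [he, Finset.card_empty] at h1
  rw [levelCard, Nat.card_eq_fintype_card]
  exact (Nat.modEq_zero_iff_dvd).1 h1.symm

/-- Dimension and type of a nondegenerate invariant subspace without fixed vectors. -/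
theorem Rot.fpf_dim (h : Rot Q f r) (hX : Inv f X) (hnd : NDeg Q X) (hE : X ⊓ fx f = ⊥) :
    ∃ s, finrank F X = s * pdim (orderOf (Fintype.card F : ZMod r)) ∧
      (Plus (res Q X) ↔ Par (orderOf (Fintype.card F : ZMod r)) s) := by
  classical
  have hipos : 0 < orderOf (Fintype.card F : ZMod r) := orderOf_card_pos h.natCast
  set i := orderOf (Fintype.card F : ZMod r) with hi
  have hq0 : (Fintype.card F : ZMod r) ≠ 0 := card_cast_ne_zero h.natCast
  have hNq : Nat.card F = Fintype.card F := Nat.card_eq_fintype_card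
  have h20 : (2 : ZMod r) ≠ 0 := fun h0 => by
    have h1 : ((2 : ℕ) : ZMod r) = 0 := by exact_mod_cast h0
    rw [ZMod.natCast_eq_zero_iff] at h1
    exact h.two ((Nat.prime_dvd_prime_iff_eq hr.out Nat.prime_two).mp h1)
  have hev : Even (finrank F X) := by
    rcases classify (res Q X) hnd with ⟨j, hj, -⟩ | ⟨j, c, hc, h2, -, he⟩ | ⟨j, a, b, -, hj, -⟩
    · exact hj ▸ even_two_mul j
    · exfalso
      obtain ⟨ν, hν⟩ := exists_nonsq (F := F) h2
      have hν0 : ν ≠ 0 := fun h0 => hν (h0 ▸ ⟨0, by rw [mul_zero]⟩)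
      have hlev : ∀ d : F, d ≠ 0 → ((r : ℤ) ∣ (Fintype.card F : ℤ) ^ j * levelCard (qOne c) d +
          ((Fintype.card F : ℤ) ^ j - 1) * (Fintype.card F : ℤ) ^ j) := fun d hd => by
        have h1 := h.dvd_level hX hE hd
        rw [levelCard, card_level_congr he, ← levelCard, levelCard_plus_prod, finrank_self,
          Nat.add_sub_cancel, hNq] at h1
        have h2' : ((r : ℤ)) ∣ ((Fintype.card F ^ j * levelCard (qOne c) d +
          (Fintype.card F ^ j - 1) * Fintype.card F ^ j : ℕ) : ℤ) := Int.natCast_dvd_natCast.mpr h1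
        push_cast [Nat.one_le_pow j (Fintype.card F) Fintype.card_pos] at h2'
        exact h2'
      have h1 := hlev c hc
      have h3 := hlev (ν * c) (mul_ne_zero hν0 hc)
      have hl1 : levelCard (qOne c) c = 2 := by
        rw [levelCard, Nat.card_eq_two_iff]
        refine ⟨⟨1, by rw [qOne_apply]; ring⟩, ⟨-1, by rw [qOne_apply]; ring⟩, fun he' => h2 ?_, ?_⟩
        · have h5 : (1 : F) = -1 := congrArg Subtype.val he'
          linear_combination h5
        · refine Set.eq_univ_of_forall fun x => ?_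
          have hx := x.2
          rw [qOne_apply] at hx
          rcases mul_self_eq_one_iff.mp ((mul_eq_left₀ hc).mp hx) with h5 | h5
          · exact Or.inl (Subtype.ext h5)
          · exact Or.inr (Subtype.ext h5)
      have hl2 : levelCard (qOne c) (ν * c) = 0 := Nat.card_eq_zero.2 (Or.inl ⟨fun x => hν ⟨x.1, by
        have hx := x.2
        rw [qOne_apply] at hx
        exact mul_right_cancel₀ hc (by linear_combination -hx)⟩⟩)
      rw [hl1] at h1
      rw [hl2] at h3
      have h5 := dvd_sub h1 h3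
      rw [← ZMod.intCast_zmod_eq_zero_iff_dvd] at h5
      push_cast at h5
      exact h20 ((mul_eq_zero.mp (show (Fintype.card F : ZMod r) ^ j * 2 = 0 by linear_combination h5)).resolve_left
        (pow_ne_zero _ hq0))
    · exact hj ▸ ⟨j + 1, by ring⟩
  obtain ⟨j, hj⟩ := hev.two_dvd
  have h1 : ((levelCard (res Q X) 1 : ℤ) : ZMod r) = 0 := by
    rw [Int.cast_natCast, ZMod.natCast_eq_zero_iff]
    exact h.dvd_level hX hE one_ne_zero
  have hj1 : 2 * (i : ℕ) ∣ 2 * j → i ∣ j := fun h2 => Nat.dvd_of_mul_dvd_mul_left two_pos h2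
  rcases level_even hnd hj (one_ne_zero (α := F)) with ⟨hP, hl⟩ | ⟨hP, -, hl⟩ <;>
    have hl' := congrArg (fun z : ℤ => (z : ZMod r)) hl <;> simp only [Int.cast_mul, h1, zero_mul, hNq] at hl' <;>
    push_cast at hl' <;> rw [pow_mul', _root_.sq] at hl'
  · have hqj : (Fintype.card F : ZMod r) ^ j = 1 := mul_left_cancel₀ (pow_ne_zero j hq0)
      (by linear_combination -hl')
    obtain ⟨t, ht⟩ : i ∣ j := orderOf_dvd_of_pow_eq_one hqj
    by_cases hie : Even i
    · exact ⟨2 * t, by rw [hj, ht, pdim, if_pos hie]; ring, iff_of_true hP fun _ => even_two_mul t⟩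
    · exact ⟨t, by rw [hj, ht, pdim, if_neg hie]; ring, iff_of_true hP fun h' => absurd h' hie⟩
  · have hqj : (Fintype.card F : ZMod r) ^ j = -1 := mul_left_cancel₀ (pow_ne_zero j hq0)
      (by linear_combination -hl')
    have hnj : ¬ i ∣ j := fun h' => by
      rw [orderOf_dvd_iff_pow_eq_one.mp h'] at hqj
      exact h20 (by linear_combination hqj)
    obtain ⟨t, ht⟩ : i ∣ 2 * j := orderOf_dvd_of_pow_eq_one (by rw [pow_mul', hqj]; ring)
    have hto : ¬ Even t := by
      rintro ⟨u, rfl⟩
      exact hnj ⟨u, by linarith⟩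
    have hie : Even i := by
      have h2 : Even (i * t) := ht ▸ even_two_mul j
      exact (Nat.even_mul.mp h2).resolve_right hto
    exact ⟨t, by rw [hj, ht, pdim, if_pos hie, mul_comm], iff_of_false hP fun h' => hto (h' hie)⟩

/-- A simple invariant subspace without fixed vectors is nondegenerate or totally singular. -/
theorem Rot.piece_cases (h : Rot Q f r) {P : Submodule F V}
    (hP : HasType f 1 (orderOf (Fintype.card F : ZMod r)) P 0 1) : NDeg Q P ∨ Sing Q P := by
  have hu := h.uniform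
  by_cases h0 : P ⊓ perp Q P = ⊥
  · exact Or.inl (nDeg_iff_inf_perp.mpr h0)
  obtain ⟨u, hu', hu0⟩ := Submodule.exists_mem_ne_zero_of_ne_bot h0
  have hle := Decomp.piece_le hu hP (h.inv_perp hP.1) hu'.1 hu0 hu'.2
  exact Or.inr (h.sing_of_polar hP.1 (Submodule.finrank_eq_zero.mp hP.2.1)
    fun a ha b hb => mem_perp.mp (hle hb) a ha)

/-- A totally singular invariant subspace completes to a nondegenerate one of twice the dimension. -/
theorem Rot.exists_partner (h : Rot Q f r) (hX : Inv f X) (hnd : NDeg Q X) (hPX : P ≤ X)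
    (hP : Inv f P) (hs : Sing Q P) :
    ∃ Z, Z ≤ X ∧ Inv f Z ∧ NDeg Q (P ⊔ Z) ∧ finrank F Z = finrank F P ∧
      finrank F ↥(P ⊔ Z) = 2 * finrank F P ∧ (∀ z ∈ Z, (∀ p ∈ P, polar Q p z = 0) → z = 0) := by
  obtain ⟨Z, hZ, hZX, hdisj, hsup⟩ :=
    exists_compl h.uniform.semisimple hX (hX.inf (h.inv_perp hP)) inf_le_left
  have hZY : ∀ z ∈ Z, (∀ p ∈ P, polar Q p z = 0) → z = 0 := fun z hz hpz =>
    (Submodule.mem_bot F).mp (hdisj.le ⟨⟨hZX hz, mem_perp.mpr hpz⟩, hz⟩)
  have hPZ : ∀ p ∈ P, (∀ z ∈ Z, polar Q p z = 0) → p = 0 := fun p hp hpz =>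
    nDeg_iff.mp hnd p (hPX hp) fun y hy => by
      obtain ⟨a, ha, b, hb, rfl⟩ := Submodule.mem_sup.mp (hsup.ge hy)
      rw [polar_add_right, mem_perp.mp ha.2 p hp, zero_add, hpz b hb]
  have h1 : finrank F Z ≤ finrank F P :=
    (LinearMap.finrank_le_finrank_of_injective
      (f := ((polarBilin Q).compl₁₂ P.subtype Z.subtype).flip) ((injective_iff_map_eq_zero _).mpr fun z hz =>
        Subtype.ext (hZY z z.2 fun p hp => LinearMap.congr_fun hz ⟨p, hp⟩))).trans Subspace.dual_finrank_eq.le
  have h2 : finrank F P ≤ finrank F Z :=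
    (LinearMap.finrank_le_finrank_of_injective
      (f := (polarBilin Q).compl₁₂ P.subtype Z.subtype) ((injective_iff_map_eq_zero _).mpr fun p hp =>
        Subtype.ext (hPZ p p.2 fun z hz => LinearMap.congr_fun hp ⟨z, hz⟩))).trans Subspace.dual_finrank_eq.le
  refine ⟨Z, hZX, hZ, nDeg_iff.mpr fun x hx hxy => ?_, le_antisymm h1 h2, ?_, hZY⟩
  · obtain ⟨p, hp, z, hz, rfl⟩ := Submodule.mem_sup.mp hx
    have hz0 : z = 0 := hZY z hz fun p' hp' => by
      have h3 := hxy p' (Submodule.mem_sup_left hp')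
      rw [polar_add_left, mem_perp.mp (hs.le_perp hp') p hp, zero_add, polar_comm] at h3
      exact h3
    have hp0 : p = 0 := hPZ p hp fun z' hz' => by
      have h3 := hxy z' (Submodule.mem_sup_right hz')
      rwa [hz0, add_zero] at h3
    rw [hp0, hz0, add_zero]
  · rw [finrank_sup_of_disjoint, two_mul, le_antisymm h1 h2]
    exact le_bot_iff.mp (hdisj ▸ le_inf (le_inf (inf_le_left.trans hPX)
      (inf_le_left.trans hs.le_perp)) inf_le_right)

/-- A subspace without fixed vectors contains a nondegenerate piece. -/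
theorem Rot.exists_piece (h : Rot Q f r) (hX : Inv f X) (hnd : NDeg Q X) (hE : X ⊓ fx f = ⊥)
    (hne : X ≠ ⊥) :
    ∃ W, W ≤ X ∧ Inv f W ∧ NDeg Q W ∧
      finrank F W = pdim (orderOf (Fintype.card F : ZMod r)) := by
  classical
  set i := orderOf (Fintype.card F : ZMod r) with hi
  have hu := h.uniform
  have hpos : 0 < finrank F X :=
    Nat.pos_of_ne_zero fun h0 => hne (Submodule.finrank_eq_zero.mp h0)
  obtain ⟨P, hPX, hP⟩ := hu.exists_piece hX (by rw [hE, finrank_bot]; exact hpos)
  have hPd : finrank F P = i := by rw [hP.2.2, zero_add, one_mul]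
  have hPne : P ≠ ⊥ := fun h0 => by rw [h0, finrank_bot] at hPd; exact hu.pos.ne hPd
  have hPE : P ⊓ fx f = ⊥ := Submodule.finrank_eq_zero.mp hP.2.1
  rcases h.piece_cases hP with hPnd | hsing
  · obtain ⟨s, hs, -⟩ := h.fpf_dim hP.1 hPnd hPE
    rw [← hi, hPd] at hs
    refine ⟨P, hPX, hP.1, hPnd, ?_⟩
    rw [hPd]
    unfold pdim at hs ⊢
    split
    · rfl
    · rename_i hodd
      rw [if_neg hodd] at hs
      exact absurd (hs ▸ (even_two_mul i).mul_left s) hodd
  obtain ⟨Z, hZX, hZ, hWnd, hZd, hWd, hZY⟩ := h.exists_partner hX hnd hPX hP.1 hsing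
  by_cases hev : Even i
  swap
  · exact ⟨P ⊔ Z, sup_le hPX hZX, hP.1.sup hZ, hWnd, by rw [hWd, hPd, pdim, if_neg hev]⟩
  -- both are killed by a polynomial of degree at most `i`
  have hPinv : ∀ x ∈ P, f x ∈ P := fun x hx => hP.1.mem hx
  set m := minpoly F (f.restrict hPinv : Module.End F P) with hmdef
  have hmmon : m.Monic := minpoly.monic (Algebra.IsIntegral.isIntegral _)
  have hmdeg : m.natDegree ≤ i := by
    refine (natDegree_le_of_dvd (LinearMap.minpoly_dvd_charpoly _)
      (LinearMap.charpoly_monic _).ne_zero).trans ?_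
    rw [LinearMap.charpoly_natDegree, hPd]
  have hrestr : ∀ (g : F[X]) (x : P), ((aeval (f.restrict hPinv : Module.End F P) g) x : V) =
      aeval f g (x : V) := by
    intro g x
    induction g using Polynomial.induction_on' with
    | add p q hp hq => simp [hp, hq]
    | monomial k a => simp [aeval_monomial, restrict_pow_apply hPinv k x]
  have hmP : ∀ p ∈ P, aeval f m p = 0 := fun p hp => by
    rw [← hrestr m ⟨p, hp⟩, hmdef, minpoly.aeval]; rfl
  -- the polynomial also kills the inverse on `P`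
  have hgP : ∀ p ∈ P, aeval (f ^ (r - 1)) m p = 0 := by
    intro p hp
    obtain ⟨e, he⟩ := hev
    have he0 : 0 < e := by have := hu.pos; omega
    have hneg : ((Fintype.card F ^ e : ℕ) : ZMod r) = ((r - 1 : ℕ) : ZMod r) := by
      rw [Nat.cast_pow, Nat.cast_sub hr.out.one_le, ZMod.natCast_self, Nat.cast_one, zero_sub]
      have h1 : ((Fintype.card F : ZMod r) ^ e - 1) * ((Fintype.card F : ZMod r) ^ e + 1) = 0 := by
        have h2 := pow_orderOf_eq_one (Fintype.card F : ZMod r)
        rw [← hi, he] at h2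
        linear_combination h2
      rcases mul_eq_zero.mp h1 with h2 | h2
      · exfalso
        have h3 := Nat.le_of_dvd he0 (orderOf_dvd_of_pow_eq_one (sub_eq_zero.mp h2))
        omega
      · exact eq_neg_of_add_eq_zero_left h2
    have hf : f ^ (r - 1) = f ^ (Fintype.card F ^ e) := by
      rw [ZMod.natCast_eq_natCast_iff] at hneg
      have hmod : ∀ k, f ^ k = f ^ (k % r) := fun k => by
        conv_lhs => rw [← Nat.mod_add_div k r, pow_add, _root_.pow_mul, h.pow, one_pow, mul_one]
      rw [hmod, hmod (Fintype.card F ^ e)]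
      exact congrArg _ hneg.symm
    have hexp : ∀ e : ℕ, expand F (Fintype.card F ^ e) m = m ^ (Fintype.card F ^ e) := by
      intro e
      induction e with
      | zero => simp
      | succ e ih =>
        rw [pow_succ' (Fintype.card F) e, expand_mul, ih, map_pow, FiniteField.expand_card,
          ← _root_.pow_mul]
    rw [hf, ← expand_aeval, hexp, map_pow]
    obtain ⟨k, hk⟩ : ∃ k, Fintype.card F ^ e = k + 1 :=
      ⟨Fintype.card F ^ e - 1, (Nat.sub_add_cancel (Nat.one_le_pow _ _ Fintype.card_pos)).symm⟩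
    rw [hk, pow_succ, Module.End.mul_apply, hmP p hp, map_zero]
  have haev : ∀ (T : Submodule F V), Inv f T → ∀ (g : F[X]) (x : V), x ∈ T → aeval f g x ∈ T := by
    intro T hT g x hx
    rw [aeval_eq_sum_range, LinearMap.sum_apply]
    exact T.sum_mem fun k _ => T.smul_mem _ (pow_mem_of_inv hT hx k)
  have hmW : ∀ v ∈ P ⊔ Z, aeval f m v = 0 := by
    intro v hv
    obtain ⟨p, hp, z, hz, rfl⟩ := Submodule.mem_sup.mp hv
    rw [map_add, hmP p hp, zero_add]
    exact hZY _ (haev Z hZ m z hz) fun p' hp' => by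
      rw [← h.adjoint, hgP p' hp', polar_zero_left]
  -- some vector is not orthogonal to its image
  have hinv := hP.1.sup hZ
  obtain ⟨v, hv, hv'⟩ : ∃ v ∈ P ⊔ Z, polar Q v (f v) ≠ 0 := by
    by_contra hcon
    push Not at hcon
    obtain ⟨v, hv, hv0⟩ := Submodule.exists_mem_ne_zero_of_ne_bot hPne
    have hvW : v ∈ P ⊔ Z := Submodule.mem_sup_left hv
    have hff : f (f v) + v = 0 := nDeg_iff.mp hWnd _
      (Submodule.add_mem _ (hinv.mem (hinv.mem hvW)) hvW) fun y hy => by
        have h1 := hcon (f v + y) (Submodule.add_mem _ (hinv.mem hvW) hy)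
        simp only [map_add, polar_add_left, polar_add_right, hcon _ (hinv.mem hvW), hcon y hy,
          h.iso_polar, polar_comm Q y (f (f v)), add_zero, zero_add] at h1
        rw [polar_add_left]
        linear_combination h1
    have hfv : f v = v := by
      have hff' : f (f v) = -v := eq_neg_of_add_eq_zero_left hff
      have h4 : (f ^ 4) v = v := by
        simp only [pow_succ, pow_zero, one_mul, Module.End.mul_apply, hff', map_neg, neg_neg]
      have h4' : ∀ k, (f ^ (4 * k)) v = v := by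
        intro k
        induction k with
        | zero => rfl
        | succ k ih => rw [Nat.mul_succ, pow_add, Module.End.mul_apply, h4, ih]
      obtain ⟨k, hk⟩ := hr.out.odd_of_ne_two h.two
      have h3 : (f ^ r) v = v := by rw [h.pow]; rfl
      rcases Nat.even_or_odd k with ⟨u, hu'⟩ | ⟨u, hu'⟩
      · rwa [show r = 1 + 4 * u by omega, pow_add, Module.End.mul_apply, h4', pow_one] at h3
      · rw [show r = 3 + 4 * u by omega, pow_add, Module.End.mul_apply, h4'] at h3
        calc f v = f ((f ^ 3) v) := by rw [h3]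
          _ = (f ^ 4) v := by rw [← Module.End.mul_apply, ← pow_succ']
          _ = v := h4
    exact hv0 ((Submodule.mem_bot F).mp (hE.le ⟨hPX hv, mem_fx.mpr hfv⟩))
  -- its cyclic span
  set S := Submodule.span F (Set.range fun k : Fin m.natDegree => (f ^ (k : ℕ)) v) with hSdef
  have htop : (f ^ m.natDegree) v ∈ S := by
    have h1 := hmW v hv
    rw [aeval_eq_sum_range, LinearMap.sum_apply, Finset.sum_range_succ, LinearMap.smul_apply,
      hmmon.coeff_natDegree, one_smul] at h1
    rw [eq_neg_of_add_eq_zero_right h1]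
    refine S.neg_mem (S.sum_mem fun k hk => S.smul_mem _ (Submodule.subset_span ⟨⟨k, Finset.mem_range.mp hk⟩, rfl⟩))
  have hdeg0 : 0 < m.natDegree := by
    haveI : Nontrivial P := Submodule.nontrivial_iff_ne_bot.mpr hPne
    exact minpoly.natDegree_pos (Algebra.IsIntegral.isIntegral _)
  have hSinv : Inv f S := by
    rw [Elusive.Inv, hSdef, Submodule.map_span, Submodule.span_le]
    rintro _ ⟨_, ⟨k, rfl⟩, rfl⟩
    rw [SetLike.mem_coe, ← Module.End.mul_apply, ← pow_succ']
    by_cases hk : (k : ℕ) + 1 < m.natDegree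
    · exact Submodule.subset_span ⟨⟨_, hk⟩, rfl⟩
    · rw [show (k : ℕ) + 1 = m.natDegree by omega]; exact htop
  have hvS : v ∈ S := Submodule.subset_span ⟨⟨0, hdeg0⟩, by simp⟩
  have hSW : S ≤ P ⊔ Z := by
    rw [hSdef, Submodule.span_le]
    rintro _ ⟨k, rfl⟩
    exact pow_mem_of_inv hinv hv _
  have hSE : S ⊓ fx f = ⊥ :=
    le_bot_iff.mp (hE ▸ inf_le_inf_right _ (hSW.trans (sup_le hPX hZX)))
  have hv0 : v ≠ 0 := fun h0 => hv' (by rw [h0, map_zero, polar_zero_left])
  obtain ⟨k, hk⟩ := hu.exists_type hSinv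
  have h1 : finrank F S = k * i := hk.2.2.trans (by rw [hSE, finrank_bot, zero_add, hi])
  have hSd : finrank F S ≤ i :=
    ((finrank_range_le_card _).trans (Fintype.card_fin _).le).trans hmdeg
  have hk1 : k = 1 := by
    have hk0 : k ≠ 0 := by
      rintro rfl
      rw [zero_mul] at h1
      exact hv0 ((Submodule.mem_bot F).mp ((Submodule.finrank_eq_zero.mp h1).le hvS))
    by_contra hk1
    have := Nat.mul_le_mul_right i (show 2 ≤ k by omega)
    have := hu.pos
    omega
  subst hk1
  rw [one_mul] at h1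
  have hSP : HasType f 1 i S 0 1 := ⟨hSinv, by rw [hSE, finrank_bot], by rw [h1, zero_add, one_mul]⟩
  refine ⟨S, hSW.trans (sup_le hPX hZX), hSinv, ?_, by rw [h1, pdim, if_pos hev]⟩
  rcases h.piece_cases hSP with hS | hS
  · exact hS
  · exact absurd (mem_perp.mp (hS.le_perp (hSinv.mem hvS)) v hvS) hv'

/-- Invariant nondegenerate subspaces with every number of pieces. -/
theorem Rot.exists_sub (h : Rot Q f r) : ∀ (j : ℕ) (X : Submodule F V), Inv f X → NDeg Q X →
    X ⊓ fx f = ⊥ → j * pdim (orderOf (Fintype.card F : ZMod r)) ≤ finrank F X →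
    ∃ W, W ≤ X ∧ Inv f W ∧ NDeg Q W ∧ finrank F W = j * pdim (orderOf (Fintype.card F : ZMod r)) := by
  intro j
  induction j with
  | zero => exact fun X _ _ _ _ => ⟨⊥, bot_le, Inv.bot f, nDeg_bot, by simp⟩
  | succ j ih =>
    intro X hX hnd hE hd
    have hpos := pdim_pos (orderOf_card_pos (F := F) (r := r) h.natCast)
    obtain ⟨W₁, hW₁X, hW₁, hW₁n, hW₁d⟩ := h.exists_piece hX hnd hE fun h0 => by
      rw [h0, finrank_bot, Nat.add_mul] at hd; omega
    obtain ⟨hY, -, hdim⟩ := split hW₁n hnd hW₁X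
    rw [Nat.add_mul, one_mul] at hd
    obtain ⟨W₂, hW₂Y, hW₂, hW₂n, hW₂d⟩ := ih _ (hX.inf (h.inv_perp hW₁)) hY
      (le_bot_iff.mp (hE ▸ inf_le_inf_right _ inf_le_left)) (by omega)
    refine ⟨W₁ ⊔ W₂, sup_le hW₁X (hW₂Y.trans inf_le_left), hW₁.sup hW₂,
      nDeg_sup hW₁n hW₂n (hW₂Y.trans inf_le_right), ?_⟩
    rw [finrank_sup_perp hW₁n (hW₂Y.trans inf_le_right), hW₁d, hW₂d, Nat.add_mul, one_mul, add_comm]

/-- A nonzero vector whose orbit spans an isotropic subspace (Chevalley–Warning). -/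
theorem Rot.exists_iso_vector (h : Rot Q f r) (hX : Inv f X) (hE : X ⊓ fx f = ⊥)
    (hdim : r - 1 < finrank F X) :
    ∃ v ∈ X, v ≠ 0 ∧ ∀ k, polar Q v ((f ^ k) v) = 0 := by
  classical
  obtain ⟨p, hp⟩ := CharP.exists F
  haveI : Fact p.Prime := ⟨CharP.char_is_prime F p⟩
  let b := finBasis F X
  obtain ⟨l, hl⟩ := hr.out.odd_of_ne_two h.two
  let P : Fin l → MvPolynomial (Fin (finrank F X)) F := fun k =>
    ∑ x, ∑ y, MvPolynomial.C (polar Q (b x : V) ((f ^ ((k : ℕ) + 1)) (b y : V))) *
      (MvPolynomial.X x * MvPolynomial.X y)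
  have hdeg : ∀ k, (P k).totalDegree ≤ 2 := fun k => by
    refine MvPolynomial.totalDegree_finsetSum_le fun x _ => MvPolynomial.totalDegree_finsetSum_le fun y _ => ?_
    refine (MvPolynomial.totalDegree_mul _ _).trans ?_
    rw [MvPolynomial.totalDegree_C, zero_add]
    refine (MvPolynomial.totalDegree_mul _ _).trans ?_
    rw [MvPolynomial.totalDegree_X, MvPolynomial.totalDegree_X]
  have hsum : (∑ k, (P k).totalDegree) < Fintype.card (Fin (finrank F X)) := by
    have h1 := Finset.sum_le_sum (s := (Finset.univ : Finset (Fin l))) fun k _ => hdeg k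
    rw [Finset.sum_const, Finset.card_univ, Fintype.card_fin, smul_eq_mul] at h1
    rw [Fintype.card_fin]
    omega
  have hdvd := char_dvd_card_solutions_of_fintype_sum_lt p (f := P) hsum
  have hpol : ∀ u w, polar Q u w = polarBilin Q u w := fun _ _ => rfl
  have heval : ∀ k c, MvPolynomial.eval c (P k) =
      polar Q (∑ x, c x • (b x : V)) ((f ^ ((k : ℕ) + 1)) (∑ y, c y • (b y : V))) := fun k c => by
    simp only [P, hpol, map_sum, map_mul, MvPolynomial.eval_C, MvPolynomial.eval_X, map_smul,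
      LinearMap.sum_apply, LinearMap.smul_apply, smul_eq_mul]
    rw [Finset.sum_comm]
    exact Finset.sum_congr rfl fun y _ => by rw [Finset.mul_sum]; exact Finset.sum_congr rfl fun x _ => by ring
  obtain ⟨c, hc, hc0⟩ : ∃ c : Fin (finrank F X) → F,
      (∀ k, MvPolynomial.eval c (P k) = 0) ∧ c ≠ 0 := by
    by_contra hcon
    push Not at hcon
    have h1 : Nat.card {c : Fin (finrank F X) → F // ∀ k, MvPolynomial.eval c (P k) = 0} = 1 :=
      Nat.card_eq_one_iff_unique.mpr ⟨⟨fun c c' => Subtype.ext ((hcon c.1 c.2).trans (hcon c'.1 c'.2).symm)⟩,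
        ⟨⟨0, fun k => by rw [heval]; simp⟩⟩⟩
    rw [← @Nat.card_eq_fintype_card _ (_), h1] at hdvd
    exact (Fact.out : p.Prime).not_dvd_one hdvd
  set v : V := ∑ x, c x • (b x : V) with hv
  have hvX : v ∈ X := X.sum_mem fun x _ => X.smul_mem _ (b x).2
  have hv0 : v ≠ 0 := fun h0 => hc0 (funext fun x => by
    have h1 : ∑ x, c x • b x = (0 : X) := Subtype.ext (by simpa [hv] using h0)
    exact Fintype.linearIndependent_iff.mp b.linearIndependent c h1 x)
  refine ⟨v, hvX, hv0, ?_⟩
  have hper : ∀ k, (f ^ k) v = (f ^ (k % r)) v := fun k => by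
    conv_lhs => rw [← Nat.mod_add_div k r, pow_add, _root_.pow_mul, h.pow, one_pow, mul_one]
  have hk : ∀ k, 0 < k → k < r → polar Q v ((f ^ k) v) = 0 := by
    intro k hk0 hk
    by_cases hkl : k ≤ l
    · have h1 := hc ⟨k - 1, by omega⟩
      rw [heval] at h1
      simp only [show k - 1 + 1 = k by omega, ← hv] at h1
      exact h1
    · have h1 := hc ⟨r - k - 1, by omega⟩
      rw [heval] at h1
      simp only [show r - k - 1 + 1 = r - k by omega] at h1
      have h2 := h.iso_polar_pow k v ((f ^ (r - k)) v)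
      rw [← Module.End.mul_apply, ← pow_add, Nat.add_sub_cancel' hk.le, h.pow, Module.End.one_apply,
        hv, h1] at h2
      rw [hv, polar_comm]
      exact h2
  -- the orbit sums to zero, so the diagonal value vanishes as well
  have hw : (∑ k ∈ Finset.range r, (f ^ k) v) = 0 := by
    set w := ∑ k ∈ Finset.range r, (f ^ k) v with hw
    have hwX : w ∈ X := X.sum_mem fun k _ => pow_mem_of_inv hX hvX k
    have hsum' := geom_sum_mul f r
    rw [h.pow, sub_self] at hsum'
    have hfw : f w = w := by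
      have h1 : f w - w = ∑ k ∈ Finset.range r, ((f ^ k) (f v) - (f ^ k) v) := by
        rw [hw, map_sum, ← Finset.sum_sub_distrib]
        refine Finset.sum_congr rfl fun k _ => ?_
        rw [← Module.End.mul_apply, ← pow_succ', pow_succ, Module.End.mul_apply]
      refine eq_of_sub_eq_zero (h1.trans ?_)
      have h2 := LinearMap.congr_fun hsum' v
      simpa [LinearMap.sum_apply, map_sub, Finset.sum_sub_distrib] using h2
    exact (Submodule.mem_bot F).mp (hE.le ⟨hwX, mem_fx.mpr hfw⟩)
  have h00 : polar Q v v = 0 := by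
    have h1 : polarBilin Q v (∑ k ∈ Finset.range r, (f ^ k) v) = 0 := by rw [hw, map_zero]
    rw [map_sum, Finset.sum_eq_single 0] at h1
    · simpa using h1
    · intro k hk' hk0; exact hk k (Nat.pos_of_ne_zero hk0) (Finset.mem_range.mp hk')
    · intro h0; exact absurd (Finset.mem_range.mpr hr.out.pos) h0
  intro k
  rw [hper]
  rcases Nat.eq_zero_or_pos (k % r) with h0 | h0
  · rw [h0]; simpa using h00
  · exact hk _ h0 (Nat.mod_lt _ hr.out.pos)

/-- A totally singular piece. -/
theorem Rot.exists_sing_piece (h : Rot Q f r) (hX : Inv f X) (hE : X ⊓ fx f = ⊥)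
    (hne : 0 < finrank F X)
    (hcond : Odd (orderOf (Fintype.card F : ZMod r)) ∨ r - 1 < finrank F X) :
    ∃ P, P ≤ X ∧ Inv f P ∧ Sing Q P ∧ finrank F P = orderOf (Fintype.card F : ZMod r) := by
  have hu := h.uniform
  have hbot : ∀ {W : Submodule F V}, W ≤ X → W ⊓ fx f = ⊥ := fun hW =>
    le_bot_iff.mp (hE ▸ inf_le_inf_right _ hW)
  rcases hcond with hodd | hlarge
  · obtain ⟨P, hPX, hP⟩ := hu.exists_piece hX (by rw [hE, finrank_bot]; exact hne)
    have hPd : finrank F P = orderOf (Fintype.card F : ZMod r) := by rw [hP.2.2, zero_add, one_mul]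
    refine ⟨P, hPX, hP.1, (h.piece_cases hP).resolve_left fun hn => ?_, hPd⟩
    obtain ⟨s, hs, -⟩ := h.fpf_dim hP.1 hn (hbot hPX)
    rw [hPd, pdim, if_neg (Nat.not_even_iff_odd.mpr hodd)] at hs
    exact Nat.not_even_iff_odd.mpr hodd (hs ▸ (even_two_mul _).mul_left s)
  · obtain ⟨v, hv, hv0, hiso⟩ := h.exists_iso_vector hX hE hlarge
    set S := Submodule.span F (Set.range fun k : Fin r => (f ^ (k : ℕ)) v) with hSdef
    have hS : Inv f S := Decomp.inv_span_iterates hr.out.pos (z := 1) (by rw [one_smul, h.pow]) v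
    have hSX : S ≤ X := Decomp.span_iterates_le hX hv
    have hvS : v ∈ S := Submodule.subset_span ⟨⟨0, hr.out.pos⟩, by simp⟩
    obtain ⟨P, hPS, hP⟩ := hu.exists_piece hS (by
      rw [hbot hSX, finrank_bot]
      exact Nat.pos_of_ne_zero fun h0 => hv0 ((Submodule.mem_bot F).mp ((Submodule.finrank_eq_zero.mp h0).le hvS)))
    have hall : ∀ a b : ℕ, polar Q ((f ^ a) v) ((f ^ b) v) = 0 := by
      have hle : ∀ a b, polar Q ((f ^ a) v) ((f ^ (a + b)) v) = 0 := fun a b => by
        rw [pow_add, Module.End.mul_apply, h.iso_polar_pow]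
        exact hiso b
      intro a b
      rcases Nat.le_total a b with hab | hab
      · obtain ⟨j, rfl⟩ := Nat.exists_eq_add_of_le hab
        exact hle a j
      · obtain ⟨j, rfl⟩ := Nat.exists_eq_add_of_le hab
        rw [polar_comm]; exact hle b j
    have hperp : S ≤ perp Q S := by
      refine Submodule.span_le.mpr ?_
      rintro _ ⟨b, rfl⟩
      refine mem_perp.mpr fun w hw => ?_
      have hker : S ≤ LinearMap.ker (polarBilin Q ((f ^ (b : ℕ)) v)) := by
        refine Submodule.span_le.mpr ?_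
        rintro _ ⟨a, rfl⟩
        exact hall b a
      rw [polar_comm]
      exact hker hw
    refine ⟨P, hPS.trans hSX, hP.1, h.sing_of_polar hP.1 (hbot (hPS.trans hSX)) fun u hu' w hw => ?_,
      by rw [hP.2.2, zero_add, one_mul]⟩
    exact mem_perp.mp (hperp (hPS hw)) u (hPS hu')

/-- Invariant totally singular subspaces built from `a` pieces. -/
theorem Rot.exists_sing_inv (h : Rot Q f r) :
    ∀ a, ∀ X : Submodule F V, Inv f X → NDeg Q X → X ⊓ fx f = ⊥ →
      (0 < a → (Odd (orderOf (Fintype.card F : ZMod r)) ∧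
          2 * a * orderOf (Fintype.card F : ZMod r) ≤ finrank F X) ∨
        2 * (a - 1) * orderOf (Fintype.card F : ZMod r) + (r - 1) < finrank F X) →
      ∃ W, W ≤ X ∧ Inv f W ∧ Sing Q W ∧ finrank F W = a * orderOf (Fintype.card F : ZMod r) := by
  intro a
  induction a with
  | zero =>
    exact fun X _ _ _ _ => ⟨⊥, bot_le, Inv.bot f, fun u hu => by
      rw [(Submodule.mem_bot F).mp hu, QuadraticMap.map_zero], by simp⟩
  | succ k ih =>
    intro X hX hnd hE hk
    have hipos : 0 < orderOf (Fintype.card F : ZMod r) := orderOf_card_pos h.natCast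
    set i := orderOf (Fintype.card F : ZMod r) with hi
    obtain ⟨P, hPX, hP, hPs, hPd⟩ := h.exists_sing_piece hX hE (by
        rcases hk k.succ_pos with ⟨-, h1⟩ | h1
        · have := Nat.le_mul_of_pos_left i (show 0 < 2 * (k + 1) by omega)
          omega
        · omega) (by
        rcases hk k.succ_pos with ⟨h1, -⟩ | h1
        · exact Or.inl h1
        · exact Or.inr (by omega))
    rw [← hi] at hPd
    obtain ⟨Z, hZX, hZ, hQnd, -, hQd, -⟩ := h.exists_partner hX hnd hPX hP hPs
    obtain ⟨hY, -, hdim⟩ := split hQnd hnd (sup_le hPX hZX)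
    have e1 : 2 * (k + 1) * i = 2 * k * i + 2 * i := by ring
    obtain ⟨W, hWY, hW, hWs, hWd⟩ := ih _ (hX.inf (h.inv_perp (hP.sup hZ))) hY
      (le_bot_iff.mp (hE ▸ inf_le_inf_right _ inf_le_left)) fun hk0 => by
        rcases hk k.succ_pos with ⟨h1, h2⟩ | h1
        · exact Or.inl ⟨h1, by omega⟩
        · refine Or.inr ?_
          have e2 : 2 * (k + 1 - 1) * i = 2 * (k - 1) * i + 2 * i := by
            rw [show k + 1 - 1 = k - 1 + 1 by omega]; ring
          omega
    have hWperp : W ≤ perp Q P := fun w hw =>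
      mem_perp.mpr fun u hu => mem_perp.mp (hWY hw).2 u (Submodule.mem_sup_left hu)
    refine ⟨P ⊔ W, sup_le hPX (hWY.trans inf_le_left), hP.sup hW, hPs.sup hWs hWperp, ?_⟩
    rw [finrank_sup_of_disjoint, hPd, hWd]
    · ring
    · exact le_bot_iff.mp (nDeg_iff_inf_perp.mp hQnd ▸
        inf_le_inf le_sup_left (hWY.trans inf_le_right))

end Fin

end Cfsg.Agent.Lib.K41.Der
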