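import Cfsg.Agent.Lib.Forms.Basis

/-!
Nondegenerate subspaces of a quadratic space over a finite field: complements, the plus/minus type
and its multiplicativity (by level counts), isometric embeddings and transitivity.
-/

set_option autoImplicit false

namespace Cfsg.Agent.Lib.K41.Der

open Module QuadraticMap Cfsg.Agent.Lib.Forms

variable {F : Type*} [Field F] {V : Type*} [AddCommGroup V] [Module F V]
variable {V' : Type*} [AddCommGroup V'] [Module F V']

/-- `Q` is nondegenerate on `W`. -/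
def NDeg (Q : QuadraticForm F V) (W : Submodule F V) : Prop := Nondeg (res Q W)

/-- `Q` vanishes on `W`. -/
def Sing (Q : QuadraticForm F V) (W : Submodule F V) : Prop := ∀ w ∈ W, Q w = 0

/-- The orthogonal of `W`. -/
def perp (Q : QuadraticForm F V) (W : Submodule F V) : Submodule F V :=
  LinearMap.BilinForm.orthogonal (polarBilin Q) W

/-- A totally singular subspace of half the dimension exists. -/
def Plus (Q : QuadraticForm F V) : Prop :=
  ∃ U : Submodule F V, Sing Q U ∧ 2 * finrank F U = finrank F V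

variable {Q : QuadraticForm F V} {W X A B : Submodule F V}

theorem mem_perp {x : V} : x ∈ perp Q W ↔ ∀ w ∈ W, polar Q w x = 0 := Iff.rfl

theorem le_perp_comm (h : A ≤ perp Q B) : B ≤ perp Q A := fun b hb => mem_perp.mpr fun a ha => by
  rw [polar_comm]; exact mem_perp.mp (h ha) b hb

theorem nDeg_iff : NDeg Q W ↔ ∀ x ∈ W, (∀ y ∈ W, polar Q x y = 0) → x = 0 :=
  ⟨fun h x hx hy => congrArg Subtype.val (h ⟨x, hx⟩ fun y => hy y y.2),
    fun h x hx => Subtype.ext (h x x.2 fun y hy => hx ⟨y, hy⟩)⟩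

theorem nDeg_iff_inf_perp : NDeg Q W ↔ W ⊓ perp Q W = ⊥ := by
  rw [nDeg_iff, Submodule.eq_bot_iff]
  constructor
  · rintro h x ⟨hx, hx'⟩
    exact h x hx fun y hy => by rw [polar_comm]; exact mem_perp.mp hx' y hy
  · intro h x hx hxy
    exact h x ⟨hx, mem_perp.mpr fun y hy => by rw [polar_comm]; exact hxy y hy⟩

theorem nDeg_top_iff : NDeg Q ⊤ ↔ Nondeg Q :=
  ⟨fun h x hx => nDeg_iff.mp h x trivial fun y _ => hx y,
    fun h => nDeg_iff.mpr fun x _ hx => h x fun y => hx y trivial⟩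

theorem nDeg_bot : NDeg Q (⊥ : Submodule F V) := nDeg_iff.mpr fun x hx _ => (Submodule.mem_bot F).mp hx

theorem Sing.mono (h : Sing Q B) (hAB : A ≤ B) : Sing Q A := fun a ha => h a (hAB ha)

theorem Sing.le_perp (h : Sing Q W) : W ≤ perp Q W := fun x hx => mem_perp.mpr fun w hw => by
  rw [polar, h _ (W.add_mem hw hx), h _ hw, h _ hx, sub_zero, sub_zero]

theorem Sing.sup (hA : Sing Q A) (hB : Sing Q B) (hAB : B ≤ perp Q A) : Sing Q (A ⊔ B) := by
  intro x hx
  obtain ⟨a, ha, b, hb, rfl⟩ := Submodule.mem_sup.mp hx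
  rw [Q_add, hA a ha, hB b hb, mem_perp.mp (hAB hb) a ha, add_zero, add_zero]

section Fin

variable [FiniteDimensional F V]

theorem exists_project (hW : NDeg Q W) (x : V) : ∃ w ∈ W, x - w ∈ perp Q W := by
  have hinj : Function.Injective (polarBilin (res Q W)) := (injective_iff_map_eq_zero _).mpr fun u hu =>
    hW u fun y => by simpa using LinearMap.congr_fun hu y
  obtain ⟨w, hw⟩ := (LinearMap.injective_iff_surjective_of_finrank_eq_finrank
    Subspace.dual_finrank_eq.symm).mp hinj ((polarBilin Q x).comp W.subtype)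
  refine ⟨w, w.2, mem_perp.mpr fun y hy => ?_⟩
  have h1 : polar Q (w : V) y = polar Q x y := LinearMap.congr_fun hw ⟨y, hy⟩
  rw [polar_comm Q y, polar_sub_left, h1, sub_self]

theorem split (hW : NDeg Q W) (hX : NDeg Q X) (hle : W ≤ X) :
    NDeg Q (X ⊓ perp Q W) ∧ W ⊔ X ⊓ perp Q W = X ∧
      finrank F X = finrank F W + finrank F ↥(X ⊓ perp Q W) := by
  have hsup : W ⊔ X ⊓ perp Q W = X := by
    refine le_antisymm (sup_le hle inf_le_left) fun x hx => ?_
    obtain ⟨w, hw, hwx⟩ := exists_project hW x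
    exact Submodule.mem_sup.mpr ⟨w, hw, x - w, ⟨X.sub_mem hx (hle hw), hwx⟩, by abel⟩
  refine ⟨nDeg_iff.mpr fun y hy h => nDeg_iff.mp hX y hy.1 fun z hz => ?_, hsup, ?_⟩
  · obtain ⟨w, hw, z', hz', rfl⟩ := Submodule.mem_sup.mp (hsup.ge hz)
    rw [polar_add_right, h z' hz', add_zero, polar_comm]
    exact mem_perp.mp hy.2 w hw
  · conv_lhs => rw [← hsup]
    have h0 : W ⊓ (X ⊓ perp Q W) = ⊥ := by
      rw [← inf_assoc, inf_eq_left.mpr hle, nDeg_iff_inf_perp.mp hW]
    rw [← Submodule.finrank_sup_add_finrank_inf_eq, h0, finrank_bot, add_zero]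

theorem split_top (hQ : Nondeg Q) (hW : NDeg Q W) :
    NDeg Q (perp Q W) ∧ W ⊔ perp Q W = ⊤ ∧ finrank F V = finrank F W + finrank F (perp Q W) := by
  have h := split hW (nDeg_top_iff.mpr hQ) le_top
  rwa [top_inf_eq, finrank_top] at h

theorem inf_eq_bot_of_perp (hA : NDeg Q A) (hAB : B ≤ perp Q A) : A ⊓ B = ⊥ :=
  le_bot_iff.mp ((inf_le_inf_left A hAB).trans (nDeg_iff_inf_perp.mp hA).le)

theorem nDeg_sup (hA : NDeg Q A) (hB : NDeg Q B) (hAB : B ≤ perp Q A) : NDeg Q (A ⊔ B) := by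
  refine nDeg_iff.mpr fun x hx h => ?_
  obtain ⟨a, ha, b, hb, rfl⟩ := Submodule.mem_sup.mp hx
  have ha0 : a = 0 := nDeg_iff.mp hA a ha fun y hy => by
    have h1 := h y (Submodule.mem_sup_left hy)
    rwa [polar_add_left, polar_comm Q b, mem_perp.mp (hAB hb) y hy, add_zero] at h1
  have hb0 : b = 0 := nDeg_iff.mp hB b hb fun y hy => by
    have h1 := h y (Submodule.mem_sup_right hy)
    rwa [ha0, zero_add] at h1
  rw [ha0, hb0, add_zero]

theorem finrank_sup_perp (hA : NDeg Q A) (hAB : B ≤ perp Q A) :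
    finrank F ↥(A ⊔ B) = finrank F A + finrank F B := by
  rw [← Submodule.finrank_sup_add_finrank_inf_eq, inf_eq_bot_of_perp hA hAB, finrank_bot, add_zero]

theorem sup_equiv (hA : NDeg Q A) (hAB : B ≤ perp Q A) :
    ((res Q A).prod (res Q B)).Equivalent (res Q (A ⊔ B)) := by
  let φ : A × B →ₗ[F] ↥(A ⊔ B) :=
    (Submodule.inclusion le_sup_left).coprod (Submodule.inclusion le_sup_right)
  have hφ : ∀ z, (φ z : V) = (z.1 : V) + (z.2 : V) := fun z => by simp [φ]
  have hinj : Function.Injective φ := by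
    rw [injective_iff_map_eq_zero]
    intro z hz
    have h0 : (z.1 : V) + (z.2 : V) = 0 := by rw [← hφ, hz]; rfl
    have h1 : (z.1 : V) = 0 := by
      refine (Submodule.mem_bot F).mp ((inf_eq_bot_of_perp hA hAB).le ⟨z.1.2, ?_⟩)
      rw [eq_neg_of_add_eq_zero_left h0]
      exact B.neg_mem z.2.2
    rw [h1, zero_add] at h0
    exact Prod.ext (Subtype.ext h1) (Subtype.ext h0)
  let e : (A × B) ≃ₗ[F] ↥(A ⊔ B) := LinearEquiv.ofInjectiveOfFinrankEq φ hinj
    (by rw [finrank_prod, finrank_sup_perp hA hAB])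
  refine ⟨{ e with map_app' := fun z => ?_ }⟩
  show Q (φ z : V) = Q (z.1 : V) + Q (z.2 : V)
  rw [hφ, Q_add, mem_perp.mp (hAB z.2.2) z.1 z.1.2, add_zero]

theorem sing_finrank_le (hQ : Nondeg Q) (hW : Sing Q W) : 2 * finrank F W ≤ finrank F V := by
  have h1 := Submodule.finrank_mono hW.le_perp
  rw [perp, LinearMap.BilinForm.finrank_orthogonal hQ.polarBilin] at h1
  have := Submodule.finrank_le W
  omega

end Fin

theorem top_equiv (Q : QuadraticForm F V) : (res Q (⊤ : Submodule F V)).Equivalent Q :=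
  ⟨{ LinearEquiv.ofTop ⊤ rfl with map_app' := fun _ => rfl }⟩

/-! ### Types -/

theorem Plus.congr {Q' : QuadraticForm F V'} (h : Plus Q) (e : Q.Equivalent Q') : Plus Q' := by
  obtain ⟨U, hU, hd⟩ := h
  obtain ⟨e⟩ := e
  refine ⟨U.map e.toLinearEquiv.toLinearMap, ?_, ?_⟩
  · rintro _ ⟨u, hu, rfl⟩
    exact (e.map_app u).trans (hU u hu)
  · rw [LinearEquiv.finrank_map_eq, hd, e.toLinearEquiv.finrank_eq]

theorem plus_congr {Q' : QuadraticForm F V'} (e : Q.Equivalent Q') : Plus Q ↔ Plus Q' :=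
  ⟨fun h => h.congr e, fun h => h.congr e.symm⟩

theorem plus_res_iff : Plus (res Q W) ↔
    ∃ U, U ≤ W ∧ Sing Q U ∧ 2 * finrank F U = finrank F W := by
  constructor
  · rintro ⟨U, hU, hd⟩
    refine ⟨U.map W.subtype, Submodule.map_subtype_le W U, ?_, ?_⟩
    · rintro _ ⟨u, hu, rfl⟩
      exact hU u hu
    · rw [(Submodule.equivMapOfInjective W.subtype Subtype.val_injective U).finrank_eq.symm, hd]
  · rintro ⟨U, hUW, hU, hd⟩
    refine ⟨U.comap W.subtype, fun u hu => hU u hu, ?_⟩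
    rw [(Submodule.comapSubtypeEquivOfLe hUW).finrank_eq, hd]

theorem plus_qPlus (m : ℕ) : Plus (qPlus (F := F) m) := by
  let e : (Fin m → F) →ₗ[F] (Fin m ⊕ Fin m → F) :=
    (LinearEquiv.sumArrowLequivProdArrow (Fin m) (Fin m) F F).symm.toLinearMap.comp
      (LinearMap.inl F (Fin m → F) (Fin m → F))
  have he : ∀ z i, e z (.inr i) = 0 := fun z i => rfl
  refine ⟨LinearMap.range e, ?_, ?_⟩
  · rintro _ ⟨z, rfl⟩
    simp [qPlus_apply, he]
  · rw [LinearMap.finrank_range_of_inj fun a b h => funext fun i => congrFun h (.inl i)]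
    simp [two_mul]

variable [Finite F]

theorem exists_aniso : ∃ a b : F, ∀ z₁ z₂ : F, z₁ ^ 2 + a * z₁ * z₂ + b * z₂ ^ 2 = 0 → z₁ = 0 ∧ z₂ = 0 := by
  have hns : ¬ Function.Surjective (fun x : F => x ^ 2 + x) := fun h => by
    have := (Finite.injective_iff_surjective.mpr h) (a₁ := 0) (a₂ := -1) (by simp)
    simp at this
  simp only [Function.Surjective, not_forall, not_exists] at hns
  obtain ⟨c, hc⟩ := hns
  refine ⟨1, -c, fun z₁ z₂ h => ?_⟩
  by_cases h2 : z₂ = 0
  · subst h2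
    exact ⟨by simpa using h, rfl⟩
  · exfalso
    apply hc (z₁ / z₂)
    field_simp
    linear_combination h

theorem not_plus_minus [FiniteDimensional F V] {m : ℕ} {a b : F}
    (hab : ∀ z₁ z₂ : F, z₁ ^ 2 + a * z₁ * z₂ + b * z₂ ^ 2 = 0 → z₁ = 0 ∧ z₂ = 0)
    (h : Q.Equivalent ((qPlus m).prod (qBin a b))) : ¬ Plus Q := by
  intro hP
  obtain ⟨U, hU, hd⟩ := hP.congr h
  have := witt_index_le (qBin_nondeg hab) (qBin_anisotropic hab) m U hU
  rw [finrank_plus_prod, finrank_fintype_fun_eq_card, Fintype.card_fin] at hd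
  omega

/-- Two models in even dimension. -/
theorem even_cases [FiniteDimensional F V] (hQ : Nondeg Q) {j : ℕ} (hj : finrank F V = 2 * j) :
    (Plus Q ∧ Q.Equivalent (qPlus j)) ∨
    (¬ Plus Q ∧ ∃ (k : ℕ) (a b : F), j = k + 1 ∧
      (∀ z₁ z₂ : F, z₁ ^ 2 + a * z₁ * z₂ + b * z₂ ^ 2 = 0 → z₁ = 0 ∧ z₂ = 0) ∧
      Q.Equivalent ((qPlus k).prod (qBin a b))) := by
  rcases classify Q hQ with ⟨m, hm, h⟩ | ⟨m, c, -, -, hm, -⟩ | ⟨m, a, b, hab, hm, h⟩
  · obtain rfl : m = j := by omega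
    exact Or.inl ⟨(plus_qPlus _).congr h.symm, h⟩
  · omega
  · exact Or.inr ⟨not_plus_minus hab h, m, a, b, by omega, hab, h⟩

/-- The level count of a nonzero value. -/
theorem level_even [FiniteDimensional F V] (hQ : Nondeg Q) {j : ℕ} (hj : finrank F V = 2 * j)
    {c : F} (hc : c ≠ 0) :
    (Plus Q ∧ (levelCard Q c : ℤ) * Nat.card F = (Nat.card F : ℤ) ^ (2 * j) - (Nat.card F : ℤ) ^ j) ∨
    (¬ Plus Q ∧ 1 ≤ j ∧
      (levelCard Q c : ℤ) * Nat.card F = (Nat.card F : ℤ) ^ (2 * j) + (Nat.card F : ℤ) ^ j) := by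
  rcases even_cases hQ hj with ⟨hP, h⟩ | ⟨hP, k, a, b, rfl, hab, h⟩
  · refine Or.inl ⟨hP, ?_⟩
    rw [levelCard, card_level_congr h, ← levelCard, levelCard_qPlus _ hc]
    have h1 : 1 ≤ Nat.card F ^ j := Nat.one_le_pow _ _ Nat.card_pos
    rcases j with _ | j
    · simp
    · push_cast [h1, Nat.add_sub_cancel]
      ring
  · refine Or.inr ⟨hP, by omega, ?_⟩
    rw [levelCard, card_level_congr (h.trans (qMinus_equiv k a b).symm), ← levelCard,
      levelCard_qMinus k hab hc]
    push_cast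
    ring

theorem levelCard_prod [Finite V] [Finite V'] [Fintype F] (Q : QuadraticForm F V)
    (Q' : QuadraticForm F V') (c : F) :
    levelCard (Q.prod Q') c = ∑ a, levelCard Q a * levelCard Q' (c - a) := by
  simp only [levelCard, ← Nat.card_prod]
  rw [← Nat.card_sigma]
  refine Nat.card_congr
    { toFun := fun p => ⟨Q p.1.1, ⟨p.1.1, rfl⟩, ⟨p.1.2, by
        have := p.2
        rw [QuadraticMap.prod_apply] at this
        exact eq_sub_of_add_eq' this⟩⟩
      invFun := fun s => ⟨(s.2.1.1, s.2.2.1), by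
        rw [QuadraticMap.prod_apply, s.2.1.2, s.2.2.2, add_sub_cancel]⟩
      left_inv := fun p => rfl
      right_inv := ?_ }
  rintro ⟨a, ⟨x, hx⟩, ⟨y, hy⟩⟩
  subst hx
  rfl

theorem sum_levelCard [Finite V] [Fintype F] (Q : QuadraticForm F V) :
    ∑ a, levelCard Q a = Nat.card V := by
  rw [← Nat.card_congr (Equiv.sigmaFiberEquiv Q), Nat.card_sigma]
  rfl

/-- The type is multiplicative on orthogonal sums. -/
theorem plus_prod [FiniteDimensional F V] [FiniteDimensional F V'] {Q' : QuadraticForm F V'}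
    (hQ : Nondeg Q) (hQ' : Nondeg Q') (he : Even (finrank F V)) (he' : Even (finrank F V')) :
    Plus (Q.prod Q') ↔ (Plus Q ↔ Plus Q') := by
  classical
  have := Fintype.ofFinite F
  have := Module.finite_of_finite F (M := V)
  have := Module.finite_of_finite F (M := V')
  obtain ⟨j, hj⟩ := he.two_dvd
  obtain ⟨j', hj'⟩ := he'.two_dvd
  have hd : finrank F (V × V') = 2 * (j + j') := by rw [finrank_prod]; omega
  have hN := prod_nondeg hQ hQ'
  set q : ℤ := (Nat.card F : ℤ) with hq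
  have hq2 : 2 ≤ q := by
    have : 2 ≤ Nat.card F := Finite.one_lt_card
    omega
  have hcV : (Nat.card V : ℤ) = q ^ (2 * j) := by
    rw [Module.natCard_eq_pow_finrank (K := F), hj, Nat.cast_pow]
  have hcV' : (Nat.card V' : ℤ) = q ^ (2 * j') := by
    rw [Module.natCard_eq_pow_finrank (K := F), hj', Nat.cast_pow]
  set N := (levelCard Q 1 : ℤ)
  set N' := (levelCard Q' 1 : ℤ)
  have hconst : ∀ (c : F), c ≠ 0 → (levelCard Q c : ℤ) = N := fun c hc => by
    refine mul_right_cancel₀ (show q ≠ 0 by omega) ?_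
    rcases level_even hQ hj hc with ⟨h1, h2⟩ | ⟨h1, -, h2⟩ <;>
      rcases level_even hQ hj (one_ne_zero (α := F)) with ⟨h3, h4⟩ | ⟨h3, -, h4⟩ <;>
        first | exact absurd h1 h3 | exact absurd h3 h1 | rw [h2, h4]
  have hconst' : ∀ (c : F), c ≠ 0 → (levelCard Q' c : ℤ) = N' := fun c hc => by
    refine mul_right_cancel₀ (show q ≠ 0 by omega) ?_
    rcases level_even hQ' hj' hc with ⟨h1, h2⟩ | ⟨h1, -, h2⟩ <;>
      rcases level_even hQ' hj' (one_ne_zero (α := F)) with ⟨h3, h4⟩ | ⟨h3, -, h4⟩ <;>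
        first | exact absurd h1 h3 | exact absurd h3 h1 | rw [h2, h4]
  have hz : (levelCard Q 0 : ℤ) = q ^ (2 * j) - (q - 1) * N := by
    rw [← hcV, ← sum_levelCard Q, Nat.cast_sum, ← Finset.add_sum_erase _ _ (Finset.mem_univ (0 : F)),
      Finset.sum_congr rfl fun a ha => hconst a (Finset.ne_of_mem_erase ha), Finset.sum_const,
      Finset.card_erase_of_mem (Finset.mem_univ _), Finset.card_univ, nsmul_eq_mul, hq,
      Nat.card_eq_fintype_card, Nat.cast_sub Fintype.card_pos]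
    ring
  have hz' : (levelCard Q' 0 : ℤ) = q ^ (2 * j') - (q - 1) * N' := by
    rw [← hcV', ← sum_levelCard Q', Nat.cast_sum, ← Finset.add_sum_erase _ _ (Finset.mem_univ (0 : F)),
      Finset.sum_congr rfl fun a ha => hconst' a (Finset.ne_of_mem_erase ha), Finset.sum_const,
      Finset.card_erase_of_mem (Finset.mem_univ _), Finset.card_univ, nsmul_eq_mul, hq,
      Nat.card_eq_fintype_card, Nat.cast_sub Fintype.card_pos]
    ring
  have hmix : (levelCard (Q.prod Q') 1 : ℤ) = q ^ (2 * j) * N' + q ^ (2 * j') * N - q * N * N' := by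
    have hrest : ∀ a ∈ (Finset.univ.erase (0 : F)).erase 1,
        ((levelCard Q a * levelCard Q' (1 - a) : ℕ) : ℤ) = N * N' := fun a ha => by
      rw [Finset.mem_erase, Finset.mem_erase] at ha
      rw [Nat.cast_mul, hconst a ha.2.1, hconst' (1 - a) (sub_ne_zero.mpr (Ne.symm ha.1))]
    rw [levelCard_prod, Nat.cast_sum, ← Finset.add_sum_erase _ _ (Finset.mem_univ (0 : F)),
      ← Finset.add_sum_erase _ _ (Finset.mem_erase.mpr ⟨one_ne_zero, Finset.mem_univ (1 : F)⟩),
      Finset.sum_congr rfl hrest, Finset.sum_const, Finset.card_erase_of_mem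
        (Finset.mem_erase.mpr ⟨one_ne_zero, Finset.mem_univ (1 : F)⟩),
      Finset.card_erase_of_mem (Finset.mem_univ _), Finset.card_univ, nsmul_eq_mul, sub_zero,
      sub_self, Nat.cast_mul, Nat.cast_mul, hz, hz']
    have h2 : 2 ≤ Fintype.card F := Fintype.one_lt_card
    rw [show Fintype.card F - 1 - 1 = Fintype.card F - 2 by omega, Nat.cast_sub h2, hq,
      Nat.card_eq_fintype_card]
    push_cast
    ring
  have key : ∀ {P : Prop}, ∀ {A : ℤ} {k : ℕ},
      ((P ∧ A = q ^ (2 * k) - q ^ k) ∨ (¬ P ∧ 1 ≤ k ∧ A = q ^ (2 * k) + q ^ k)) →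
      ∃ e : ℤ, (e = 1 ∨ e = -1) ∧ (P ↔ e = 1) ∧ q ^ (2 * k) - A = e * q ^ k := by
    rintro P A k (⟨hP, rfl⟩ | ⟨hP, -, rfl⟩)
    · exact ⟨1, Or.inl rfl, iff_of_true hP rfl, by ring⟩
    · exact ⟨-1, Or.inr rfl, iff_of_false hP (by decide), by ring⟩
  obtain ⟨e₁, he₁, hP₁, h₁⟩ := key (level_even hQ hj (one_ne_zero (α := F)))
  obtain ⟨e₂, he₂, hP₂, h₂⟩ := key (level_even hQ' hj' (one_ne_zero (α := F)))
  obtain ⟨e, he, hP, h⟩ := key (level_even hN hd (one_ne_zero (α := F)))
  have hprod : e * q ^ (j + j') = e₁ * e₂ * q ^ (j + j') := by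
    rw [← h, hmix, show e₁ * e₂ * q ^ (j + j') = (e₁ * q ^ j) * (e₂ * q ^ j') by ring, ← h₁, ← h₂]
    ring
  have heq := mul_right_cancel₀ (pow_ne_zero _ (show q ≠ 0 by omega)) hprod
  rw [hP, hP₁, hP₂, heq]
  rcases he₁ with rfl | rfl <;> rcases he₂ with rfl | rfl <;> decide

theorem plus_sup [FiniteDimensional F V] (hA : NDeg Q A) (hB : NDeg Q B) (hAB : B ≤ perp Q A)
    (ha : Even (finrank F A)) (hb : Even (finrank F B)) :
    Plus (res Q (A ⊔ B)) ↔ (Plus (res Q A) ↔ Plus (res Q B)) := by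
  rw [← plus_congr (sup_equiv hA hAB), plus_prod hA hB ha hb]

theorem plus_split [FiniteDimensional F V] (hQ : Nondeg Q) (hW : NDeg Q W)
    (hw : Even (finrank F W)) (hV : Even (finrank F V)) :
    Plus Q ↔ (Plus (res Q W) ↔ Plus (res Q (perp Q W))) := by
  obtain ⟨hP, hsup, hd⟩ := split_top hQ hW
  have hp : Even (finrank F (perp Q W)) := (Nat.even_add.mp (hd ▸ hV)).mp hw
  rw [← plus_sup hW hP le_rfl hw hp, hsup, plus_congr (top_equiv Q)]

/-! ### Embeddings -/

/-- An isometric linear map exists. -/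
def Embeds (R : QuadraticForm F V') (Q : QuadraticForm F V) : Prop :=
  ∃ ι : V' →ₗ[F] V, ∀ x, Q (ι x) = R x

omit [Finite F] in
theorem Embeds.congr_left {V'' : Type*} [AddCommGroup V''] [Module F V''] {R : QuadraticForm F V'}
    {R' : QuadraticForm F V''} (h : Embeds R Q) (e : R'.Equivalent R) : Embeds R' Q := by
  obtain ⟨ι, hι⟩ := h
  obtain ⟨e⟩ := e
  exact ⟨ι ∘ₗ e.toLinearEquiv.toLinearMap, fun x => (hι _).trans (e.map_app x)⟩

omit [Finite F] in
theorem Embeds.of_equiv {R : QuadraticForm F V'} (e : R.Equivalent Q) : Embeds R Q := by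
  obtain ⟨e⟩ := e
  exact ⟨e.toLinearEquiv.toLinearMap, e.map_app⟩

omit [Finite F] in
theorem embeds_qBin {a b : F} {v w : V} (hv : Q v = 1) (hvw : polar Q v w = a) (hw : Q w = b) :
    Embeds (qBin a b) Q := by
  refine ⟨(LinearMap.proj 0).smulRight v + (LinearMap.proj 1).smulRight w, fun z => ?_⟩
  rw [LinearMap.add_apply, LinearMap.smulRight_apply, LinearMap.smulRight_apply, Q_comb, hv, hvw,
    hw, qBin_apply]
  simp only [LinearMap.proj_apply]
  ring

theorem exists_pair_of_three [FiniteDimensional F V] (hQ : Nondeg Q) (hn : 3 ≤ finrank F V)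
    (a b : F) : ∃ v w, Q v = 1 ∧ polar Q v w = a ∧ Q w = b := by
  by_cases h4 : 4 ≤ finrank F V
  · obtain ⟨e, he, he0⟩ : ∃ e, Q e = 0 ∧ e ≠ 0 := by
      by_contra hc
      push Not at hc
      have := anisotropic_finrank_le_two hQ hc
      omega
    obtain ⟨f, hp⟩ := exists_hypPair hQ he0 he
    obtain ⟨u, hu⟩ := exists_Q_eq (hp.nondeg_core hQ) (by have := hp.finrank_core; omega) b
    have huc := mem_core.mp u.2
    rw [res_apply] at hu
    refine ⟨(1 : F) • e + (1 : F) • f, a • e + (1 : F) • (u : V), ?_, ?_, ?_⟩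
    · rw [Q_comb, hp.left, hp.right, hp.pol]; ring
    · simp only [one_smul, polar_add_left, polar_add_right, polar_smul_right, hp.pol_ee, hp.pol',
        huc.1, huc.2, smul_eq_mul]
      ring
    · rw [Q_comb, hp.left, hu, huc.1]; ring
  · have h2 : (2 : F) ≠ 0 := by
      intro h2
      rcases classify Q hQ with ⟨m, hm, -⟩ | ⟨m, c, -, h2', -, -⟩ | ⟨m, a', b', -, hm, -⟩
      · omega
      · exact h2' h2
      · omega
    obtain ⟨v, hv⟩ := exists_Q_eq hQ (by omega) 1
    have hv0 : v ≠ 0 := fun h => by simp [h] at hv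
    have hvn : NDeg Q (Submodule.span F {v}) := nDeg_iff.mpr fun x hx h => by
      obtain ⟨t, rfl⟩ := Submodule.mem_span_singleton.mp hx
      have h1 := h v (Submodule.mem_span_singleton_self v)
      rw [polar_smul_left, smul_eq_mul, polar_self', hv, mul_one] at h1
      rw [(mul_eq_zero.mp h1).resolve_right h2, zero_smul]
    obtain ⟨hP, -, hd⟩ := split_top hQ hvn
    rw [finrank_span_singleton hv0] at hd
    obtain ⟨u, hu⟩ := exists_Q_eq hP (by omega) (b - a ^ 2 / 4)
    rw [res_apply] at hu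
    have hvu : polar Q v u = 0 := mem_perp.mp u.2 v (Submodule.mem_span_singleton_self v)
    have h4' : (4 : F) ≠ 0 := by
      rw [show (4 : F) = 2 * 2 by norm_num]; exact mul_ne_zero h2 h2
    refine ⟨v, (a / 2) • v + (1 : F) • (u : V), hv, ?_, ?_⟩
    · simp only [one_smul, polar_add_right, polar_smul_right, polar_self', hv, hvu, smul_eq_mul]
      field_simp
      ring
    · rw [Q_comb, hv, hu, hvu]
      field_simp
      ring

omit [Finite F] in
theorem Embeds.hyp_step {R : QuadraticForm F V'} {e f : V} (hp : HypPair Q e f) {j : ℕ}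
    (h : Embeds ((qPlus j).prod R) (res Q (core Q e f))) : Embeds ((qPlus (j + 1)).prod R) Q := by
  obtain ⟨ι, hι⟩ := h
  obtain ⟨E⟩ := hypPair_equivalent hp
  refine (Embeds.congr_left (R := qHyp.prod ((qPlus (F := F) j).prod R)) ?_ ⟨qPlusProdSucc j R⟩)
  refine ⟨E.symm.toLinearEquiv.toLinearMap ∘ₗ LinearMap.prodMap LinearMap.id ι, fun x => ?_⟩
  refine (E.symm.map_app (x.1, ι x.2)).trans ?_
  show qHyp x.1 + res Q (core Q e f) (ι x.2) = _
  rw [hι]
  rfl

theorem embeds_plus_prod [FiniteDimensional F V] [FiniteDimensional F V'] {R : QuadraticForm F V'}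
    (hR : ∀ U : Submodule F V, NDeg Q U → finrank F V' < finrank F U → Embeds R (res Q U)) :
    ∀ (j : ℕ) (U : Submodule F V), NDeg Q U → 2 * j + finrank F V' < finrank F U →
      Embeds ((qPlus j).prod R) (res Q U) := by
  intro j
  induction j with
  | zero =>
    intro U hU hlt
    obtain ⟨ι, hι⟩ := hR U hU (by omega)
    exact ⟨ι ∘ₗ LinearMap.snd F _ _, fun x => by
      show res Q U (ι x.2) = _
      rw [hι, QuadraticMap.prod_apply, qPlus_apply]; simp⟩
  | succ j ih =>
    intro U hU hlt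
    obtain ⟨e, he, he0⟩ : ∃ e, res Q U e = 0 ∧ e ≠ 0 := by
      by_contra hc
      push Not at hc
      have := anisotropic_finrank_le_two hU hc
      omega
    obtain ⟨f, hp⟩ := exists_hypPair hU he0 he
    let C := (core (res Q U) e f).map U.subtype
    let eC : core (res Q U) e f ≃ₗ[F] C :=
      Submodule.equivMapOfInjective U.subtype Subtype.val_injective _
    have iC : (res (res Q U) (core (res Q U) e f)).Equivalent (res Q C) :=
      ⟨{ eC with map_app' := fun _ => rfl }⟩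
    have hCn : NDeg Q C := iC.elim fun i => (hp.nondeg_core hU).of_equiv i
    have hCd : finrank F C + 2 = finrank F U := by
      rw [← eC.finrank_eq, hp.finrank_core]
    obtain ⟨ι, hι⟩ := ih C hCn (by omega)
    obtain ⟨i⟩ := iC
    exact Embeds.hyp_step hp ⟨i.symm.toLinearEquiv.toLinearMap ∘ₗ ι, fun x =>
      (i.symm.map_app (ι x)).trans (hι x)⟩

theorem qBin_unique [FiniteDimensional F V] {a b : F} (hQ : Nondeg Q) (hV : finrank F V = 2)
    (hP : ¬ Plus Q)
    (hab : ∀ z₁ z₂ : F, z₁ ^ 2 + a * z₁ * z₂ + b * z₂ ^ 2 = 0 → z₁ = 0 ∧ z₂ = 0) :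
    (qBin a b).Equivalent Q := by
  have hneg : Nondeg ((-1 : F) • Q) := hQ.smul (neg_ne_zero.mpr one_ne_zero)
  have hnP : ¬ Plus ((-1 : F) • Q) := fun ⟨U, hU, hd⟩ => hP ⟨U, fun u hu => by simpa using hU u hu, hd⟩
  have hBP : ¬ Plus (qBin a b) := fun ⟨U, hU, hd⟩ => by
    have h1 : U = ⊥ := (Submodule.eq_bot_iff U).mpr fun u hu => qBin_anisotropic hab u (hU u hu)
    rw [h1, finrank_bot] at hd
    simp at hd
  obtain ⟨U, hU, hd⟩ := (plus_prod (qBin_nondeg hab) hneg (by simp) (by rw [hV]; exact even_two)).mpr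
    (iff_of_false hBP hnP)
  rw [finrank_prod, hV, finrank_fintype_fun_eq_card, Fintype.card_fin] at hd
  have hAQ : Q.Anisotropic := fun x hx => by
    by_contra hx0
    exact hP ⟨Submodule.span F {x}, fun u hu => by
      obtain ⟨t, rfl⟩ := Submodule.mem_span_singleton.mp hu
      rw [Q_smul, hx, mul_zero], by rw [finrank_span_singleton hx0, hV]⟩
  have hinj : Function.Injective ((LinearMap.fst F (Fin 2 → F) V) ∘ₗ U.subtype) := by
    rw [injective_iff_map_eq_zero]
    intro u hu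
    have h1 := hU _ u.2
    have hu1 : (u : (Fin 2 → F) × V).1 = 0 := hu
    rw [QuadraticMap.prod_apply, hu1, QuadraticMap.map_zero, zero_add] at h1
    exact Subtype.ext (Prod.ext hu1 (hAQ _ (by simpa using h1)))
  let e := LinearEquiv.ofInjectiveOfFinrankEq _ hinj (by
    rw [finrank_fintype_fun_eq_card, Fintype.card_fin]; omega)
  let φ : (Fin 2 → F) →ₗ[F] V := LinearMap.snd F _ _ ∘ₗ U.subtype ∘ₗ e.symm.toLinearMap
  have hφ : ∀ z, Q (φ z) = qBin a b z := fun z => by
    have h1 := hU _ (e.symm z).2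
    have h2 : ((e.symm z : U) : (Fin 2 → F) × V).1 = z := e.apply_symm_apply z
    rw [QuadraticMap.prod_apply, h2, QuadraticMap.smul_apply, neg_one_smul] at h1
    exact (eq_of_sub_eq_zero (by rw [sub_eq_add_neg]; exact h1)).symm
  exact ⟨{ LinearEquiv.ofInjectiveOfFinrankEq φ (injective_of_isometry (qBin_nondeg hab) φ hφ)
    (by rw [hV, finrank_fintype_fun_eq_card, Fintype.card_fin]) with map_app' := hφ }⟩

/-- Forms of the same even dimension and type are equivalent. -/
theorem equiv_of_plus [FiniteDimensional F V] [FiniteDimensional F V'] {R : QuadraticForm F V'}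
    (hQ : Nondeg Q) (hR : Nondeg R) {j : ℕ} (hV : finrank F V = 2 * j) (hV' : finrank F V' = 2 * j)
    (hP : Plus R ↔ Plus Q) : R.Equivalent Q := by
  rcases even_cases hQ hV with ⟨h1, hq⟩ | ⟨h1, k, a, b, rfl, hab, hq⟩ <;>
    rcases even_cases hR hV' with ⟨h2, hr⟩ | ⟨h2, k', a', b', hk', hab', hr⟩
  · exact hr.trans hq.symm
  · exact absurd (hP.mpr h1) h2
  · exact absurd (hP.mp h2) h1
  · obtain rfl : k' = k := by omega
    refine hr.trans (((Equivalent.refl _).prod
      (qBin_unique (qBin_nondeg hab) (by simp) ?_ hab')).trans hq.symm)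
    rintro ⟨U, hU, hd⟩
    have hb : U = ⊥ := (Submodule.eq_bot_iff U).mpr fun u hu => qBin_anisotropic hab u (hU u hu)
    rw [hb, finrank_bot] at hd
    simp at hd

/-- Embedding of smaller spaces. -/
theorem embeds_of_lt [FiniteDimensional F V] [FiniteDimensional F V'] {R : QuadraticForm F V'}
    (hR : Nondeg R) {U : Submodule F V} (hU : NDeg Q U) (h : finrank F V' < finrank F U) :
    Embeds R (res Q U) := by
  rcases classify R hR with ⟨m, hm, he⟩ | ⟨m, c, -, -, hm, he⟩ | ⟨m, a, b, hab, hm, he⟩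
  · refine Embeds.congr_left ?_ (he.trans (qPlus_equiv_prod m))
    exact embeds_plus_prod (fun _ _ _ => ⟨0, fun x => by simp⟩) m U hU (by simp; omega)
  · refine Embeds.congr_left ?_ he
    refine embeds_plus_prod (fun U' hU' h' => ?_) m U hU (by rw [finrank_self]; omega)
    rw [finrank_self] at h'
    obtain ⟨v, hv⟩ := exists_Q_eq hU' h' c
    exact ⟨LinearMap.id.smulRight v, fun x => by
      rw [LinearMap.smulRight_apply, Q_smul, hv, qOne_apply, LinearMap.id_apply]; ring⟩
  · refine Embeds.congr_left ?_ he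
    refine embeds_plus_prod (fun U' hU' h' => ?_) m U hU (by simp; omega)
    rw [finrank_fintype_fun_eq_card, Fintype.card_fin] at h'
    obtain ⟨v, w, hv, hvw, hw⟩ := exists_pair_of_three hU' h' a b
    exact embeds_qBin hv hvw hw

theorem embeds_of_eq [FiniteDimensional F V] [FiniteDimensional F V'] {R : QuadraticForm F V'}
    (hR : Nondeg R) {U : Submodule F V} (hU : NDeg Q U) (h : finrank F V' = finrank F U)
    (he : Even (finrank F U)) (hP : Plus R ↔ Plus (res Q U)) : Embeds R (res Q U) := by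
  obtain ⟨j, hj⟩ := he.two_dvd
  exact Embeds.of_equiv (equiv_of_plus hU hR hj (h.trans hj) hP)

omit [Finite F] in
/-- The image of an embedding. -/
theorem Embeds.image [FiniteDimensional F V] {R : QuadraticForm F V'} {U : Submodule F V}
    (hR : Nondeg R) (h : Embeds R (res Q U)) :
    ∃ W, W ≤ U ∧ NDeg Q W ∧ R.Equivalent (res Q W) ∧ finrank F W = finrank F V' := by
  obtain ⟨ι, hι⟩ := h
  let φ : V' →ₗ[F] V := U.subtype ∘ₗ ι
  have hφ : ∀ x, Q (φ x) = R x := hι
  have hinj := injective_of_isometry hR φ hφ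
  let e := LinearEquiv.ofInjective φ hinj
  let E : R.IsometryEquiv (res Q (LinearMap.range φ)) := { e with map_app' := hφ }
  refine ⟨LinearMap.range φ, ?_, hR.of_equiv E, ⟨E⟩, e.finrank_eq.symm⟩
  rintro _ ⟨x, rfl⟩
  exact (ι x).2

end Cfsg.Agent.Lib.K41.Der
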