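import Cfsg.Agent.Lib.K41.Der.Unip
import Cfsg.Agent.Lib.K41.Der.Invol

/-!
An element of order `p` with one block of size three, one fixed vector of a given value and blocks of
size two: its invariant nondegenerate subspaces of dimension congruent to one modulo four form one class.
-/

set_option autoImplicit false

namespace Cfsg.Agent.Lib.K41.Der

open Module QuadraticMap Cfsg.Agent.Lib.Forms Cfsg.Agent.Lib.JordanType Cfsg.Agent.Lib.Elusive
open Cfsg.Agent.Lib.Elusive.UnipotentType (parts)

variable {F : Type*} [Field F] [Finite F] {V : Type*} [AddCommGroup V] [Module F V] [FiniteDimensional F V]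
variable {Q : QuadraticForm F V} {N : Module.End F V} {c : F} {u : V}

/-- Invariant nondegenerate odd dimensional subspaces on which `N` has square zero. -/
theorem square_zero_class (h2 : (2 : F) ≠ 0) (hiso : ∀ x, Q (x + N x) = Q x) (hu : Q u = c)
    (hNu : N u = 0) (huN : ∀ z, polar Q u (N z) = 0)
    (hker : ∀ v, N v = 0 → ∃ (t : F) (z : V), v = t • u + N z)
    {X : Submodule F V} (hX : ∀ x ∈ X, N x ∈ X) (hXn : NDeg Q X) (hsq : ∀ x ∈ X, N (N x) = 0) {k : ℕ}
    (hd : finrank F X = 2 * k + 1) :
    Even k ∧ (res Q X).Equivalent ((qPlus k).prod (qOne c)) := by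
  classical
  have hpol : ∀ x y, polar Q (x + N x) (y + N y) = polar Q x y := fun x y =>
    polar_map (LinearMap.id + N) hiso x y
  have hpf : ∀ z w, N w = 0 → polar Q (N z) w = 0 := fun z w hw => by
    have h1 := hpol z w
    rwa [hw, add_zero, polar_add_left, add_eq_left] at h1
  have hval : ∀ (t : F) (z : V), N (t • u + N z) = 0 → Q (t • u + N z) = t * t * c := fun t z hz => by
    rw [map_add, map_smul, hNu, smul_zero, zero_add] at hz
    have h0 : polar Q (N z) (N z) = 0 := hpf z _ hz
    rw [polar_self'] at h0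
    rw [Q_add, Q_smul, hu, (mul_eq_zero.mp h0).resolve_left h2, polar_smul_left, huN, smul_zero, add_zero, add_zero]
  -- kernel and image on an invariant subspace
  have hdim : ∀ Z : Submodule F V, Z ≤ X → (∀ x ∈ Z, N x ∈ Z) →
      finrank F Z ≤ 2 * finrank F ↥(Z ⊓ LinearMap.ker N) := fun Z hZX hZ => by
    have h1 := LinearMap.finrank_range_add_finrank_ker (N.domRestrict Z)
    have h3 : LinearMap.range (N.domRestrict Z) ≤ Z ⊓ LinearMap.ker N := by
      rintro _ ⟨⟨x, hx⟩, rfl⟩
      exact ⟨hZ x hx, hsq x (hZX hx)⟩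
    have h4 : finrank F (LinearMap.ker (N.domRestrict Z)) = finrank F ↥(Z ⊓ LinearMap.ker N) := by
      rw [LinearMap.ker_domRestrict, ← Submodule.finrank_map_subtype_eq, Submodule.map_comap_eq,
        Submodule.range_subtype]
    have h5 := Submodule.finrank_mono h3
    omega
  obtain ⟨v, hv, hv0⟩ : ∃ v ∈ X ⊓ LinearMap.ker N, Q v ≠ 0 := by
    by_contra hc
    push Not at hc
    have h1 := sing_le_finrank' hXn (inf_le_left : X ⊓ LinearMap.ker N ≤ X) hc
    have h3 := hdim X le_rfl hX
    omega
  obtain ⟨t, z, rfl⟩ := hker v (LinearMap.mem_ker.mp hv.2)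
  have hQv : Q (t • u + N z) = t * t * c := hval t z (LinearMap.mem_ker.mp hv.2)
  rw [hQv] at hv0
  have ht : t ≠ 0 := fun h0 => hv0 (by rw [h0, zero_mul, zero_mul])
  have hc0 : c ≠ 0 := fun h0 => hv0 (by rw [h0, mul_zero])
  set v := t • u + N z with hvdef
  obtain ⟨hL, hL1⟩ := nDeg_line h2 (hQv ▸ hv0 : Q v ≠ 0)
  have hLX : Submodule.span F {v} ≤ X := (Submodule.span_singleton_le_iff_mem v X).mpr hv.1
  obtain ⟨hZn, hsup, hd'⟩ := split hL hXn hLX
  set Z := X ⊓ perp Q (Submodule.span F {v}) with hZdef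
  have hZ : ∀ x ∈ Z, N x ∈ Z := fun x hx => by
    refine ⟨hX x hx.1, mem_perp.mpr fun w hw => ?_⟩
    obtain ⟨s, rfl⟩ := Submodule.mem_span_singleton.mp hw
    have h1 := hpol v x
    rw [LinearMap.mem_ker.mp hv.2, add_zero, polar_add_right, add_eq_left] at h1
    rw [polar_smul_left, h1, smul_zero]
  have hKs : Sing Q (Z ⊓ LinearMap.ker N) := fun w hw => by
    obtain ⟨t', z', rfl⟩ := hker w (LinearMap.mem_ker.mp hw.2)
    rw [hval t' z' (LinearMap.mem_ker.mp hw.2)]
    have h1 := mem_perp.mp hw.1.2 v (Submodule.mem_span_singleton_self v)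
    have hz' : N (N z') = 0 := by
      have h3 := LinearMap.mem_ker.mp hw.2
      rwa [map_add, map_smul, hNu, smul_zero, zero_add] at h3
    simp only [hvdef, polar_add_left, polar_add_right, polar_smul_left, polar_smul_right, smul_eq_mul,
      polar_self', hu, huN, polar_comm Q (N z) u, hpf z _ hz', mul_zero, add_zero] at h1
    rcases mul_eq_zero.mp h1 with h3 | h3
    · rw [h3, zero_mul, zero_mul]
    · exact absurd h3 (mul_ne_zero ht (mul_ne_zero h2 hc0))
  have hle := sing_le_finrank' hZn inf_le_left hKs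
  have hge := hdim Z inf_le_left hZ
  have hk2 : finrank F Z = 2 * k := by omega
  have hPZ : Plus (res Q Z) := plus_res_iff.mpr ⟨_, inf_le_left, hKs, by omega⟩
  refine ⟨?_, ?_⟩
  · -- the parts of `Z` are all twos, and come in pairs
    have hnil : IsNilpotent (N.restrict hZ) := ⟨2, LinearMap.ext fun x => Subtype.ext (by
      rw [_root_.sq, Module.End.mul_apply]
      exact hsq x x.2.1)⟩
    obtain ⟨s, e, he1, ⟨C⟩⟩ := exists_coords (N.restrict hZ) hnil
    have hsum := C.sum_eq_finrank
    have he2 : ∀ a, e a ≤ 2 := (C.pow_eq_zero_iff (j := 2)).mp (LinearMap.ext fun x => Subtype.ext (by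
      rw [_root_.sq, Module.End.mul_apply]
      exact hsq x x.2.1))
    have hcard := C.finrank_ker_pow 1
    rw [pow_one] at hcard
    have hker' : finrank F (LinearMap.ker (N.restrict hZ)) = finrank F ↥(Z ⊓ LinearMap.ker N) := by
      rw [← Submodule.finrank_map_subtype_eq]
      suffices h : (LinearMap.ker (N.restrict hZ)).map Z.subtype = Z ⊓ LinearMap.ker N by rw [h]
      ext x
      exact ⟨fun ⟨y, hy, hyx⟩ => hyx ▸ ⟨y.2, congrArg Subtype.val (LinearMap.mem_ker.mp hy)⟩,
        fun hx => ⟨⟨x, hx.1⟩, LinearMap.mem_ker.mpr (Subtype.ext (LinearMap.mem_ker.mp hx.2)), rfl⟩⟩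
    rw [hker'] at hcard
    simp only [fun a => min_eq_right (he1 a)] at hcard
    simp only [Finset.sum_const, Finset.card_univ, Fintype.card_fin, smul_eq_mul, mul_one] at hcard
    have hall : ∀ a ∈ Finset.univ, e a = 2 := (Finset.sum_eq_sum_iff_of_le fun a _ => he2 a).mp (by
      simp only [Finset.sum_const, Finset.card_univ, Fintype.card_fin, smul_eq_mul]
      omega)
    have hZb : (LinearMap.BilinForm.restrict (polarBilin Q) Z).Nondegenerate :=
      ⟨fun x hx => Subtype.ext (nDeg_iff.mp hZn x x.2 fun y hy => hx ⟨y, hy⟩),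
        fun x hx => Subtype.ext (nDeg_iff.mp hZn x x.2 fun y hy => by
          rw [polar_comm]; exact hx ⟨y, hy⟩)⟩
    have hev := even_count_of_symm hZb (fun x y => polar_comm Q (x : V) y) h2
      (fun x y => hpol (x : V) y) C even_two two_pos
    rw [Finset.filter_true_of_mem hall, Finset.card_univ, Fintype.card_fin] at hev
    rwa [show k = s by omega]
  · have h1 : (res Q Z).Equivalent (qPlus k) :=
      (equiv_of_plus (qPlus_nondeg k) hZn (by simp; omega) hk2 (iff_of_true hPZ (plus_qPlus k)))
    let L0 : F →ₗ[F] Submodule.span F {v} :=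
      LinearMap.id.smulRight (t⁻¹ • (⟨v, Submodule.mem_span_singleton_self v⟩ : Submodule.span F {v}))
    have hL0 : ∀ s, res Q _ (L0 s) = qOne c s := fun s => by
      show Q (s • t⁻¹ • v) = _
      rw [smul_smul, Q_smul, hQv, qOne_apply]
      field_simp
    have h3 : (qOne c).Equivalent (res Q (Submodule.span F {v})) :=
      ⟨{ LinearEquiv.ofInjectiveOfFinrankEq L0 (injective_of_isometry (qOne_nondeg hc0 h2) L0 hL0)
        (by rw [finrank_self, hL1]) with map_app' := hL0 }⟩
    have h4 := sup_equiv hL (inf_le_right : Z ≤ _)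
    rw [hsup] at h4
    refine h4.symm.trans ((h3.symm.prod h1).trans ?_)
    exact ⟨{ LinearEquiv.prodComm F F (Fin k ⊕ Fin k → F) with map_app' := fun x => add_comm _ _ }⟩
where
  sing_le_finrank' {W Y : Submodule F V} (hY : NDeg Q Y) (hWY : W ≤ Y) (hW : Sing Q W) :
      2 * finrank F W ≤ finrank F Y := by
    rw [← (Submodule.comapSubtypeEquivOfLe hWY).finrank_eq]
    exact sing_finrank_le hY fun w hw => hW w hw

/-- The element. -/
theorem exists_three_one (h2 : (2 : F) ≠ 0) (hQ : Nondeg Q) {d : ℕ} (hd : Even d) (hd2 : 2 ≤ d)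
    (hV : finrank F V = 2 * d) (hc : c ≠ 0) :
    ∃ N : Module.End F V, (∀ x, Q (x + N x) = Q x) ∧ (∀ x, N (N (N x)) = 0) ∧ N ≠ 0 ∧
      ∀ X : Submodule F V, (∀ x ∈ X, N x ∈ X) → NDeg Q X → finrank F X % 4 = 1 →
        (res Q X).Equivalent ((qPlus (finrank F X / 2)).prod (qOne c)) := by
  classical
  obtain ⟨u, hu⟩ := exists_Q_eq hQ (by omega) c
  obtain ⟨hL, hL1⟩ := nDeg_line h2 (hu ▸ hc : Q u ≠ 0)
  obtain ⟨hY, -, hdY⟩ := split_top hQ hL
  set Y := perp Q (Submodule.span F {u}) with hYdef
  have hYd : finrank F Y = 2 * d - 1 := by omega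
  obtain ⟨j, hj⟩ := hd.two_dvd
  obtain ⟨s, e, M, he1, hμ, ⟨C⟩, hMiso⟩ := Elusive19.OrthUnipotent.realise h2 hY
    (μ := 3 ::ₘ Multiset.replicate (2 * (j - 1)) 2) (fun a ha => by
      rcases Multiset.mem_cons.mp ha with rfl | ha
      · norm_num
      · rw [Multiset.eq_of_mem_replicate ha]; norm_num)
    ((Elusive19.OrthUnipotent.evenPaired_replicate (j - 1)).cons (by decide))
    (by rw [Multiset.sum_cons, Multiset.sum_replicate, smul_eq_mul, hYd]; omega)
    ⟨3, Multiset.mem_cons_self _ _, by decide⟩
  have he23 : ∀ k, 2 ≤ e k ∧ e k ≤ 3 := fun k => by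
    have hk : e k ∈ parts e := Multiset.mem_map_of_mem e (Finset.mem_univ k)
    rw [hμ] at hk
    rcases Multiset.mem_cons.mp hk with h | h
    · omega
    · have := Multiset.eq_of_mem_replicate h; omega
  have hM3 : M ^ 3 = 0 := C.pow_eq_zero_iff.mpr fun k => (he23 k).2
  -- the projection to the complement
  have hproj : ∀ v, v - (polar Q u v / (2 * c)) • u ∈ Y := fun v => mem_perp.mpr fun w hw => by
    obtain ⟨r, rfl⟩ := Submodule.mem_span_singleton.mp hw
    rw [polar_smul_left, polar_sub_right, polar_smul_right, polar_self', hu, smul_eq_mul, smul_eq_mul,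
      div_mul_cancel₀ _ (mul_ne_zero h2 hc), sub_self, mul_zero]
  let pr : V →ₗ[F] Y := LinearMap.codRestrict Y
    (LinearMap.id - ((2 * c)⁻¹ • polarBilin Q u).smulRight u) fun v => by
      have h1 := hproj v
      rw [div_eq_inv_mul] at h1
      exact h1
  have hpr : ∀ v, ((pr v : Y) : V) = v - (polar Q u v / (2 * c)) • u := fun v => by
    rw [div_eq_inv_mul]; rfl
  have huY : ∀ y : Y, polar Q u (y : V) = 0 := fun y => mem_perp.mp y.2 u (Submodule.mem_span_singleton_self u)
  have hprY : ∀ y : Y, pr (y : V) = y := fun y => Subtype.ext (by rw [hpr, huY, zero_div, zero_smul, sub_zero])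
  let N : Module.End F V := Y.subtype ∘ₗ M ∘ₗ pr
  have hN : ∀ v, N v = (M (pr v) : V) := fun v => rfl
  have hNY : ∀ y : Y, N (y : V) = (M y : V) := fun y => by rw [hN, hprY]
  have hiso : ∀ x, Q (x + N x) = Q x := fun x => by
    have hx : x = (polar Q u x / (2 * c)) • u + (pr x : V) := by rw [hpr]; abel
    have h1 : Q ((pr x : V) + (M (pr x) : V)) = Q (pr x : V) := hMiso (pr x)
    conv_lhs => rw [hx, add_assoc, Q_add, ← hx, hN, h1, polar_smul_left, polar_add_right, huY, huY, add_zero,
      smul_zero, add_zero]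
    conv_rhs => rw [hx, Q_add, polar_smul_left, huY, smul_zero, add_zero]
  have hNu : N u = 0 := by
    have h1 : pr u = 0 := Subtype.ext (by
      rw [hpr, polar_self', hu, div_self (mul_ne_zero h2 hc), one_smul, sub_self]; rfl)
    rw [hN, h1, map_zero]; rfl
  have huN : ∀ z, polar Q u (N z) = 0 := fun z => huY _
  have hrange : LinearMap.ker M ≤ LinearMap.range M := by
    have h1 := LinearMap.finrank_range_add_finrank_ker (M.domRestrict (LinearMap.ker (M ^ 2)))
    have h3 : LinearMap.range (M.domRestrict (LinearMap.ker (M ^ 2))) ≤ LinearMap.ker M := by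
      rintro _ ⟨⟨x, hx⟩, rfl⟩
      rw [LinearMap.mem_ker, _root_.sq, Module.End.mul_apply] at hx
      exact LinearMap.mem_ker.mpr hx
    have hle : LinearMap.ker M ≤ LinearMap.ker (M ^ 2) := fun x hx => by
      rw [LinearMap.mem_ker, _root_.sq, Module.End.mul_apply, LinearMap.mem_ker.mp hx, map_zero]
    have h4 : finrank F (LinearMap.ker (M.domRestrict (LinearMap.ker (M ^ 2)))) = finrank F (LinearMap.ker M) := by
      rw [LinearMap.ker_domRestrict, ← Submodule.finrank_map_subtype_eq, Submodule.map_comap_eq,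
        Submodule.range_subtype, inf_eq_right.mpr hle]
    have h5 := C.finrank_ker_pow 1
    have h6 := C.finrank_ker_pow 2
    rw [pow_one] at h5
    simp only [fun k => min_eq_right (show 1 ≤ e k from he1 k), fun k => min_eq_right (he23 k).1,
      Finset.sum_const, smul_eq_mul] at h5 h6
    have h7 : LinearMap.range (M.domRestrict (LinearMap.ker (M ^ 2))) = LinearMap.ker M :=
      Submodule.eq_of_le_of_finrank_le h3 (by omega)
    rw [← h7]
    rintro _ ⟨x, rfl⟩
    exact ⟨x, rfl⟩
  have hker : ∀ v, N v = 0 → ∃ (t : F) (z : V), v = t • u + N z := fun v hv => by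
    obtain ⟨y, hy⟩ := hrange (LinearMap.mem_ker.mpr (Subtype.ext hv : M (pr v) = 0))
    refine ⟨polar Q u v / (2 * c), y, ?_⟩
    rw [hNY, hy, hpr]; abel
  have hN3 : ∀ x, N (N (N x)) = 0 := fun x => by
    rw [hN x, hNY, hNY]
    have h1 := LinearMap.congr_fun hM3 (pr x)
    rw [pow_succ, pow_succ, pow_one] at h1
    exact congrArg Subtype.val h1
  refine ⟨N, hiso, hN3, fun h0 => ?_, fun X hX hXn hX4 => ?_⟩
  · obtain ⟨k, -, hk⟩ := Multiset.mem_map.mp (show 3 ∈ parts e from hμ ▸ Multiset.mem_cons_self _ _)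
    have := (C.pow_eq_zero_iff (j := 1)).mp (LinearMap.ext fun y => Subtype.ext (by
      rw [pow_one, ← hNY, h0]; rfl)) k
    omega
  · have hsq : ∀ x ∈ X, N (N x) = 0 := by
      by_contra hc'
      push Not at hc'
      obtain ⟨x, hx, hx0⟩ := hc'
      obtain ⟨hP, -, hdX⟩ := split_top hQ hXn
      have hPN : ∀ y ∈ perp Q X, N y ∈ perp Q X := fun y hy => mem_perp.mpr fun w hw => by
        have h1 : polar Q (w + N w) (y + N y) = polar Q w y := polar_map (LinearMap.id + N) hiso w y
        rw [polar_add_right, mem_perp.mp hy _ (X.add_mem hw (hX w hw)), mem_perp.mp hy w hw, zero_add] at h1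
        have h3 : polar Q (N w + N (N w)) (N y) = 0 := by
          have h4 : polar Q (N w + N (N w)) (y + N y) = polar Q (N w) y := polar_map (LinearMap.id + N) hiso (N w) y
          rw [polar_add_right, mem_perp.mp hy _ (X.add_mem (hX w hw) (hX _ (hX w hw))), mem_perp.mp hy _ (hX w hw),
            zero_add] at h4
          exact h4
        have h5 : polar Q (N (N w) + N (N (N w))) (N y) = 0 := by
          have h4 : polar Q (N (N w) + N (N (N w))) (y + N y) = polar Q (N (N w)) y :=
            polar_map (LinearMap.id + N) hiso (N (N w)) y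
          rw [polar_add_right, mem_perp.mp hy _ (X.add_mem (hX _ (hX w hw)) (hX _ (hX _ (hX w hw)))),
            mem_perp.mp hy _ (hX _ (hX w hw)), zero_add] at h4
          exact h4
        rw [hN3, add_zero] at h5
        rw [polar_add_left, h5, add_zero] at h3
        rw [polar_add_left, h3, add_zero] at h1
        exact h1
      -- the complement has square zero, hence dimension `1` modulo `4`
      have hsqP : ∀ y ∈ perp Q X, N (N y) = 0 := by
        intro y hy
        by_contra hy0
        have hr : finrank F (LinearMap.range (M ^ 2)) ≤ 1 := by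
          have h1 := LinearMap.finrank_range_add_finrank_ker (M ^ 2)
          rw [C.finrank_ker_pow 2] at h1
          simp only [fun k => min_eq_right (he23 k).1, Finset.sum_const, smul_eq_mul, Finset.card_univ,
            Fintype.card_fin] at h1
          have h3 := congrArg Multiset.card hμ
          rw [parts, Multiset.card_map, ← Finset.card_def, Finset.card_univ, Fintype.card_fin,
            Multiset.card_cons, Multiset.card_replicate] at h3
          omega
        have hmem : ∀ w, (N (N w)) ∈ (LinearMap.range (M ^ 2)).map Y.subtype := fun w =>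
          ⟨(M ^ 2) (pr w), ⟨_, rfl⟩, by rw [hN w, hNY, _root_.sq]; rfl⟩
        obtain ⟨a, b, hab, hne⟩ : ∃ a b : F, a • N (N x) + b • N (N y) = 0 ∧ (a ≠ 0 ∨ b ≠ 0) := by
          by_contra hind
          push Not at hind
          have hli : LinearIndependent F ![N (N x), N (N y)] := LinearIndependent.pair_iff.2 hind
          have h1 := finrank_span_eq_card hli
          have h3 : Submodule.span F (Set.range ![N (N x), N (N y)]) ≤
              (LinearMap.range (M ^ 2)).map Y.subtype := Submodule.span_le.mpr (by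
            rintro _ ⟨k, rfl⟩
            fin_cases k <;> exact hmem _)
          have h4 := Submodule.finrank_mono h3
          rw [h1, Submodule.finrank_map_subtype_eq] at h4
          simp only [Fintype.card_fin] at h4
          omega
        have hbot : a • N (N x) ∈ X ⊓ perp Q X :=
          ⟨X.smul_mem _ (hX _ (hX _ hx)), by
            rw [eq_neg_of_add_eq_zero_left hab]
            exact Submodule.neg_mem _ (Submodule.smul_mem _ _ (hPN _ (hPN _ hy)))⟩
        rw [nDeg_iff_inf_perp.mp hXn, Submodule.mem_bot] at hbot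
        have ha : a = 0 := (smul_eq_zero.mp hbot).resolve_right hx0
        rw [ha, zero_smul, zero_add] at hab
        exact (hne.resolve_left fun h => h ha) ((smul_eq_zero.mp hab).resolve_right hy0)
      obtain ⟨hk, -⟩ := square_zero_class h2 hiso hu hNu huN hker hPN hP hsqP
        (k := finrank F (perp Q X) / 2) (by omega)
      have := Nat.even_iff.mp hk
      have := Nat.even_iff.mp hd
      omega
    exact (square_zero_class h2 hiso hu hNu huN hker hX hXn hsq (by omega)).2

omit [Finite F] in
/-- The orthogonal of an invariant subspace is invariant. -/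
theorem perp_inv (hQ : Nondeg Q) (hiso : ∀ x, Q (x + N x) = Q x) {X : Submodule F V}
    (hX : ∀ x ∈ X, N x ∈ X) : ∀ y ∈ perp Q X, N y ∈ perp Q X := fun y hy => mem_perp.mpr fun w hw => by
  let T : X →ₗ[F] X := LinearMap.id + N.restrict hX
  have hT : Function.Injective T := by
    refine (injective_iff_map_eq_zero T).2 fun v hv => Subtype.ext (hQ (v : V) fun z => ?_)
    have hv' : (v : V) + N v = 0 := congrArg Subtype.val hv
    rw [← polar_map (LinearMap.id + N) hiso (v : V) z]
    show polar Q ((v : V) + N v) _ = 0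
    rw [hv', polar_zero_left]
  obtain ⟨v, hv⟩ := LinearMap.injective_iff_surjective.1 hT ⟨w, hw⟩
  have hv' : (v : V) + N v = w := congrArg Subtype.val hv
  have h1 : polar Q ((v : V) + N v) (y + N y) = polar Q (v : V) y := polar_map (LinearMap.id + N) hiso _ _
  rw [hv', polar_add_right, mem_perp.mp hy _ hw, mem_perp.mp hy _ v.2, zero_add] at h1
  exact h1

omit [FiniteDimensional F V] in
/-- The two classes in odd dimension differ. -/
theorem not_equiv_scale (h2 : (2 : F) ≠ 0) {k : ℕ} {c ν : F} (hc : c ≠ 0) (hν : ¬ IsSquare ν) :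
    ¬ ((qPlus (F := F) k).prod (qOne (c * ν))).Equivalent ((qPlus k).prod (qOne c)) := fun h => by
  have h1 := card_level_congr h c
  rw [← levelCard, ← levelCard, levelCard_plus_prod, levelCard_plus_prod] at h1
  have hν0 : ν ≠ 0 := fun h0 => hν (h0 ▸ ⟨0, by rw [mul_zero]⟩)
  rw [(levelCard_qOne h2 hc hc).1 ⟨1, by rw [mul_one, div_self hc]⟩,
    (levelCard_qOne h2 (mul_ne_zero hc hν0) hc).2 fun ⟨e, he⟩ => hν ⟨e⁻¹, by
      rw [← mul_inv, ← he, inv_div, mul_div_cancel_left₀ _ hc]⟩] at h1
  have := Nat.pow_pos (n := k) (Nat.card_pos (α := F))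
  omega

/-- The orthogonals of isometric nondegenerate subspaces are isometric. -/
theorem perp_equiv (hQ : Nondeg Q) {W W' : Submodule F V}
    (h : (res Q W).Equivalent (res Q W')) : (res Q (perp Q W)).Equivalent (res Q (perp Q W')) := by
  obtain ⟨e⟩ := h
  obtain ⟨g, hg, hgx⟩ := witt_quadratic Q (Nondeg.polarBilin hQ) W W' e.toLinearEquiv e.map_app
  have hd : finrank F (perp Q W) = finrank F (perp Q W') := by
    have h1 := e.toLinearEquiv.finrank_eq
    rw [perp, perp, LinearMap.BilinForm.finrank_orthogonal hQ.polarBilin,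
      LinearMap.BilinForm.finrank_orthogonal hQ.polarBilin, h1]
  have hmap : (perp Q W).map g.toLinearMap = perp Q W' := by
    refine Submodule.eq_of_le_of_finrank_le ?_ (by rw [LinearEquiv.finrank_map_eq, hd])
    rintro _ ⟨x, hx, rfl⟩
    refine mem_perp.mpr fun w hw => ?_
    have h1 := hgx (e.toLinearEquiv.symm ⟨w, hw⟩)
    rw [LinearEquiv.apply_symm_apply] at h1
    show polar Q w (g x) = 0
    rw [show w = g (e.toLinearEquiv.symm ⟨w, hw⟩ : V) from h1.symm]
    exact (polar_map g.toLinearMap hg _ _).trans (mem_perp.mp hx _ (Subtype.mem _))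
  let E := (Submodule.equivMapOfInjective g.toLinearMap g.injective (perp Q W)).trans (LinearEquiv.ofEq _ _ hmap)
  exact ⟨{ E with map_app' := fun x => hg (x : V) }⟩

end Cfsg.Agent.Lib.K41.Der
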