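import Cfsg.Agent.Lib.K41.Der.Invariant
import Cfsg.Agent.Lib.Orth52.Spinor
import Cfsg.Agent.Lib.Forms.Bridge

/-!
Isometries with square `-1` of quadratic spaces in odd characteristic: membership in the commutator
subgroup, dimension and type of their invariant subspaces, existence.
-/

set_option autoImplicit false

namespace Cfsg.Agent.Lib.K41.Der

open Module QuadraticMap Cfsg.Agent.Lib.Forms Cfsg.Agent.Lib.Elusive

/-- The type `plus` in dimension `2 j` of a space with a form-preserving square root of `-1`, and of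
one whose discriminant is a square. -/
def TwoPar (q j : ℕ) : Prop := q % 4 = 1 ∨ Even j

/-- Isometries with square `-1` occur in the commutator subgroup. -/
def Quarters (q d : ℕ) (pl : Prop) : Prop :=
  (pl ∧ (Even d ∨ q % 8 = 1)) ∨ (¬ pl ∧ Odd d ∧ q % 8 = 7)

theorem odd_pow_mod {q : ℕ} (hq : Odd q) (j : ℕ) :
    q ^ j % 8 = if Even j then 1 else q % 8 := by
  have h2 : q ^ 2 % 8 = 1 := by
    obtain ⟨k, rfl⟩ := hq
    have : (2 * k + 1) ^ 2 = 4 * (k * (k + 1)) + 1 := by ring
    obtain ⟨u, hu⟩ := Nat.even_mul_succ_self k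
    rw [this, hu]
    omega
  induction j using Nat.strong_induction_on with
  | _ j ih =>
    match j with
    | 0 => simp
    | 1 => simp
    | j + 2 =>
      rw [pow_add, Nat.mul_mod, ih j (by omega), h2, mul_one]
      by_cases h : Even j
      · rw [if_pos h, if_pos (h.add even_two)]
      · rw [if_neg h, if_neg (by rwa [Nat.even_add, iff_true_right even_two]), Nat.mod_mod]

theorem odd_pow_mod_four {q : ℕ} (hq : Odd q) (j : ℕ) :
    (q ^ j % 4 = 1 ∧ TwoPar q j) ∨ (q ^ j % 4 = 3 ∧ ¬ TwoPar q j) := by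
  have h := odd_pow_mod hq j
  have hq2 : q % 2 = 1 := Nat.odd_iff.mp hq
  by_cases hj : Even j
  · rw [if_pos hj] at h
    exact Or.inl ⟨by omega, Or.inr hj⟩
  · rw [if_neg hj] at h
    by_cases h1 : q % 4 = 1
    · exact Or.inl ⟨by omega, Or.inl h1⟩
    · exact Or.inr ⟨by omega, fun h' => h'.elim h1 hj⟩

/-- A permutation all of whose orbits have four elements. -/
theorem perm_quarter {α : Type*} [Fintype α] [DecidableEq α] (σ : Equiv.Perm α) (h4 : σ ^ 4 = 1)
    (h2 : ∀ x, σ (σ x) ≠ x) :
    ∃ k, Fintype.card α = 4 * k ∧ Equiv.Perm.sign σ = (-1) ^ k := by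
  have hsup : σ.support = Finset.univ := Finset.eq_univ_of_forall fun x => by
    rw [Equiv.Perm.mem_support]
    intro hx
    exact h2 x (by rw [hx, hx])
  have hall : ∀ n ∈ σ.cycleType, n = 4 := by
    intro n hn
    have hd : n ∣ 4 := (Equiv.Perm.dvd_of_mem_cycleType hn).trans (orderOf_dvd_of_pow_eq_one h4)
    have hn2 := Equiv.Perm.two_le_of_mem_cycleType hn
    have hn4 := Nat.le_of_dvd (by norm_num) hd
    by_contra hne
    obtain rfl : n = 2 := by
      interval_cases n <;> omega
    rw [Equiv.Perm.cycleType_def, Multiset.mem_map] at hn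
    obtain ⟨c, hc, hc2⟩ := hn
    obtain ⟨hcyc, hcσ⟩ := Equiv.Perm.mem_cycleFactorsFinset_iff.mp hc
    obtain ⟨x, hx⟩ := hcyc.nonempty_support
    have hcx : (c ^ 2) x = x := by
      rw [show 2 = orderOf c from (hcyc.orderOf.trans hc2).symm, pow_orderOf_eq_one]; rfl
    rw [pow_two, Equiv.Perm.mul_apply] at hcx
    have hx' := hcσ x hx
    have hx'' := hcσ _ (Equiv.Perm.apply_mem_support.mpr hx)
    exact h2 x (by rw [← hx', ← hx'', hcx])
  have hrep := Multiset.eq_replicate_card.mpr hall
  have h := σ.sum_cycleType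
  rw [hsup, Finset.card_univ] at h
  have hcard : σ.cycleType.sum = 4 * Multiset.card σ.cycleType := by
    conv_lhs => rw [hrep]
    rw [Multiset.sum_replicate, smul_eq_mul, mul_comm]
  refine ⟨Multiset.card σ.cycleType, h.symm.trans hcard, ?_⟩
  rw [Equiv.Perm.sign_of_cycleType, hcard, pow_add,
    Even.neg_one_pow ⟨2 * Multiset.card σ.cycleType, by ring⟩, one_mul]

variable {F : Type*} [Field F] {V : Type*} [AddCommGroup V] [Module F V]
variable {Q : QuadraticForm F V} {g : Module.End F V} {X : Submodule F V}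

/-- An isometry with square `-1`. -/
structure Quarter (Q : QuadraticForm F V) (g : Module.End F V) : Prop where
  nondeg : Nondeg Q
  two : (2 : F) ≠ 0
  iso : ∀ v, Q (g v) = Q v
  sq : ∀ v, g (g v) = -v

theorem eq_zero_of_neg_eq (h2 : (2 : F) ≠ 0) {v : V} (h : -v = v) : v = 0 := by
  have : (2 : F) • v = 0 := by
    rw [two_smul]; nth_rw 1 [← h]; exact neg_add_cancel v
  exact (smul_eq_zero.mp this).resolve_left h2

theorem Quarter.fixed (h : Quarter Q g) {v : V} (hv : g v = v) : v = 0 :=
  eq_zero_of_neg_eq h.two (by rw [← h.sq v, hv, hv])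

theorem Quarter.polar_self_apply (h : Quarter Q g) (v : V) : polar Q v (g v) = 0 := by
  have h1 := polar_map g h.iso v (g v)
  rw [h.sq, polar_neg_right, polar_comm Q (g v) v] at h1
  have : (2 : F) * polar Q v (g v) = 0 := by linear_combination -h1
  exact (mul_eq_zero.mp this).resolve_left h.two

variable [Fintype F] [FiniteDimensional F V]

/-- The action on a level set. -/
theorem Quarter.level (h : Quarter Q g) (hX : Inv g X) {c : F} (hc : c ≠ 0) :
    4 ∣ levelCard (res Q X) c := by
  classical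
  have := Module.finite_of_finite F (M := V)
  let α := {x : X // res Q X x = c}
  have := Fintype.ofFinite α
  let g₀ : α → α := fun x => ⟨⟨g (x.1 : V), hX.mem x.1.2⟩, (h.iso _).trans x.2⟩
  have hg2 : ∀ x : α, ((g₀ (g₀ x)).1 : V) = -(x.1 : V) := fun x => h.sq _
  have hg4 : ∀ x, g₀ (g₀ (g₀ (g₀ x))) = x := fun x =>
    Subtype.ext (Subtype.ext (by rw [hg2, hg2, neg_neg]))
  let σ : Equiv.Perm α := ⟨g₀, fun x => g₀ (g₀ (g₀ x)), hg4, hg4⟩
  obtain ⟨k, hk, -⟩ := perm_quarter σ (Equiv.ext fun x => hg4 x) fun x hx => by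
    have h1 : -(x.1 : V) = x.1 := (hg2 x).symm.trans (congrArg (fun z : α => ((z.1 : X) : V)) hx)
    have h3 := x.2
    rw [res_apply, eq_zero_of_neg_eq h.two h1, QuadraticMap.map_zero] at h3
    exact hc h3.symm
  exact ⟨k, by rw [levelCard, Nat.card_eq_fintype_card, hk]⟩

/-- Invariant nondegenerate subspaces have even dimension and prescribed type. -/
theorem Quarter.dim (h : Quarter Q g) (hX : Inv g X) (hnd : NDeg Q X) :
    ∃ j, finrank F X = 2 * j ∧ (Plus (res Q X) ↔ TwoPar (Fintype.card F) j) := by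
  classical
  have hN : Nat.card F = Fintype.card F := Nat.card_eq_fintype_card
  have hqodd : Odd (Fintype.card F) := hN ▸ odd_card_of_two_ne h.two
  have hev : Even (finrank F X) := by
    rcases classify (res Q X) hnd with ⟨j, hj, -⟩ | ⟨j, c, hc, h2, -, he⟩ | ⟨j, a, b, -, hj, -⟩
    · exact hj ▸ even_two_mul j
    · exfalso
      obtain ⟨ν, hν⟩ := exists_nonsq (F := F) h2
      have hν0 : ν ≠ 0 := fun h0 => hν (h0 ▸ ⟨0, by rw [mul_zero]⟩)
      have hlev : ∀ d : F, d ≠ 0 → 4 ∣ Fintype.card F ^ j * levelCard (qOne c) d +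
          (Fintype.card F ^ j - 1) * Fintype.card F ^ j := fun d hd => by
        have h1 := h.level hX hd
        rwa [levelCard, card_level_congr he, ← levelCard, levelCard_plus_prod, finrank_self,
          Nat.add_sub_cancel, hN] at h1
      have hl1 : levelCard (qOne c) c = 2 := by
        rw [levelCard, Nat.card_eq_two_iff]
        refine ⟨⟨1, by rw [qOne_apply]; ring⟩, ⟨-1, by rw [qOne_apply]; ring⟩, fun he' => h2 ?_, ?_⟩
        · have h5 : (1 : F) = -1 := congrArg Subtype.val he'
          linear_combination h5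
        · refine Set.eq_univ_of_forall fun x => ?_
          have hx := x.2
          rw [qOne_apply] at hx
          rcases mul_self_eq_one_iff.mp ((mul_eq_left₀ hc).mp hx) with h5 | h5
          · exact Or.inl (Subtype.ext h5)
          · exact Or.inr (Subtype.ext h5)
      have hl2 : levelCard (qOne c) (ν * c) = 0 := Nat.card_eq_zero.2 (Or.inl ⟨fun x => hν ⟨x.1, by
        have hx := x.2
        rw [qOne_apply] at hx
        exact mul_right_cancel₀ hc (by linear_combination -hx)⟩⟩)
      have h1 := hlev c hc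
      have h3 := hlev (ν * c) (mul_ne_zero hν0 hc)
      rw [hl1] at h1
      rw [hl2, mul_zero, zero_add] at h3
      rw [Nat.dvd_add_left h3] at h1
      have h4 : Fintype.card F ^ j % 2 = 1 := Nat.odd_iff.mp hqodd.pow
      omega
    · exact hj ▸ ⟨j + 1, by ring⟩
  obtain ⟨j, hj⟩ := hev.two_dvd
  refine ⟨j, hj, ?_⟩
  have h1 := h.level hX (one_ne_zero (α := F))
  rcases even_cases hnd hj with ⟨hP, he⟩ | ⟨hP, k, a, b, rfl, hab, he⟩
  · refine iff_of_true hP ?_
    rw [levelCard, card_level_congr he, ← levelCard, levelCard_qPlus _ one_ne_zero, hN] at h1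
    have hc := (Nat.Coprime.pow_right (j - 1) (Nat.Coprime.pow_left 2 hqodd.coprime_two_left)).dvd_of_dvd_mul_right
      (show 2 ^ 2 ∣ _ from h1)
    rcases odd_pow_mod_four hqodd j with ⟨-, h2⟩ | ⟨h2, -⟩
    · exact h2
    · omega
  · refine iff_of_false hP ?_
    rw [levelCard, card_level_congr (he.trans (qMinus_equiv k a b).symm), ← levelCard,
      levelCard_qMinus k hab one_ne_zero, hN] at h1
    have hc := (Nat.Coprime.pow_right k (Nat.Coprime.pow_left 2 hqodd.coprime_two_left)).dvd_of_dvd_mul_right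
      (show 2 ^ 2 ∣ _ from h1)
    rcases odd_pow_mod_four hqodd (k + 1) with ⟨h2, -⟩ | ⟨-, h2⟩
    · omega
    · exact h2

/-- Membership in the commutator subgroup. -/
theorem Quarter.mem_iff {o : orth Q} (h : Quarter Q o.1.toLinearMap) {d : ℕ} (hd : 1 ≤ d)
    (hV : finrank F V = 2 * d) :
    o ∈ commutator (orth Q) ↔ Quarters (Fintype.card F) d (Plus Q) := by
  classical
  have := Module.finite_of_finite F (M := V)
  have hN : Nat.card F = Fintype.card F := Nat.card_eq_fintype_card
  have hqodd : Odd (Fintype.card F) := hN ▸ odd_card_of_two_ne h.two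
  have hdk : dickson Q o = 0 := by
    have hfix : fixSpace o.1 = ⊥ := by
      rw [Submodule.eq_bot_iff]
      exact fun x hx => h.fixed (mem_fixSpace.1 hx)
    have := finrank_range_dev o.1
    rw [hfix, finrank_bot, add_zero] at this
    rw [dickson, this, hV]
    exact (ZMod.natCast_eq_zero_iff_even).2 (even_two_mul d)
  have := Fintype.ofFinite {x // Q x = (1 : F)}
  set σ := levelPerm Q 1 o with hσ
  obtain ⟨k, hk, hsign⟩ := perm_quarter σ (Equiv.ext fun x => Subtype.ext (by
      rw [pow_succ, pow_succ, pow_succ, pow_one]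
      show o.1 (o.1 (o.1 (o.1 (x : V)))) = x
      exact (h.sq _).trans ((congrArg Neg.neg (h.sq _)).trans (neg_neg _)))) fun x hx => by
    have h1 : -(x : V) = x := (h.sq _).symm.trans (congrArg Subtype.val hx)
    have h3 := x.2
    rw [eq_zero_of_neg_eq h.two h1, QuadraticMap.map_zero] at h3
    exact zero_ne_one h3
  have hlev : levelSign Q 1 o = (-1) ^ k := by
    rw [← hsign]
    unfold levelSign
    simp only [MonoidHom.comp_apply, ← hσ]
    congr!
  rw [mem_commutator_iff_odd h.nondeg h.two (by omega) one_ne_zero, hlev]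
  have hk' : levelCard Q 1 = 4 * k := by rw [levelCard, Nat.card_eq_fintype_card, hk]
  have hkev : ((-1 : ℤˣ) ^ k = 1) ↔ Even k := by
    rcases Nat.even_or_odd k with hk2 | hk2
    · exact iff_of_true hk2.neg_one_pow hk2
    · exact iff_of_false (by rw [hk2.neg_one_pow]; decide) (Nat.not_even_iff_odd.mpr hk2)
  rw [hkev]
  simp only [hdk, true_and]
  have h8 : ∀ x e : ℕ, 4 * k = x * Fintype.card F ^ e → (Even k ↔ x % 8 = 0) := by
    intro x e he
    have hc : Nat.Coprime (2 ^ 3) (Fintype.card F ^ e) :=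
      Nat.Coprime.pow_right e (Nat.Coprime.pow_left 3 hqodd.coprime_two_left)
    constructor
    · rintro ⟨u, rfl⟩
      exact Nat.eq_zero_of_dvd_of_lt ((Nat.dvd_mod_iff dvd_rfl).mpr (hc.dvd_of_dvd_mul_right ⟨u, by rw [← he]; ring⟩))
        (Nat.mod_lt _ (by norm_num))
    · intro hx
      have h9 : 8 ∣ 4 * k := he ▸ (Nat.dvd_of_mod_eq_zero hx).mul_right _
      rw [Nat.even_iff]
      omega
  have hpm := odd_pow_mod hqodd d
  have hq2 : Fintype.card F % 2 = 1 := Nat.odd_iff.mp hqodd
  have h1 : 1 ≤ Fintype.card F ^ d := Nat.one_le_pow _ _ Fintype.card_pos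
  rcases even_cases h.nondeg hV with ⟨hP, he⟩ | ⟨hP, l, a, b, rfl, hab, he⟩
  · rw [levelCard, card_level_congr he, ← levelCard, levelCard_qPlus _ one_ne_zero, hN] at hk'
    rw [h8 _ _ hk'.symm, Quarters, iff_of_true hP trivial, true_and, not_true, false_and, or_false]
    by_cases hde : Even d
    · rw [if_pos hde] at hpm
      exact iff_of_true (by omega) (Or.inl hde)
    · rw [if_neg hde] at hpm
      exact ⟨fun h' => Or.inr (by omega), fun h' => by have := h'.resolve_left hde; omega⟩
  · rw [levelCard, card_level_congr (he.trans (qMinus_equiv l a b).symm), ← levelCard,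
      levelCard_qMinus l hab one_ne_zero, hN] at hk'
    rw [h8 _ _ hk'.symm, Quarters, iff_of_false hP id, false_and, false_or, not_false_iff, true_and]
    by_cases hde : Even (l + 1)
    · rw [if_pos hde] at hpm
      exact iff_of_false (by omega) fun h' => Nat.not_even_iff_odd.mpr h'.1 hde
    · rw [if_neg hde] at hpm
      exact ⟨fun h' => ⟨Nat.not_even_iff_odd.mp hde, by omega⟩, fun h' => by omega⟩

/-- A nonsingular vector spans an invariant nondegenerate plane. -/
theorem Quarter.plane (h : Quarter Q g) {v : V} (hv : Q v ≠ 0) :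
    Inv g (Submodule.span F {v, g v}) ∧ NDeg Q (Submodule.span F {v, g v}) ∧
      finrank F (Submodule.span F {v, g v}) = 2 := by
  have hp := h.polar_self_apply v
  have hli : LinearIndependent F ![v, g v] := by
    refine LinearIndependent.pair_iff.2 fun s t hst => ?_
    have h1 := congrArg (fun z => polar Q v z) hst
    have h2 := congrArg (fun z => polar Q (g v) z) hst
    simp only [polar_add_right, polar_smul_right, smul_eq_mul, hp, polar_comm Q (g v) v, polar_zero_right,
      mul_zero, add_zero, zero_add, polar_self', h.iso] at h1 h2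
    exact ⟨(mul_eq_zero.mp h1).resolve_right (mul_ne_zero h.two hv),
      (mul_eq_zero.mp h2).resolve_right (mul_ne_zero h.two hv)⟩
  refine ⟨?_, nDeg_iff.mpr fun x hx hxy => ?_, ?_⟩
  · rw [Elusive.Inv, Submodule.map_span, Submodule.span_le]
    rintro _ ⟨x, (rfl | rfl), rfl⟩
    · exact Submodule.subset_span (by simp)
    · rw [SetLike.mem_coe, h.sq]
      exact Submodule.neg_mem _ (Submodule.subset_span (by simp))
  · obtain ⟨s, t, rfl⟩ := Submodule.mem_span_pair.mp hx
    have h1 := hxy v (Submodule.subset_span (by simp))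
    have h2 := hxy (g v) (Submodule.subset_span (by simp))
    simp only [polar_add_left, polar_smul_left, smul_eq_mul, hp, polar_comm Q (g v) v,
      mul_zero, add_zero, zero_add, polar_self', h.iso] at h1 h2
    rw [(mul_eq_zero.mp h1).resolve_right (mul_ne_zero h.two hv),
      (mul_eq_zero.mp h2).resolve_right (mul_ne_zero h.two hv), zero_smul, zero_smul, add_zero]
  · have := finrank_span_eq_card hli
    rwa [Matrix.range_cons, Matrix.range_cons, Matrix.range_empty, Set.union_empty,
      Set.singleton_union, Fintype.card_fin] at this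

theorem Quarter.inv_perp (h : Quarter Q g) (hX : Inv g X) : Inv g (perp Q X) := by
  refine Inv.of_mem fun x hx => mem_perp.mpr fun w hw => ?_
  have h1 := polar_map g h.iso (-(g w)) x
  rw [map_neg, h.sq, neg_neg] at h1
  rw [h1, polar_neg_left, mem_perp.mp hx _ (hX.mem hw), neg_zero]

omit [Fintype F] in
theorem exists_nonzero_value (h2 : (2 : F) ≠ 0) (hnd : NDeg Q X) (hne : X ≠ ⊥) : ∃ v ∈ X, Q v ≠ 0 := by
  by_contra hc
  push Not at hc
  obtain ⟨x, hx, hx0⟩ := Submodule.exists_mem_ne_zero_of_ne_bot hne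
  exact hx0 (nDeg_iff.mp hnd x hx fun y hy => by
    rw [polar, hc _ (X.add_mem hx hy), hc _ hx, hc _ hy, sub_zero, sub_zero])

/-- Invariant nondegenerate subspaces of every even dimension. -/
theorem Quarter.exists_sub (h : Quarter Q g) : ∀ (j : ℕ) (X : Submodule F V), Inv g X → NDeg Q X →
    2 * j ≤ finrank F X → ∃ W, W ≤ X ∧ Inv g W ∧ NDeg Q W ∧ finrank F W = 2 * j := by
  intro j
  induction j with
  | zero => exact fun X _ _ _ => ⟨⊥, bot_le, Inv.bot g, nDeg_bot, by simp⟩
  | succ j ih =>
    intro X hX hnd hd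
    obtain ⟨v, hvX, hv⟩ := exists_nonzero_value h.two hnd fun h0 => by rw [h0, finrank_bot] at hd; omega
    obtain ⟨hPi, hPn, hPd⟩ := h.plane hv
    have hPX : Submodule.span F {v, g v} ≤ X := by
      rw [Submodule.span_le]
      rintro x (rfl | rfl)
      · exact hvX
      · exact hX.mem hvX
    obtain ⟨hY, -, hdim⟩ := split hPn hnd hPX
    obtain ⟨W, hWY, hW, hWn, hWd⟩ := ih _ (hX.inf (h.inv_perp hPi)) hY (by omega)
    refine ⟨_ ⊔ W, sup_le hPX (hWY.trans inf_le_left), hPi.sup hW,
      nDeg_sup hPn hWn (hWY.trans inf_le_right), ?_⟩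
    rw [finrank_sup_perp hPn (hWY.trans inf_le_right), hPd, hWd]
    omega

/-- Invariant totally singular subspaces of even dimension. -/
theorem Quarter.exists_sing_even (h : Quarter Q g) : ∀ (a : ℕ) (X : Submodule F V), Inv g X → NDeg Q X →
    4 * a ≤ finrank F X → ∃ W, W ≤ X ∧ Inv g W ∧ Sing Q W ∧ finrank F W = 2 * a ∧
      ∃ Y, W ≤ Y ∧ Y ≤ X ∧ NDeg Q Y ∧ finrank F Y = 4 * a := by
  intro a
  induction a with
  | zero =>
    exact fun X _ _ _ => ⟨⊥, bot_le, Inv.bot g, fun u hu => by
      rw [(Submodule.mem_bot F).mp hu, QuadraticMap.map_zero], by simp, ⊥, le_rfl, bot_le, nDeg_bot, by simp⟩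
  | succ a ih =>
    intro X hX hnd hd
    -- two planes with opposite values
    obtain ⟨v, hvX, hv⟩ := exists_nonzero_value h.two hnd fun h0 => by rw [h0, finrank_bot] at hd; omega
    obtain ⟨hPi, hPn, hPd⟩ := h.plane hv
    have hPX : Submodule.span F {v, g v} ≤ X := by
      rw [Submodule.span_le]
      rintro x (rfl | rfl)
      · exact hvX
      · exact hX.mem hvX
    obtain ⟨hY, -, hdim⟩ := split hPn hnd hPX
    obtain ⟨⟨w, hwY⟩, hw⟩ := exists_Q_eq hY (by omega) (-Q v)
    have hwQ : Q w = -Q v := hw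
    obtain ⟨hRi, hRn, hRd⟩ := h.plane (v := w) (by rw [hwQ]; exact neg_ne_zero.mpr hv)
    have hRY : Submodule.span F {w, g w} ≤ X ⊓ perp Q (Submodule.span F {v, g v}) := by
      rw [Submodule.span_le]
      rintro x (rfl | rfl)
      · exact hwY
      · exact (hX.inf (h.inv_perp hPi)).mem hwY
    set R₁ := Submodule.span F {v, g v} with hR₁
    set R₂ := Submodule.span F {w, g w} with hR₂
    have hR : NDeg Q (R₁ ⊔ R₂) := nDeg_sup hPn hRn (hRY.trans inf_le_right)
    have hRd4 : finrank F ↥(R₁ ⊔ R₂) = 4 := by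
      rw [finrank_sup_perp hPn (hRY.trans inf_le_right), hPd, hRd]
    have hRX : R₁ ⊔ R₂ ≤ X := sup_le hPX (hRY.trans inf_le_left)
    obtain ⟨hZ, -, hdim'⟩ := split hR hnd hRX
    obtain ⟨W, hWZ, hW, hWs, hWd, Y, hWY', hYZ, hYn, hYd⟩ :=
      ih _ (hX.inf (h.inv_perp (hPi.sup hRi))) hZ (by omega)
    -- the singular plane
    set u := v + w with hu
    have hvw : ∀ x ∈ R₁, ∀ y ∈ R₂, polar Q x y = 0 := fun x hx y hy => mem_perp.mp (hRY hy).2 x hx
    have hv1 : v ∈ R₁ := Submodule.subset_span (by simp)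
    have hv2 : g v ∈ R₁ := Submodule.subset_span (by simp)
    have hw1 : w ∈ R₂ := Submodule.subset_span (by simp)
    have hw2 : g w ∈ R₂ := Submodule.subset_span (by simp)
    have hQu : Q u = 0 := by rw [hu, Q_add, hwQ, hvw v hv1 w hw1]; ring
    have hgu : g u = g v + g w := by rw [hu, map_add]
    have hS : Sing Q (Submodule.span F {u, g u}) := fun x hx => by
      obtain ⟨s, t, rfl⟩ := Submodule.mem_span_pair.mp hx
      rw [Q_comb, hQu, h.iso, hQu, h.polar_self_apply]
      ring
    have hSle : Submodule.span F {u, g u} ≤ R₁ ⊔ R₂ := by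
      rw [Submodule.span_le]
      rintro x (rfl | rfl)
      · exact Submodule.add_mem_sup hv1 hw1
      · rw [hgu]; exact Submodule.add_mem_sup hv2 hw2
    have hSi : Inv g (Submodule.span F {u, g u}) := by
      rw [Elusive.Inv, Submodule.map_span, Submodule.span_le]
      rintro _ ⟨x, (rfl | rfl), rfl⟩
      · exact Submodule.subset_span (by simp)
      · rw [SetLike.mem_coe, h.sq]
        exact Submodule.neg_mem _ (Submodule.subset_span (by simp))
    have hli : LinearIndependent F ![u, g u] := by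
      refine LinearIndependent.pair_iff.2 fun s t hst => ?_
      have h1 := congrArg (fun z => polar Q v z) hst
      have h2 := congrArg (fun z => polar Q (g v) z) hst
      simp only [hu, map_add, polar_add_right, polar_smul_right, smul_eq_mul, h.polar_self_apply,
        polar_comm Q (g v) v, hvw v hv1 w hw1, hvw v hv1 _ hw2, hvw _ hv2 w hw1, hvw _ hv2 _ hw2,
        polar_zero_right, mul_zero, add_zero, zero_add, polar_self', h.iso] at h1 h2
      exact ⟨(mul_eq_zero.mp h1).resolve_right (mul_ne_zero h.two hv),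
        (mul_eq_zero.mp h2).resolve_right (mul_ne_zero h.two hv)⟩
    have hSd : finrank F (Submodule.span F {u, g u}) = 2 := by
      have := finrank_span_eq_card hli
      rwa [Matrix.range_cons, Matrix.range_cons, Matrix.range_empty, Set.union_empty,
        Set.singleton_union, Fintype.card_fin] at this
    have hYR : Y ≤ perp Q (R₁ ⊔ R₂) := hYZ.trans inf_le_right
    refine ⟨_ ⊔ W, sup_le (hSle.trans hRX) (hWZ.trans inf_le_left), hSi.sup hW,
      hS.sup hWs fun x hx => mem_perp.mpr fun y hy => mem_perp.mp (hYR (hWY' hx)) y (hSle hy), ?_,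
      (R₁ ⊔ R₂) ⊔ Y, sup_le_sup hSle hWY', sup_le hRX (hYZ.trans inf_le_left), nDeg_sup hR hYn hYR, ?_⟩
    · rw [finrank_sup_of_disjoint, hSd, hWd]
      · omega
      · exact le_bot_iff.mp (nDeg_iff_inf_perp.mp hR ▸ inf_le_inf hSle (hWY'.trans hYR))
    · rw [finrank_sup_perp hR hYR, hRd4, hYd]
      omega

/-- Over a field where `-1` is a square: invariant totally singular subspaces of every dimension. -/
theorem Quarter.exists_sing_split (h : Quarter Q g) {d m : ℕ} (hV : finrank F V = 2 * d)
    {i : F} (hi : i * i = -1) (hm : m ≤ d) : ∃ W, Inv g W ∧ Sing Q W ∧ finrank F W = m := by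
  have hsing : ∀ e : F, e * e = -1 → Sing Q (End.eigenspace g e) := fun e he x hx => by
    have h1 := h.iso x
    rw [End.mem_eigenspace_iff.mp hx, Q_smul, he] at h1
    have h3 : (2 : F) * Q x = 0 := by linear_combination -h1
    exact (mul_eq_zero.mp h3).resolve_left h.two
  have hi0 : i ≠ 0 := fun h0 => by simp [h0] at hi
  have hsup : End.eigenspace g i ⊔ End.eigenspace g (-i) = ⊤ := eq_top_iff.mpr fun v _ => by
    refine Submodule.mem_sup.mpr ⟨(2 * i)⁻¹ • (g v + i • v), ?_, -((2 * i)⁻¹ • (g v - i • v)), ?_, ?_⟩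
    · rw [End.mem_eigenspace_iff, map_smul, map_add, map_smul, h.sq, smul_comm]
      congr 1
      rw [smul_add, smul_smul, hi, neg_one_smul]
      abel
    · rw [End.mem_eigenspace_iff, map_neg, map_smul, map_sub, map_smul, h.sq, smul_neg, smul_comm]
      congr 2
      rw [smul_sub, smul_smul, neg_mul, hi, neg_neg, one_smul, neg_smul]
      abel
    · rw [← sub_eq_add_neg, ← smul_sub, show g v + i • v - (g v - i • v) = (2 * i) • v by
        rw [two_mul, add_smul]; abel, smul_smul, inv_mul_cancel₀ (mul_ne_zero h.two hi0), one_smul]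
  have h1 := sing_finrank_le h.nondeg (hsing i hi)
  have h2 := sing_finrank_le h.nondeg (hsing (-i) (by rw [neg_mul_neg, hi]))
  have h3 := Submodule.finrank_add_le_finrank_add_finrank (End.eigenspace g i) (End.eigenspace g (-i))
  rw [hsup, finrank_top] at h3
  obtain ⟨v, hv⟩ := exists_linearIndependent_of_le_finrank (R := F)
    (M := ↥(End.eigenspace g i)) (n := m) (by omega)
  let A : Submodule F V := Submodule.span F (Set.range ((End.eigenspace g i).subtype ∘ v))
  have hA : A ≤ End.eigenspace g i := Submodule.span_le.mpr (by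
    rintro _ ⟨k, rfl⟩
    exact (v k).2)
  refine ⟨A, Inv.of_le_eigenspace hA, (hsing i hi).mono hA, ?_⟩
  rw [finrank_span_eq_card (hv.map' _ (Submodule.ker_subtype _)), Fintype.card_fin]

omit [FiniteDimensional F V] in
/-- Invariant subspaces have even dimension if `-1` is no square. -/
theorem Quarter.even_finrank (h : Quarter Q g) (hns : ¬ IsSquare (-1 : F)) {W : Submodule F V}
    (hW : Inv g W) : Even (finrank F W) := by
  let G : Module.End F W := g.restrict fun x hx => hW.mem hx
  have hG : G * G = (-1 : F) • 1 := LinearMap.ext fun x => Subtype.ext (by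
    show g (g (x : V)) = _
    rw [h.sq, LinearMap.smul_apply, Module.End.one_apply, Submodule.coe_smul, neg_one_smul])
  have h1 := congrArg LinearMap.det hG
  rw [map_mul, LinearMap.det_smul, map_one, mul_one] at h1
  by_contra ho
  rw [(Nat.not_even_iff_odd.mp ho).neg_one_pow] at h1
  exact hns ⟨_, h1.symm⟩

/-- An element with square `-1` in the commutator subgroup. -/
theorem exists_quarter (hQ : Nondeg Q) (h2 : (2 : F) ≠ 0) {d : ℕ} (hd : 1 ≤ d)
    (hV : finrank F V = 2 * d) (hq : Quarters (Fintype.card F) d (Plus Q)) :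
    ∃ o : orth Q, o ∈ commutator (orth Q) ∧ ∀ v, o.1 (o.1 v) = -v := by
  classical
  have hN : Nat.card F = Fintype.card F := Nat.card_eq_fintype_card
  have hq2 : Fintype.card F % 2 = 1 := Nat.odd_iff.mp (hN ▸ odd_card_of_two_ne h2)
  let R := QuadraticMap.pi fun _ : Fin d => qBin (F := F) 0 1
  let G : Module.End F (Fin d → Fin 2 → F) := LinearMap.pi fun j =>
    (LinearMap.pi ![-(LinearMap.proj 1), LinearMap.proj 0] : (Fin 2 → F) →ₗ[F] Fin 2 → F).comp (LinearMap.proj j)
  have hG0 : ∀ x j, G x j 0 = -(x j 1) := fun x j => rfl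
  have hG1 : ∀ x j, G x j 1 = x j 0 := fun x j => rfl
  have hB : ∀ x y : Fin 2 → F, polar (qBin (F := F) 0 1) x y = 2 * (x 0 * y 0 + x 1 * y 1) := fun x y => by
    simp only [polar, qBin_apply, Pi.add_apply]; ring
  have hR : Nondeg R := fun x hx => funext fun j => funext fun k => by
    have h1 := hx (Pi.single j (Pi.single k 1))
    rw [QuadraticMap.Ring.polar_pi, Finset.sum_eq_single j (fun b _ hb => by
      rw [Pi.single_eq_of_ne hb, QuadraticMap.polar_zero_right]) (by simp), Pi.single_eq_same, hB] at h1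
    have h3 := (mul_eq_zero.mp h1).resolve_left h2
    fin_cases k <;> simpa using h3
  have hQG : Quarter R G := ⟨hR, h2, fun x => by
      simp only [R, QuadraticMap.pi_apply, qBin_apply, hG0, hG1]
      exact Finset.sum_congr rfl fun j _ => by ring,
    fun x => funext fun j => funext fun k => by fin_cases k <;> simp [hG0, hG1]⟩
  have hMd : finrank F (Fin d → Fin 2 → F) = 2 * d := by
    simp [finrank_pi_fintype]; ring
  obtain ⟨j, hj, hjP⟩ := hQG.dim (Inv.top G) (nDeg_top_iff.mpr hR)
  rw [finrank_top, hMd] at hj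
  obtain rfl : j = d := by omega
  rw [plus_congr (top_equiv R)] at hjP
  have hPR : Plus R ↔ Plus Q := by
    rw [hjP]
    unfold TwoPar
    rcases hq with ⟨hP, h1⟩ | ⟨hP, h1, h1'⟩
    · exact iff_of_true (h1.elim Or.inr fun h => Or.inl (by omega)) hP
    · exact iff_of_false (fun h => h.elim (fun h => by omega) (Nat.not_even_iff_odd.mpr h1)) hP
  obtain ⟨e⟩ := equiv_of_plus hQ hR hV hMd hPR
  let Ge : (Fin j → Fin 2 → F) ≃ₗ[F] (Fin j → Fin 2 → F) :=
    LinearEquiv.ofLinear G (-G) (LinearMap.ext fun x => by simp [hQG.sq])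
      (LinearMap.ext fun x => by simp [hQG.sq])
  let o : orth Q := orthCongr e ⟨Ge, hQG.iso⟩
  have ho : ∀ v, o.1 (o.1 v) = -v := fun v => by
    show e.toLinearEquiv (G (e.toLinearEquiv.symm (e.toLinearEquiv (G (e.toLinearEquiv.symm v))))) = -v
    rw [LinearEquiv.symm_apply_apply, hQG.sq, map_neg, LinearEquiv.apply_symm_apply]
  exact ⟨o, ((Quarter.mem_iff ⟨hQ, h2, o.2, ho⟩ hd hV).mpr hq), ho⟩

end Cfsg.Agent.Lib.K41.Der
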