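import Cfsg.Agent.Lib.K41.Der.Transfer
import Cfsg.Agent.Lib.Elusive19.OrthUnipotent

/-!
Elements of order `p` of orthogonal groups in odd characteristic `p` and the nondegenerate subspaces
which they fix.
-/

set_option autoImplicit false

namespace Cfsg.Agent.Lib.K41.Der

open Module QuadraticMap Cfsg.Agent.Lib.Forms Cfsg.Agent.Lib.JordanType Cfsg.Agent.Lib.Elusive
open Cfsg.Agent.Lib.Elusive.UnipotentType (parts)
open Cfsg.Agent.Lib.Elusive19.OrthUnipotent (EvenPaired Realises)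

variable {F : Type*} [Field F] {V : Type*} [AddCommGroup V] [Module F V]
variable {Q : QuadraticForm F V}

/-- An invariant nondegenerate subspace picks an admissible sub-partition; its parts bound the
nilpotency degree, and parts two only force the plus type. -/
theorem sub_parts [FiniteDimensional F V] (h2 : (2 : F) ≠ 0) (hQ : Nondeg Q) {s : ℕ} {d : Fin s → ℕ}
    {N : Module.End F V} (hd : ∀ k, 1 ≤ d k) (C : Coords N d) (hiso : ∀ x, Q (x + N x) = Q x)
    {W : Submodule F V} (hW : ∀ x ∈ W, N x ∈ W) (hWnd : NDeg Q W) :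
    ∃ ν, ν ≤ parts d ∧ ν.sum = finrank F W ∧ EvenPaired ν ∧
      ((∀ a ∈ ν, a ≤ 2) → ∀ x ∈ W, N (N x) = 0) ∧
      ((∀ a ∈ ν, a = 2) → Plus (res Q W)) := by
  classical
  have hnil : IsNilpotent N := ⟨∑ k, d k, C.pow_eq_zero_iff.2 fun k =>
    Finset.single_le_sum (fun i _ => Nat.zero_le (d i)) (Finset.mem_univ k)⟩
  have hpol : ∀ x y, polar Q (x + N x) (y + N y) = polar Q x y := fun x y =>
    polar_map (LinearMap.id + N) hiso x y
  let B : LinearMap.BilinForm F V := polarBilin Q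
  have hWb : (B.restrict W).Nondegenerate :=
    ⟨fun x hx => Subtype.ext (nDeg_iff.mp hWnd x x.2 fun y hy => hx ⟨y, hy⟩),
      fun x hx => Subtype.ext (nDeg_iff.mp hWnd x x.2 fun y hy => by
        rw [polar_comm]; exact hx ⟨y, hy⟩)⟩
  obtain ⟨-, hsupO, -⟩ := split_top hQ hWnd
  have hWs : ∀ w ∈ W, ∃ v ∈ W, v + N v = w := fun w hw => by
    let T : W →ₗ[F] W := LinearMap.id + N.restrict hW
    have hT : Function.Injective T := by
      refine (injective_iff_map_eq_zero T).2 fun v hv => Subtype.ext (hQ (v : V) fun y => ?_)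
      have hv' : (v : V) + N v = 0 := congrArg Subtype.val hv
      rw [← hpol, hv', polar_zero_left]
    obtain ⟨v, hv⟩ := LinearMap.injective_iff_surjective.1 hT ⟨w, hw⟩
    exact ⟨v, v.2, congrArg Subtype.val hv⟩
  have hO : ∀ x ∈ perp Q W, N x ∈ perp Q W := fun x hx => by
    rw [mem_perp] at hx ⊢
    intro w hw
    obtain ⟨v, hv, rfl⟩ := hWs w hw
    rw [show N x = (x + N x) - x by abel, polar_sub_right, hpol, hx v hv,
      hx _ (W.add_mem hv (hW v hv)), sub_zero]
  obtain ⟨ν, hν⟩ := Elusive.SympUnipotent.exists_parts hnil hW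
  obtain ⟨ν', hν'⟩ := Elusive.SympUnipotent.exists_parts hnil hO
  have htop := hν.sup hν' (nDeg_iff_inf_perp.mp hWnd)
  rw [hsupO] at htop
  have htop' : Elusive.SympUnipotent.HasParts N (⊤ : Submodule F V) (parts d) :=
    ⟨fun _ _ => trivial, s, d, hd, rfl, ⟨C.map Submodule.topEquiv.symm fun x => rfl⟩⟩
  have hsum := htop.unique htop'
  refine ⟨ν, hsum ▸ Multiset.le_add_right _ _, hν.finrank_eq.symm, ?_, ?_, ?_⟩
  · intro a ha
    obtain ⟨hX, t, c, hc1, rfl, ⟨C'⟩⟩ := hν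
    rcases Nat.eq_zero_or_pos a with rfl | ha0
    · have h0 : (parts c).count 0 = 0 := Multiset.count_eq_zero.2 fun h => by
        obtain ⟨k, -, hk⟩ := Multiset.mem_map.1 h
        have := hc1 k
        omega
      rw [h0]; exact Even.zero
    rw [Elusive.UnipotentType.count_parts]
    exact even_count_of_symm hWb (fun x y => polar_comm Q (x : V) y) h2
      (fun x y => hpol (x : V) y) C' ha ha0
  · intro hle x hx
    obtain ⟨hX, t, c, hc1, rfl, ⟨C'⟩⟩ := hν
    have h := C'.pow_eq_zero_iff.2 (fun k => hle _ (Multiset.mem_map_of_mem c (Finset.mem_univ k)))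
    exact congrArg Subtype.val (LinearMap.congr_fun h ⟨x, hx⟩)
  · intro htwo
    obtain ⟨hX, t, c, hc1, rfl, ⟨C'⟩⟩ := hν
    have hc2 : ∀ k, c k = 2 := fun k => htwo _ (Multiset.mem_map_of_mem c (Finset.mem_univ k))
    refine plus_res_iff.mpr ⟨W.map N, Submodule.map_le_iff_le_comap.2 fun x hx => hW x hx, ?_, ?_⟩
    · rintro _ ⟨x, hx, rfl⟩
      have hz : N (N x) = 0 := by
        have h := C'.pow_eq_zero_iff.2 (fun k => (hc2 k).le)
        exact congrArg Subtype.val (LinearMap.congr_fun h ⟨x, hx⟩)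
      have h1 := hpol x (N x)
      rw [hz, add_zero, polar_add_left] at h1
      have h3 : polar Q (N x) (N x) = 0 := by linear_combination h1
      rw [polar_self'] at h3
      exact (mul_eq_zero.1 h3).resolve_left h2
    · have hk := C'.finrank_ker_pow 1
      rw [pow_one] at hk
      have hr := LinearMap.finrank_range_add_finrank_ker (N.restrict hX)
      have hrange : finrank F (LinearMap.range (N.restrict hX)) = finrank F (W.map N) := by
        have hrc : (LinearMap.range (N.restrict hX)).map W.subtype = W.map N := by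
          rw [← LinearMap.range_comp,
            show W.subtype ∘ₗ N.restrict hX = N ∘ₗ W.subtype from rfl, LinearMap.range_comp,
            Submodule.range_subtype]
        rw [← hrc, Submodule.finrank_map_subtype_eq]
      have hs := C'.sum_eq_finrank
      simp only [hc2, min_eq_right (show 1 ≤ 2 by omega), Finset.sum_const, smul_eq_mul] at hk hs
      omega

/-- A unipotent isometry of type all twos. -/
theorem realises_twos [Finite F] [FiniteDimensional F V] (h2 : (2 : F) ≠ 0) (hQ : Nondeg Q) {d : ℕ}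
    (hd : Even d) (hV : finrank F V = 2 * d) (hP : Plus Q) : Realises Q (Multiset.replicate d 2) := by
  obtain ⟨j, rfl⟩ := hd.two_dvd
  obtain ⟨s, dd, Q', hQ', hR, hdd⟩ := Elusive19.OrthUnipotent.exists_space (F := F) h2
    (Multiset.replicate (2 * j) 2) (fun a ha => by rw [Multiset.eq_of_mem_replicate ha]; norm_num)
    (Elusive19.OrthUnipotent.evenPaired_replicate j)
  have hV' : finrank F (((k : Fin s) × Fin (dd k)) → F) = 2 * (2 * j) := by
    rw [Elusive19.OrthUnipotent.finrank_space, hdd, Multiset.sum_replicate, smul_eq_mul, mul_comm]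
  obtain ⟨s', d', N, hd', hμ, ⟨C⟩, hiso⟩ := id hR
  obtain ⟨ν, hν, hνs, -, -, hplus⟩ := sub_parts h2 hQ' hd' C hiso (W := ⊤) (fun _ _ => trivial)
    (nDeg_top_iff.mpr hQ')
  have h1 := (plus_congr (top_equiv Q')).mp (hplus fun a ha =>
    Multiset.eq_of_mem_replicate (hμ ▸ Multiset.mem_of_le hν ha))
  exact hR.congr (equiv_of_plus hQ hQ' hV hV' (iff_of_true h1 hP))

section Omega

variable {p : ℕ} [hp : Fact p.Prime] [CharP F p] [Finite F]
variable {ι : Type} [Fintype ι] [DecidableEq ι] {Qf : QuadraticForm F (ι → F)} {f : (ι → F) → F}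

/-- Unipotent isometries of exponent `p` lie in `Ω`. -/
theorem unip_omega (hpodd : p ≠ 2) (hf : ∀ v, f v = Qf v) (hQ : Nondeg Qf) (h5 : 5 ≤ Fintype.card ι)
    {N : Module.End F (ι → F)} (hiso : ∀ v, Qf (v + N v) = Qf v) (hNp : N ^ p = 0) (hN0 : N ≠ 0) :
    ∃ x : GL ι F, x ∈ Cfsg.Geo.omegaGL f ∧ orderOf x = p ∧
      (∃ z : F, ((x ^ p : GL ι F) : Matrix ι ι F) = z • (1 : Matrix ι ι F)) ∧
      (∀ z : F, (x : Matrix ι ι F) ≠ z • (1 : Matrix ι ι F)) ∧
      ∀ v, Matrix.toLin' (x : Matrix ι ι F) v = v + N v := by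
  have hgp : (1 + N) ^ p = (1 : Module.End F (ι → F)) := by
    rw [Elusive.UnipotentType.one_add_pow_char p N, hNp, add_zero]
  obtain ⟨x, hx, hxg⟩ := exists_omega hf hQ h5 (hp.out.odd_of_ne_two hpodd) (1 + N)
    (fun v => hiso v) hgp
  have hxp : x ^ p = 1 := Units.ext (Matrix.toLin'.injective (by
    rw [coe_pow_toLin, hxg, hgp, Units.val_one, Matrix.toLin'_one]; rfl))
  have hns : ∀ z : F, (x : Matrix ι ι F) ≠ z • (1 : Matrix ι ι F) := fun z hz => by
    have hN : N = (z - 1) • (1 : Module.End F (ι → F)) := LinearMap.ext fun v => by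
      have hv := LinearMap.congr_fun hxg v
      rw [hz, map_smul, Matrix.toLin'_one] at hv
      simp only [LinearMap.smul_apply, LinearMap.id_apply, LinearMap.add_apply, Module.End.one_apply] at hv
      rw [LinearMap.smul_apply, Module.End.one_apply, sub_smul, one_smul, hv, add_sub_cancel_left]
    rw [hN, _root_.smul_pow, one_pow] at hNp
    rcases smul_eq_zero.1 hNp with h0 | h0
    · rw [eq_zero_of_pow_eq_zero h0, zero_smul] at hN
      exact hN0 hN
    · rw [h0, smul_zero] at hN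
      exact hN0 hN
  refine ⟨x, hx, orderOf_eq_prime hxp fun h1 => hns 1 (by rw [h1, one_smul, Units.val_one]), ⟨1, ?_⟩, hns,
    fun v => by rw [hxg]; rfl⟩
  rw [hxp, one_smul, Units.val_one]

/-- An element of order `p` of a given type and the subspaces it fixes. -/
theorem exists_derange (hpodd : p ≠ 2) (hf : ∀ v, f v = Qf v) (hQ : Nondeg Qf) (h5 : 5 ≤ Fintype.card ι)
    {μ : Multiset ℕ} (hμ : ∀ a ∈ μ, a ≤ p) (hne : ∃ e ∈ μ, 2 ≤ e) (hR : Realises Qf μ) :
    ∃ x : GL ι F, x ∈ Cfsg.Geo.omegaGL f ∧ orderOf x = p ∧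
      (∃ z : F, ((x ^ p : GL ι F) : Matrix ι ι F) = z • (1 : Matrix ι ι F)) ∧
      (∀ z : F, (x : Matrix ι ι F) ≠ z • (1 : Matrix ι ι F)) ∧
      ∀ W : Submodule F (ι → F), W.map (Matrix.toLin' (x : Matrix ι ι F)) ≤ W → NDeg Qf W →
        (∃ ν, ν ≤ μ ∧ ν.sum = finrank F W ∧ EvenPaired ν ∧ ((∀ a ∈ ν, a = 2) → Plus (res Qf W))) ∧
        ∃ ν, ν ≤ μ ∧ ν.sum = finrank F (perp Qf W) ∧ EvenPaired ν ∧
          ((∀ a ∈ ν, a = 2) → Plus (res Qf (perp Qf W))) := by
  obtain ⟨s, d, N, hd, rfl, ⟨C⟩, hiso⟩ := hR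
  have h2 : (2 : F) ≠ 0 := Ring.two_ne_zero (by rwa [ringChar.eq F p])
  have hNp : N ^ p = 0 := C.pow_eq_zero_iff.mpr fun k => hμ _ (Multiset.mem_map_of_mem d (Finset.mem_univ k))
  have hNne : N ≠ 0 := fun h0 => by
    obtain ⟨e, he, he2⟩ := hne
    obtain ⟨k, -, rfl⟩ := Multiset.mem_map.1 he
    have := (C.pow_eq_zero_iff (j := 1)).1 (by rw [pow_one, h0]) k
    omega
  obtain ⟨x, hx, hord, hsc, hns, hxN⟩ := unip_omega hpodd hf hQ h5 hiso hNp hNne
  refine ⟨x, hx, hord, hsc, hns, fun W hW hWn => ?_⟩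
  have hWN : ∀ v ∈ W, N v ∈ W := fun v hv => by
    have h1 : v + N v ∈ W := hxN v ▸ hW ⟨v, hv, rfl⟩
    simpa using W.sub_mem h1 hv
  have hPN : ∀ v ∈ perp Qf W, N v ∈ perp Qf W := fun v hv => mem_perp.mpr fun w hw => by
    have hsurj : ∀ w ∈ W, ∃ u ∈ W, u + N u = w := fun w hw => by
      let T : W →ₗ[F] W := LinearMap.id + N.restrict hWN
      have hT : Function.Injective T := by
        refine (injective_iff_map_eq_zero T).2 fun u hu => Subtype.ext (hQ (u : ι → F) fun y => ?_)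
        have hu' : (u : ι → F) + N u = 0 := congrArg Subtype.val hu
        rw [← polar_map (LinearMap.id + N) hiso (u : ι → F) y]
        show polar Qf ((u : ι → F) + N u) _ = 0
        rw [hu', polar_zero_left]
      obtain ⟨u, hu⟩ := LinearMap.injective_iff_surjective.1 hT ⟨w, hw⟩
      exact ⟨u, u.2, congrArg Subtype.val hu⟩
    obtain ⟨u, hu, rfl⟩ := hsurj w hw
    have h1 : polar Qf (u + N u) (v + N v) = polar Qf u v := polar_map (LinearMap.id + N) hiso u v
    rw [polar_add_right, mem_perp.mp hv _ hw, mem_perp.mp hv u hu, zero_add] at h1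
    exact h1
  obtain ⟨ν, a1, a2, a3, -, a4⟩ := sub_parts h2 hQ hd C hiso hWN hWn
  obtain ⟨ν', b1, b2, b3, -, b4⟩ := sub_parts h2 hQ hd C hiso hPN (split_top hQ hWn).1
  exact ⟨⟨ν, a1, a2, a3, a4⟩, ν', b1, b2, b3, b4⟩

end Omega

/-- A sub-multiset of twos and two equal odd numbers. -/
theorem sub_two_pair {ν : Multiset ℕ} {j a : ℕ} (ha : Odd a)
    (hν : ν ≤ a ::ₘ a ::ₘ Multiset.replicate j 2) (hp : EvenPaired ν) :
    ∃ i, (ν.sum = 4 * i ∧ ∀ b ∈ ν, b = 2) ∨ ν.sum = 4 * i + a ∨ ν.sum = 4 * i + 2 * a := by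
  have hstep : ∀ {u : Multiset ℕ}, EvenPaired (a ::ₘ u) → EvenPaired u := fun h => h.of_cons ha
  have h2a : (2 : ℕ) ≠ a := fun h => Nat.not_even_iff_odd.mpr ha (h ▸ even_two)
  by_cases h1 : a ∈ ν
  · obtain ⟨t, rfl⟩ := Multiset.exists_cons_of_mem h1
    rw [Multiset.cons_le_cons_iff] at hν
    by_cases h3 : a ∈ t
    · obtain ⟨u, rfl⟩ := Multiset.exists_cons_of_mem h3
      obtain ⟨i, hi, -⟩ := Elusive19.OrthUnipotent.even_sum_replicate_two ((Multiset.cons_le_cons_iff _).1 hν)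
        (hstep (hstep hp))
      exact ⟨i, Or.inr (Or.inr (by simp [hi]; ring))⟩
    · obtain ⟨i, hi, -⟩ := Elusive19.OrthUnipotent.even_sum_replicate_two
        ((Multiset.le_cons_of_notMem h3).1 hν) (hstep hp)
      exact ⟨i, Or.inr (Or.inl (by simp [hi]; ring))⟩
  · rw [Multiset.le_cons_of_notMem h1, Multiset.le_cons_of_notMem h1] at hν
    obtain ⟨i, hi⟩ := Elusive19.OrthUnipotent.even_sum_replicate_two hν hp
    exact ⟨i, Or.inl hi⟩

/-- A sub-multiset of twos and one odd number. -/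
theorem sub_two_one {ν : Multiset ℕ} {j a : ℕ} (ha : Odd a)
    (hν : ν ≤ a ::ₘ Multiset.replicate j 2) (hp : EvenPaired ν) :
    ∃ i, (ν.sum = 4 * i ∧ ∀ b ∈ ν, b = 2) ∨ ν.sum = 4 * i + a := by
  by_cases h1 : a ∈ ν
  · obtain ⟨t, rfl⟩ := Multiset.exists_cons_of_mem h1
    obtain ⟨i, hi, -⟩ := Elusive19.OrthUnipotent.even_sum_replicate_two
      ((Multiset.cons_le_cons_iff _).1 hν) (hp.of_cons ha)
    exact ⟨i, Or.inr (by simp [hi]; ring)⟩
  · obtain ⟨i, hi⟩ := Elusive19.OrthUnipotent.even_sum_replicate_two ((Multiset.le_cons_of_notMem h1).1 hν) hp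
    exact ⟨i, Or.inl hi⟩

/-- In twice an odd dimension some element of order `p` fixes no nondegenerate subspace of dimension
`m`, `m` odd. -/
theorem derange_odd_dim {p : ℕ} [hp : Fact p.Prime] [CharP F p] [Finite F] (hpodd : p ≠ 2)
    {ι : Type} [Fintype ι] [DecidableEq ι] {Qf : QuadraticForm F (ι → F)} {f : (ι → F) → F}
    (hf : ∀ v, f v = Qf v) (hQ : Nondeg Qf) {d m : ℕ} (hd : Odd d) (hd5 : 5 ≤ d)
    (hcard : Fintype.card ι = 2 * d) (hm : Odd m) :
    ∃ x : GL ι F, x ∈ Cfsg.Geo.omegaGL f ∧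
      (∃ z : F, ((x ^ p : GL ι F) : Matrix ι ι F) = z • (1 : Matrix ι ι F)) ∧
      (∀ z : F, (x : Matrix ι ι F) ≠ z • (1 : Matrix ι ι F)) ∧
      ∀ W : Submodule F (ι → F), W.map (Matrix.toLin' (x : Matrix ι ι F)) ≤ W → NDeg Qf W →
        finrank F W ≠ m := by
  have h2 : (2 : F) ≠ 0 := Ring.two_ne_zero (by rwa [ringChar.eq F p])
  have hp3 : 3 ≤ p := by have := hp.out.two_le; omega
  have hd1 := Nat.odd_iff.mp hd
  have hm1 := Nat.odd_iff.mp hm
  obtain ⟨a, j, ha, hsum, ha3, hj, hma⟩ : ∃ a j : ℕ, Odd a ∧ 2 * a + 4 * j = 2 * d ∧ a ≤ 3 ∧ 1 ≤ j ∧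
      ∀ i, 4 * i + a ≠ m := by
    by_cases h : m % 4 = 3
    · exact ⟨1, d / 2, odd_one, by omega, by omega, by omega, fun i => by omega⟩
    · exact ⟨3, (d - 3) / 2, by decide, by omega, le_rfl, by omega, fun i => by omega⟩
  have hmem : ∀ b ∈ a ::ₘ a ::ₘ Multiset.replicate (2 * j) 2, b = a ∨ b = 2 := fun b hb => by
    rcases Multiset.mem_cons.mp hb with h | hb
    · exact Or.inl h
    rcases Multiset.mem_cons.mp hb with h | hb
    · exact Or.inl h
    · exact Or.inr (Multiset.eq_of_mem_replicate hb)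
  obtain ⟨x, hx, -, hsc, hns, hW⟩ := exists_derange hpodd hf hQ (by omega)
    (μ := a ::ₘ a ::ₘ Multiset.replicate (2 * j) 2) (fun b hb => by rcases hmem b hb with rfl | rfl <;> omega)
    ⟨2, Multiset.mem_cons_of_mem (Multiset.mem_cons_of_mem (Multiset.mem_replicate.mpr ⟨by omega, rfl⟩)), le_rfl⟩
    (Elusive19.OrthUnipotent.realise h2 hQ (fun b hb => by rcases hmem b hb with rfl | rfl <;> [exact ha.pos; omega])
      (((Elusive19.OrthUnipotent.evenPaired_replicate j).cons ha).cons ha)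
      (by simp [finrank_fintype_fun_eq_card, hcard]; omega)
      ⟨a, Multiset.mem_cons_self _ _, ha⟩)
  refine ⟨x, hx, hsc, hns, fun W hmap hWn hWd => ?_⟩
  obtain ⟨⟨ν, hν, hνs, hνp, -⟩, -⟩ := hW W hmap hWn
  obtain ⟨i, ⟨h, -⟩ | h | h⟩ := sub_two_pair ha hν hνp
  · omega
  · exact hma i (by omega)
  · omega

end Cfsg.Agent.Lib.K41.Der
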