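import Cfsg.Agent.Lib.K41.Der.Invariant
import Cfsg.Agent.Lib.Elusive.SympBlocks

/-!
Isometries of odd prime order with a given number of pieces, chosen so that their invariant totally
singular subspaces meet few pieces.
-/

set_option autoImplicit false

namespace Cfsg.Agent.Lib.K41.Der

open Module QuadraticMap Polynomial Cfsg.Agent.Lib.Forms Cfsg.Agent.Lib.Elusive

variable {F : Type*} [Field F] [Fintype F] {V : Type*} [AddCommGroup V] [Module F V]
  [FiniteDimensional F V]
variable {Q : QuadraticForm F V} {r : ℕ} [hr : Fact r.Prime]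

omit [Fintype F] hr in
/-- An isometry on an isometric copy of a space, the identity on the orthogonal. -/
theorem extend_iso {V' : Type*} [AddCommGroup V'] [Module F V'] [FiniteDimensional F V']
    (hQ : Nondeg Q) {R : QuadraticForm F V'} {U : Submodule F V} (e : R.IsometryEquiv (res Q U))
    (hU : NDeg Q U) (g : Module.End F V') (hg : ∀ v, R (g v) = R v) :
    ∃ f : Module.End F V, (∀ v, Q (f v) = Q v) ∧ (∀ v ∈ perp Q U, f v = v) ∧
      ∀ x, f ((e x : U) : V) = ((e (g x) : U) : V) := by
  obtain ⟨hPn, hsup, hd⟩ := split_top hQ hU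
  have hc : IsCompl U (perp Q U) :=
    ⟨disjoint_iff.mpr (nDeg_iff_inf_perp.mp hU), codisjoint_iff.mpr hsup⟩
  let f : Module.End F V :=
    (U.subtype ∘ₗ e.toLinearEquiv.toLinearMap ∘ₗ g ∘ₗ e.toLinearEquiv.symm.toLinearMap ∘ₗ
      Submodule.projectionOnto U (perp Q U) hc) +
    ((perp Q U).subtype ∘ₗ Submodule.projectionOnto (perp Q U) U hc.symm)
  have hfU : ∀ x, f ((e x : U) : V) = ((e (g x) : U) : V) := by
    intro x
    simp only [f, LinearMap.add_apply, LinearMap.comp_apply, Submodule.subtype_apply,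
      LinearEquiv.coe_coe, Submodule.projectionOnto_apply_left]
    rw [Submodule.projectionOnto_apply_of_mem_right hc.symm (e x).2, ZeroMemClass.coe_zero, add_zero]
    exact congrArg (fun z => ((e (g z) : U) : V)) (e.toLinearEquiv.symm_apply_apply x)
  have hfP : ∀ v ∈ perp Q U, f v = v := by
    intro v hv
    simp only [f, LinearMap.add_apply, LinearMap.comp_apply, Submodule.subtype_apply, LinearEquiv.coe_coe]
    rw [Submodule.projectionOnto_apply_of_mem_right hc hv, map_zero, map_zero, map_zero,
      ZeroMemClass.coe_zero, zero_add, Submodule.projectionOnto_apply_of_mem_left hc.symm hv]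
  refine ⟨f, fun v => ?_, hfP, hfU⟩
  obtain ⟨u, hu, w, hw, rfl⟩ := Submodule.mem_sup.mp (hsup.ge (Submodule.mem_top (x := v)))
  obtain ⟨x, hx⟩ := e.toLinearEquiv.surjective ⟨u, hu⟩
  have hux : u = ((e x : U) : V) := (congrArg Subtype.val hx).symm
  have hRe : ∀ y, Q ((e y : U) : V) = R y := fun y => e.map_app y
  rw [map_add, hfP w hw, hux, hfU, Q_add, Q_add, hRe, hRe, hg, mem_perp.mp hw _ (e (g x)).2,
    mem_perp.mp hw _ (e x).2]

omit [FiniteDimensional F V] in
/-- A fixed-point free element in the dimension of one piece. -/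
theorem exists_fpf_piece (hr2 : r ≠ 2) (hrF : (r : F) ≠ 0) :
    ∃ (R : QuadraticForm F (Fin (pdim (orderOf (Fintype.card F : ZMod r))) → F))
      (g : Module.End F (Fin (pdim (orderOf (Fintype.card F : ZMod r))) → F)),
      Rot R g r ∧ fx g = ⊥ := by
  classical
  set i := orderOf (Fintype.card F : ZMod r) with hi
  have hipos : 0 < i := orderOf_card_pos hrF
  have hN : Nat.card F = Fintype.card F := Nat.card_eq_fintype_card
  obtain ⟨R, hR, hdvd⟩ : ∃ R : QuadraticForm F (Fin (pdim i) → F), Nondeg R ∧ r ∣ levelCard R 1 := by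
    have mk : ∀ {U : Type _} [AddCommGroup U] [Module F U] [FiniteDimensional F U] (R' : QuadraticForm F U),
        finrank F U = pdim i → Nondeg R' → r ∣ levelCard R' 1 →
        ∃ R : QuadraticForm F (Fin (pdim i) → F), Nondeg R ∧ r ∣ levelCard R 1 := by
      intro U _ _ _ R' hd hn hdv
      let e : U ≃ₗ[F] (Fin (pdim i) → F) := LinearEquiv.ofFinrankEq _ _ (by simp [hd])
      let E : R'.IsometryEquiv (R'.comp e.symm.toLinearMap) :=
        { e with map_app' := fun x => congrArg R' (e.symm_apply_apply x) }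
      exact ⟨_, hn.of_equiv E, by rwa [levelCard, ← card_level_congr ⟨E⟩ 1]⟩
    by_cases hie : Even i
    · obtain ⟨j, hj⟩ := hie
      obtain ⟨k, rfl⟩ : ∃ k, j = k + 1 := ⟨j - 1, by omega⟩
      obtain ⟨a, b, hab⟩ := exists_aniso (F := F)
      refine mk (qMinus k a b) ?_ (qMinus_nondeg k hab) ?_
      · simp [pdim, if_pos (show Even i from ⟨k + 1, hj⟩)]
        omega
      · rw [levelCard_qMinus k hab one_ne_zero, hN]
        refine dvd_mul_of_dvd_left ((ZMod.natCast_eq_zero_iff _ _).mp ?_) _
        push_cast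
        have h1 : ((Fintype.card F : ZMod r) ^ (k + 1) - 1) * ((Fintype.card F : ZMod r) ^ (k + 1) + 1) = 0 := by
          have h2 := pow_orderOf_eq_one (Fintype.card F : ZMod r)
          rw [← hi, hj] at h2
          linear_combination h2
        rcases mul_eq_zero.mp h1 with h2 | h2
        · exfalso
          have h3 := Nat.le_of_dvd k.succ_pos (orderOf_dvd_of_pow_eq_one (sub_eq_zero.mp h2))
          omega
        · exact h2
    · refine mk (qPlus i) ?_ (qPlus_nondeg i) ?_
      · simp [pdim, if_neg hie]; omega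
      · rw [levelCard_qPlus i one_ne_zero, hN]
        refine dvd_mul_of_dvd_left ((ZMod.natCast_eq_zero_iff _ _).mp ?_) _
        rw [Nat.cast_sub (Nat.one_le_pow _ _ Fintype.card_pos), Nat.cast_pow, hi, pow_orderOf_eq_one,
          Nat.cast_one, sub_self]
  -- the orthogonal group is transitive on that level set
  letI : MulAction (orth R) {x // R x = (1 : F)} := MulAction.compHom _ (levelPerm R 1)
  obtain ⟨x₀⟩ : Nonempty {x // R x = (1 : F)} := by
    obtain ⟨v, hv⟩ := exists_Q_eq hR (by
      simp only [finrank_fintype_fun_eq_card, Fintype.card_fin]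
      unfold pdim; split
      · next he => obtain ⟨k, hk⟩ := he; omega
      · omega) 1
    exact ⟨⟨v, hv⟩⟩
  have horb : MulAction.orbit (orth R) x₀ = Set.univ := Set.eq_univ_of_forall fun y => by
    have h0 : ∀ z : {x // R x = (1 : F)}, (z : Fin (pdim i) → F) ≠ 0 := fun z hz => by
      have := z.2
      rw [hz, QuadraticMap.map_zero] at this
      exact zero_ne_one this
    obtain ⟨g, hg, hgx⟩ := witt_one hR (h0 x₀) (h0 y) (x₀.2.trans y.2.symm)
    exact ⟨⟨g, hg⟩, Subtype.ext hgx⟩
  have hdG : r ∣ Nat.card (orth R) := by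
    have h1 := (MulAction.stabilizer (orth R) x₀).index_dvd_card
    rw [MulAction.index_stabilizer, horb, Set.ncard_univ] at h1
    exact hdvd.trans h1
  haveI : Finite ((Fin (pdim i) → F) ≃ₗ[F] (Fin (pdim i) → F)) :=
    Finite.of_injective _ DFunLike.coe_injective
  obtain ⟨o, ho⟩ := exists_prime_orderOf_dvd_card' r hdG
  have hpow : ∀ k : ℕ, ((o ^ k : orth R) : (Fin (pdim i) → F) ≃ₗ[F] _).toLinearMap = o.1.toLinearMap ^ k := by
    intro k
    induction k with
    | zero => rfl
    | succ k ih => rw [pow_succ, pow_succ, ← ih]; rfl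
  have hRot : Rot R o.1.toLinearMap r := ⟨hR, o.2, by
    rw [← hpow, ← ho, pow_orderOf_eq_one]; rfl, hr2, hrF⟩
  refine ⟨R, _, hRot, ?_⟩
  obtain ⟨s, hs, -, hs1⟩ := hRot.moved_dim
  have h1 := hs1 fun he => by
    have ho1 : o = 1 := Subtype.ext (LinearEquiv.ext fun v => LinearMap.congr_fun he v)
    rw [ho1, orderOf_one] at ho
    exact hr.out.one_lt.ne ho
  obtain ⟨-, -, -, h4⟩ := hRot.moved
  rw [finrank_fintype_fun_eq_card, Fintype.card_fin, hs, ← hi] at h4
  have := Nat.le_mul_of_pos_left (pdim i) h1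
  exact Submodule.finrank_eq_zero.mp (by omega)

omit [FiniteDimensional F V] in
/-- Block models. -/
theorem exists_blocks (hr2 : r ≠ 2) (hrF : (r : F) ≠ 0) (s : ℕ) :
    ∃ (R : QuadraticForm F (Fin s → Fin (pdim (orderOf (Fintype.card F : ZMod r))) → F))
      (g : Module.End F (Fin s → Fin (pdim (orderOf (Fintype.card F : ZMod r))) → F)),
      Rot R g r ∧ fx g = ⊥ ∧
      (Even (orderOf (Fintype.card F : ZMod r)) → ∀ W, Inv g W → Sing R W →
        2 * finrank F W ≤ (s - (r - 1) / orderOf (Fintype.card F : ZMod r) + 1) *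
          orderOf (Fintype.card F : ZMod r)) := by
  classical
  set i := orderOf (Fintype.card F : ZMod r) with hi
  set c := pdim i with hc
  set T := (r - 1) / i with hT
  obtain ⟨R₀, g₀, hg₀, hfix₀⟩ : ∃ (R₀ : QuadraticForm F (Fin c → F)) (g₀ : Module.End F (Fin c → F)),
      Rot R₀ g₀ r ∧ fx g₀ = ⊥ := exists_fpf_piece (F := F) hr2 hrF
  have hipos : 0 < i := orderOf_card_pos hrF
  have hTpos : 0 < T := Nat.div_pos (Nat.le_of_dvd (by have := hr.out.two_le; omega)
    (by rw [hi]; exact orderOf_dvd_of_pow_eq_one (ZMod.pow_card_sub_one_eq_one (card_cast_ne_zero hrF)))) hipos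
  obtain ⟨a, ha0, ha⟩ := SympBlocks.exists_reps (r := r) hrF
  have hlab : ∀ j : Fin s, min (j : ℕ) (T - 1) < T := fun j => by omega
  let lab : Fin s → Fin T := fun j => ⟨_, hlab j⟩
  let G : Fin s → Module.End F (Fin c → F) := fun j => g₀ ^ a (lab j)
  let R := QuadraticMap.pi fun _ : Fin s => R₀
  let g : Module.End F (Fin s → Fin c → F) := LinearMap.pi fun j => (G j).comp (LinearMap.proj j)
  have hR : Nondeg R := fun x hx => funext fun j => hg₀.nondeg _ fun y => by
    have h1 := hx (Pi.single j y)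
    rw [QuadraticMap.Ring.polar_pi, Finset.sum_eq_single j (fun b _ hb => by
      rw [Pi.single_eq_of_ne hb, QuadraticMap.polar_zero_right]) (by simp), Pi.single_eq_same] at h1
    exact h1
  have hgv : ∀ x j, g x j = G j (x j) := fun x j => rfl
  have hpow : ∀ k x j, (g ^ k) x j = (G j ^ k) (x j) := by
    intro k
    induction k with
    | zero => intro x j; rfl
    | succ k ih => intro x j; rw [pow_succ', pow_succ', Module.End.mul_apply, Module.End.mul_apply, hgv, ih]
  have hiso : ∀ x, R (g x) = R x := fun x => by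
    simp only [R, QuadraticMap.pi_apply, hgv]
    exact Finset.sum_congr rfl fun j _ => hg₀.iso_pow _ _
  have hgr : g ^ r = 1 := LinearMap.ext fun x => funext fun j => by
    rw [hpow]
    show ((g₀ ^ a (lab j)) ^ r) (x j) = x j
    rw [← _root_.pow_mul, mul_comm, _root_.pow_mul, hg₀.pow, one_pow, Module.End.one_apply]
  have hRot : Rot R g r := ⟨hR, hiso, hgr, hr2, hrF⟩
  have hGfix : ∀ j v, G j v = v → v = 0 := fun j v hv => by
    have hW : Inv (g₀ ^ a (lab j)) (Submodule.span F {v}) := Inv.of_mem fun x hx => by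
      obtain ⟨b, rfl⟩ := Submodule.mem_span_singleton.mp hx
      rw [map_smul, show (g₀ ^ a (lab j)) v = v from hv]
      exact Submodule.mem_span_singleton.mpr ⟨b, rfl⟩
    by_contra hv0
    obtain ⟨k, hk⟩ := hg₀.uniform.exists_type (SympBlocks.inv_of_pow hg₀.pow (ha0 _) hW)
    have hb : Submodule.span F {v} ⊓ End.eigenspace g₀ (1 : F) = ⊥ :=
      le_bot_iff.mp (inf_le_right.trans hfix₀.le)
    have h1 := hk.2.2
    rw [hb, finrank_bot, zero_add, finrank_span_singleton hv0, ← hi] at h1
    have hi1 : i = 1 := Nat.eq_one_of_mul_eq_one_left h1.symm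
    -- a fixed vector of a power prime to `r` is fixed
    have hvfix : g₀ v = v := by
      obtain ⟨b, hb⟩ : ∃ b : ℕ, (((a (lab j)) * b : ℕ) : ZMod r) = 1 :=
        ⟨((a (lab j) : ZMod r)⁻¹).val, by
          rw [Nat.cast_mul, ZMod.natCast_val, ZMod.cast_id, mul_inv_cancel₀ (ha0 _)]⟩
      have hb' : ∀ k, ((g₀ ^ a (lab j)) ^ k) v = v := by
        intro k
        induction k with
        | zero => rfl
        | succ k ih => rw [pow_succ, Module.End.mul_apply, show (g₀ ^ a (lab j)) v = v from hv, ih]
      have h2 := hb' b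
      rw [← Nat.cast_one, ZMod.natCast_eq_natCast_iff'] at hb
      rwa [← _root_.pow_mul, ← Nat.mod_add_div (a (lab j) * b) r, hb, pow_add, _root_.pow_mul, hg₀.pow,
        one_pow, mul_one, Nat.mod_eq_of_lt hr.out.one_lt, pow_one] at h2
    exact hv0 ((Submodule.mem_bot F).mp (hfix₀.le (mem_fx.mpr hvfix)))
  have hfix : fx g = ⊥ := (Submodule.eq_bot_iff _).mpr fun x hx => funext fun j =>
    hGfix j _ (congrFun (mem_fx.mp hx) j)
  refine ⟨R, g, hRot, hfix, fun hie W hW hWs => ?_⟩
  have hci : c = i := by rw [hc, pdim, if_pos hie]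
  haveI : Nonempty (Fin c) := ⟨⟨0, by omega⟩⟩
  have hirr : ∀ W : Submodule F (Fin c → F), Inv g₀ W → W ≠ ⊥ → W = ⊤ := by
    intro W hW hne
    obtain ⟨v, hv, hv0⟩ := Submodule.exists_mem_ne_zero_of_ne_bot hne
    refine top_unique (Decomp.piece_le hg₀.uniform ⟨Inv.top g₀, ?_, ?_⟩ hW trivial hv0 hv)
    · rw [top_inf_eq]; exact (congrArg (fun U : Submodule F (Fin c → F) => finrank F U) hfix₀).trans (finrank_bot F _)
    · rw [finrank_top, finrank_fintype_fun_eq_card, Fintype.card_fin, hci, zero_add, one_mul]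
  have hfix' : ∀ v, g₀ v = v → v = 0 := fun v hv => (Submodule.mem_bot F).mp (hfix₀.le (mem_fx.mpr hv))
  have hWim : ∀ P : F[X], ∀ w ∈ W, aeval g P w ∈ W := by
    intro P w hw
    rw [aeval_eq_sum_range, LinearMap.sum_apply]
    exact W.sum_mem fun k _ => W.smul_mem _ (pow_mem_of_inv hW hw k)
  have haev : ∀ (P : F[X]) x j, aeval g P x j = aeval (G j) P (x j) := by
    intro P x j
    induction P using Polynomial.induction_on' with
    | add p q hp hq => simp [hp, hq]
    | monomial k b => simp [aeval_monomial, hpow]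
  have hzero : ∀ j : Fin s, (j : ℕ) < T - 1 → ∀ w ∈ W, w j = 0 := by
    intro j hj w hw
    have hlne : ∀ j', j' ≠ j → lab j' ≠ lab j := fun j' hne he => by
      have h1 : min (j' : ℕ) (T - 1) = min (j : ℕ) (T - 1) := congrArg Fin.val he
      exact hne (Fin.ext (by omega))
    let H : F[X] := ∏ l ∈ Finset.univ.erase (lab j), minpoly F (g₀ ^ a l)
    have hinj : Function.Injective (aeval (G j) H) := by
      suffices hall : ∀ S : Finset (Fin T), lab j ∉ S →
          Function.Injective (aeval (G j) (∏ l ∈ S, minpoly F (g₀ ^ a l))) from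
        hall _ (Finset.notMem_erase _ _)
      intro S
      induction S using Finset.induction_on with
      | empty => intro _; rw [Finset.prod_empty, map_one]; exact fun _ _ h => h
      | insert l S hl ih =>
        intro hnot
        rw [Finset.prod_insert hl, map_mul, Module.End.coe_mul]
        refine Function.Injective.comp ?_ (ih fun h => hnot (Finset.mem_insert_of_mem h))
        by_contra hcon
        obtain ⟨k', hk'⟩ := SympBlocks.injective_or_orbit hg₀.pow hfix' hirr _ _ hcon
        exact hnot (ha l (lab j) k' hk' ▸ Finset.mem_insert_self _ _)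
    let S : Submodule F (Fin c → F) := W.comap (LinearMap.single F (fun _ : Fin s => Fin c → F) j)
    have hS : Inv g₀ S := by
      refine SympBlocks.inv_of_pow hg₀.pow (ha0 (lab j)) (Inv.of_mem fun u hu => ?_)
      show Pi.single j (G j u) ∈ W
      have h2 : Pi.single j (G j u) = g (Pi.single j u) := by
        funext j'
        rcases eq_or_ne j' j with rfl | hne <;> simp [g, *]
      rw [h2]
      exact hW.mem hu
    have hSbot : S = ⊥ := by
      by_contra hne
      have htop := hirr S hS hne
      obtain ⟨u, hu⟩ := exists_Q_eq hg₀.nondeg (by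
        rw [finrank_fintype_fun_eq_card, Fintype.card_fin]
        have := even_pdim i
        rw [← hc] at this
        obtain ⟨k, hk⟩ := this
        omega) 1
      have h1 := hWs _ (htop.ge (Submodule.mem_top (x := u)) : Pi.single j u ∈ W)
      have h2 : R (Pi.single j u) = 1 := (QuadraticMap.pi_apply_single _ _ _).trans hu
      exact one_ne_zero (h2.symm.trans h1)
    have hmem : aeval (G j) H (w j) ∈ S := by
      show Pi.single j (aeval (G j) H (w j)) ∈ W
      convert hWim H w hw using 1
      funext j'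
      rcases eq_or_ne j' j with rfl | hne
      · rw [Pi.single_eq_same, haev]
      · rw [Pi.single_eq_of_ne hne, haev]
        obtain ⟨H', hH'⟩ : minpoly F (G j') ∣ H :=
          Finset.dvd_prod_of_mem (fun l => minpoly F (g₀ ^ a l))
            (Finset.mem_erase.mpr ⟨hlne j' hne, Finset.mem_univ _⟩)
        rw [hH', map_mul, minpoly.aeval, zero_mul, LinearMap.zero_apply]
    rw [hSbot, Submodule.mem_bot] at hmem
    exact (map_eq_zero_iff _ hinj).mp hmem
  -- embed in the last class
  let idx : Fin (s - (T - 1)) → Fin s := fun j' => ⟨T - 1 + j', by omega⟩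
  let Ψ : W →ₗ[F] (Fin (s - (T - 1)) → Fin c → F) :=
    (LinearMap.pi fun j' => LinearMap.proj (idx j')) ∘ₗ W.subtype
  have hsplit : ∀ j : Fin s, (j : ℕ) < T - 1 ∨ ∃ j', idx j' = j := fun j => by
    rcases lt_or_ge (j : ℕ) (T - 1) with h | h
    · exact Or.inl h
    · exact Or.inr ⟨⟨j - (T - 1), by omega⟩, Fin.ext (by simp only [idx]; omega)⟩
  have hΨ : Function.Injective Ψ := (injective_iff_map_eq_zero Ψ).mpr fun w hw => Subtype.ext (funext fun j => by
    rcases hsplit j with hj | ⟨j', rfl⟩
    · exact hzero j hj _ w.2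
    · exact congrFun hw j')
  have hsing : Sing (QuadraticMap.pi fun _ : Fin (s - (T - 1)) => R₀) (LinearMap.range Ψ) := by
    rintro _ ⟨w, rfl⟩
    have h1 := hWs _ w.2
    rw [QuadraticMap.pi_apply] at h1 ⊢
    show ∑ j', R₀ ((w : Fin s → Fin c → F) (idx j')) = 0
    rw [← h1]
    refine Finset.sum_of_injOn idx ?_ ?_ ?_ ?_
    · exact fun x _ y _ h => Fin.ext (by have := congrArg Fin.val h; simp only [idx] at this; omega)
    · exact fun x _ => Finset.mem_univ _
    · intro j _ hj
      rcases hsplit j with h | ⟨j', rfl⟩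
      · rw [hzero j h _ w.2, QuadraticMap.map_zero]
      · exact absurd ⟨j', Finset.mem_univ _, rfl⟩ hj
    · exact fun _ _ => rfl
  have h1 := sing_finrank_le (Q := QuadraticMap.pi fun _ : Fin (s - (T - 1)) => R₀) (fun x hx => funext fun j =>
    hg₀.nondeg _ fun y => by
      have h1 := hx (Pi.single j y)
      rw [QuadraticMap.Ring.polar_pi, Finset.sum_eq_single j (fun b _ hb => by
        rw [Pi.single_eq_of_ne hb, QuadraticMap.polar_zero_right]) (by simp), Pi.single_eq_same] at h1
      exact h1) hsing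
  rw [LinearMap.finrank_range_of_inj hΨ, finrank_pi_fintype, Finset.sum_congr rfl (fun _ _ => finrank_fintype_fun_eq_card (R := F) (η := Fin c)),
    Fintype.card_fin, Finset.sum_const, Finset.card_univ, Fintype.card_fin, smul_eq_mul] at h1
  exact h1.trans (Nat.mul_le_mul (by omega) hci.le)

/-- A witness with `s` pieces. -/
theorem exists_rot (hQ : Nondeg Q) (hr2 : r ≠ 2) (hrF : (r : F) ≠ 0) {s : ℕ}
    (hs : Adm (finrank F V) (Plus Q) (orderOf (Fintype.card F : ZMod r)) s) :
    ∃ f : Module.End F V, Rot Q f r ∧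
      finrank F (perp Q (fx f)) = s * pdim (orderOf (Fintype.card F : ZMod r)) ∧
      (Even (orderOf (Fintype.card F : ZMod r)) → ∀ W, Inv f W → Sing Q W →
        2 * finrank F ↥(W ⊓ perp Q (fx f)) ≤ (s - (r - 1) / orderOf (Fintype.card F : ZMod r) + 1) *
          orderOf (Fintype.card F : ZMod r)) := by
  obtain ⟨R, g, hg, hgfix, hgb⟩ := exists_blocks (F := F) hr2 hrF s
  let i := orderOf (Fintype.card F : ZMod r)
  let M := Fin s → Fin (pdim i) → F
  have hMd : finrank F M = s * pdim i := by simp [M, finrank_pi_fintype]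
  obtain ⟨hs1, hs2⟩ := hs
  have hemb : Embeds R (res Q (⊤ : Submodule F V)) := by
    rcases eq_or_lt_of_le hs1 with he | he
    · refine embeds_of_eq hg.nondeg (nDeg_top_iff.mpr hQ) (by rw [hMd, he, finrank_top]) (by
        rw [finrank_top, ← he]; exact (even_pdim i).mul_left s) ?_
      rw [plus_congr (top_equiv Q)]
      obtain ⟨hZ, hZn, hZE, hdim⟩ := hg.moved
      obtain ⟨t, ht, htP⟩ := hg.fpf_dim hZ hZn hZE
      have htop : perp R (fx g) = ⊤ := Submodule.eq_top_of_finrank_eq (by rw [hgfix, finrank_bot] at hdim; rw [hdim, zero_add, hgfix])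
      have hts : t = s := Nat.eq_of_mul_eq_mul_right (pdim_pos (orderOf_card_pos (F := F) (r := r) hrF))
        (by rw [← ht, htop, finrank_top]; exact hMd)
      rw [htop, plus_congr (top_equiv R), hts] at htP
      exact htP.trans (hs2 he).symm
    · exact embeds_of_lt hg.nondeg (nDeg_top_iff.mpr hQ) (by rw [hMd, finrank_top]; exact he)
  obtain ⟨U, -, hU, ⟨e⟩, hUd⟩ := hemb.image hg.nondeg
  obtain ⟨f, hiso, hfP, hfU⟩ := extend_iso hQ e hU g hg.iso
  obtain ⟨hPn, hsup, hd⟩ := split_top hQ hU
  have hfUk : ∀ k x, (f ^ k) ((e x : U) : V) = ((e ((g ^ k) x) : U) : V) := by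
    intro k
    induction k with
    | zero => intro x; rfl
    | succ k ih => intro x; rw [pow_succ', pow_succ', Module.End.mul_apply, Module.End.mul_apply, ih, hfU]
  have hfr : f ^ r = 1 := LinearMap.ext fun v => by
    obtain ⟨u, hu, w, hw, rfl⟩ := Submodule.mem_sup.mp (hsup.ge (Submodule.mem_top (x := v)))
    obtain ⟨x, hx⟩ := e.toLinearEquiv.surjective ⟨u, hu⟩
    have hux : u = ((e x : U) : V) := (congrArg Subtype.val hx).symm
    have hw' : ∀ k, (f ^ k) w = w := fun k => by
      induction k with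
      | zero => rfl
      | succ k ih => rw [pow_succ', Module.End.mul_apply, ih, hfP w hw]
    rw [map_add, hw', hux, hfUk, hg.pow]
    rfl
  have hRot : Rot Q f r := ⟨hQ, hiso, hfr, hr2, hrF⟩
  have hfx : fx f = perp Q U := by
    refine le_antisymm (fun v hv => ?_) fun w hw => mem_fx.mpr (hfP w hw)
    obtain ⟨u, hu, w, hw, rfl⟩ := Submodule.mem_sup.mp (hsup.ge (Submodule.mem_top (x := v)))
    obtain ⟨x, hx⟩ := e.toLinearEquiv.surjective ⟨u, hu⟩
    have hux : u = ((e x : U) : V) := (congrArg Subtype.val hx).symm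
    have h1 := mem_fx.mp hv
    rw [map_add, hfP w hw, hux, hfU] at h1
    have h2 : g x = x := e.toLinearEquiv.injective (Subtype.ext (add_right_cancel h1))
    have h3 : x = 0 := (Submodule.mem_bot F).mp (hgfix.le (mem_fx.mpr h2))
    rw [hux, h3, show ((e (0 : M) : U) : V) = 0 from congrArg Subtype.val (map_zero e.toLinearEquiv), zero_add]
    exact hw
  have hperp : perp Q (fx f) = U := by
    rw [hfx]
    exact LinearMap.BilinForm.orthogonal_orthogonal hQ.polarBilin
      (fun x y h => (polar_comm Q y x).trans h) U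
  refine ⟨f, hRot, by rw [hperp, hUd, hMd], fun hie W hW hWs => ?_⟩
  rw [hperp]
  let ι : M →ₗ[F] V := U.subtype ∘ₗ e.toLinearEquiv.toLinearMap
  have hι : Function.Injective ι := Subtype.val_injective.comp e.toLinearEquiv.injective
  have hrange : LinearMap.range ι = U := by
    rw [LinearMap.range_comp, LinearEquiv.range, Submodule.map_top, Submodule.range_subtype]
  let W' := (W ⊓ U).comap ι
  have hmap : W'.map ι = W ⊓ U := by
    rw [Submodule.map_comap_eq, hrange, inf_comm, inf_assoc, inf_idem]
  have h1 := hgb hie W' (Inv.of_mem fun x hx => by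
    show ι (g x) ∈ W ⊓ U
    rw [show ι (g x) = f (ι x) from (hfU x).symm]
    exact ⟨hW.mem hx.1, by rw [show f (ι x) = ι (g x) from hfU x]; exact (e (g x)).2⟩)
    fun x hx => (e.map_app x).symm.trans (hWs _ hx.1)
  rwa [(Submodule.equivMapOfInjective ι hι W').finrank_eq, hmap] at h1

end Cfsg.Agent.Lib.K41.Der
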